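import Cfsg.Agent.Lib.AutCert.Engine

/-! Certificate for the automorphisms of the Suzuki sporadic group. -/

set_option autoImplicit false
set_option maxRecDepth 100000

namespace Cfsg.Agent.Lib.SporOutSuz

open Cfsg.Agent.Lib.SporOutHe (WTree Level)

/-- A subtree. -/
def sub0 : WTree :=
  (.node (.node (.node (.node (.node (.node (.node (.word [6,1,2,3,2,1,5,6,4,3,2]) (.word [5,1,0,1,6,2,1,0])) (.node (.word [0,1,5,4,2]) (.word [1,5,6,1,5,4,2,1]))) (.node (.node (.word [1,6,4,3,0,1,2]) (.word [2,1,6,4,3,0])) (.word [1,0,1,6,3,4]))) (.node (.node (.node (.word [3,2,0]) (.word [2,3,2,1,0,1,6,2,1])) (.node (.word [1,6,5,1,2]) (.word [0,1,6,1,5,2,1]))) (.node (.node (.word [1,6,3,0,1,2]) (.word [5,6,1,2,0,1,6])) (.word [5,4,1])))) (.node (.node (.node (.node (.word [1,6,5,4,3,2]) (.word [5,1,0,1,6,4,3])) (.node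 (.word [5,3,4]) (.word [5,0,1,6,4,3,0]))) (.node (.node (.word [6,2,1,0]) (.word [0,1,5,1,2,1])) (.word [2,1,6,0,1,2]))) (.node (.node (.node (.word [5,0]) (.word [1,0,1,6,4,0])) (.node (.word [6,0,1,5,2,0,1,0]) (.word [6,1,0,1,6,3,2,1]))) (.node (.node (.word [5,1,6]) (.word [5,2,1,6,3,4,3])) (.word [4,3,0,1,0]))))) (.node (.node (.node (.node (.node (.word [3,2,0,1,6,4,3,1,2]) (.word [2,0,1,6,5,4,1])) (.node (.word [3,2,0,1,6,4,2]) (.word [3,2,0,1,6,4,0]))) (.node (.node (.word [6,5,3,1,2]) (.word [6,3,1,0,1,0])) (.word [4,2,3,2,1,6]))) (.node (.node (.node (.word [2,1,6,1,5,2]) (.word [0,1,6,5,2,1,6])) (.node (.word [2,1,6,3]) (.word [3,2,3,0,1,0,1,0]))) (.node (.node (.word [4,1,2,3,0,1,2]) (.word [6,3,0,1,0,1,0])) (.word [2,1,6,3,0])))) (.node (.node (.node (.node (.word [6,1,5,3,4,3,2]) (.word [3,2,1,0,1]))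 (.node (.word [1,0,1,2]) (.word [1,6,1,5,3,2,1]))) (.node (.node (.word [1,0,1,5,3,2]) (.word [2,0,1,6,1,5,2,1])) (.word [1,6,0,1,5]))) (.node (.node (.node (.word [6,0,1,5,2]) (.word [2,3,4,1])) (.node (.word [2,0,1,6,4]) (.word [3,2,3,1,0,1]))) (.node (.node (.word [1,5,2,1,6]) (.word [6,3,1,2,0,1,6,4,1])) (.word [3,2,1])))))) (.node (.node (.node (.node (.node (.node (.word [6,1,5,3,2,1,6,4,3,2]) (.word [2,3,2,1,6,2,1])) (.node (.word [5,1,6,2,1,5,2]) (.word [5,1,6,2,3,4,1]))) (.node (.node (.word [4,2]) (.word [2,1,5,6,4,3,1,0])) (.word [1,6,1,2,1,0,1,0]))) (.node (.node (.node (.word [6,0,1,5,3,2]) (.word [5,2,1,6,4,1,0])) (.node (.word [1,6,3,0,1]) (.word [5,0,1,6,2,0,1]))) (.node (.node (.word [5,4,1,0]) (.word [1,5,1,6,2,3,4,1])) (.word [0,1,6,1,5,3])))) (.node (.node (.node (.node (.word [1,6,4,3,2])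 (.word [4,3,1,2,3,4])) (.node (.word [4,0,1,0]) (.word [6,3,0,1,0,1]))) (.node (.node (.word [1,5,2,1,6,4,2]) (.word [2,1,0,1,5,6,2,1])) (.word [1,6,3,4,0]))) (.node (.node (.node (.word [0,1,6,5,4,2]) (.word [3,4,3,1,0])) (.node (.word [3,2,1,6,2,1]) (.word [2,1,6,3,2,0,1]))) (.node (.node (.word [5,1,2]) (.word [2,1,5,1,6,2,1])) (.word [4,3,1]))))) (.node (.node (.node (.node (.node (.word [1,5,6,2]) (.word [2,1,6,2,3,4,0,1])) (.node (.word [2,1,6,1,2,1]) (.word [2,3,4,3,1]))) (.node (.node (.word [1,5,0]) (.word [4,2,3,1])) (.word [5,2,1,6,1,0]))) (.node (.node (.node (.word [5,4,2,0]) (.word [6,1,5,4,1])) (.node (.word [1,2,3,4,2,3,1,2,0]) (.word [5,1,6,3,2,1]))) (.node (.node (.word [2,1,6,2,0]) (.word [5,1,6,2,0,1])) (.word [2,1,5,6,3,1,0])))) (.node (.node (.node (.node (.word [5,3,4,3,2]) (.word [4,2,3,2,1,6,0]))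 (.node (.word [1,6,1,5,3]) (.word [6,1,0,1,6,2,0,1]))) (.node (.node (.word [5,3,2,1,0,1,6]) (.word [5,1,6,1,5,2,1])) (.word [0,1,5,0,1,0]))) (.node (.node (.node (.word [2,3,4,2,0]) (.word [6,5,1,2,0,1])) (.node (.word [1,0,1,6,2,1,5]) (.word [3,1,2,3,1,0,1]))) (.node (.node (.word [5,1,6,5,1,2]) (.word [1,5,2,0,1,6,0])) (.word [0,1,0,1,6,5,2,1])))))))

/-- A subtree. -/
def sub1 : WTree :=
  (.node (.node (.node (.node (.node (.node (.node (.word [2,1,5,6,4,3,2]) (.word [6,5,3,2,1,6,2,1])) (.node (.word [6,3,2,1,5,4,2]) (.word [1,0,1,6,2,1]))) (.node (.node (.word [1,6,3,4,2,0]) (.word [1,2,0,1,6,0])) (.word [2,3,4]))) (.node (.node (.node (.word [0,1,6,5,2]) (.word [6,5,2,1,6,5,2,1])) (.node (.word [6,1,0,1,6]) (.word [5,1,6,1,5,4,2,1]))) (.node (.node (.word [5,4]) (.word [5,2,1,6,3,4,1])) (.word [1,6,0,1,2,1,0]))))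 (.node (.node (.node (.node (.word [5,3,4,3,2,0]) (.word [6,4,3,0,1,0,1,0])) (.node (.word [6,2,1,5]) (.word [1,2,0,1,5,6,3,1,0]))) (.node (.node (.word [2,0,1,6,5,4,2]) (.word [3,4,2,3,1])) (.word [5,1,6,5,3,4]))) (.node (.node (.node (.word [5,4,3,1,2]) (.word [6,2,1,5,2,0,1])) (.node (.word [1,2,3,2,1,6,4,1]) (.word [6,3,2,3,4,1]))) (.node (.node (.word [1,5,3,0]) (.word [6,1,2,1,0,1,6])) (.word [6,5,2,1,6]))))) (.node (.node (.node (.node (.node (.word [2,1,6,5,4,3,2]) (.word [5,2,1,6,4,1])) (.node (.word [2,1,6,3,2,3,4]) (.word [3,2,3,2,1,6,4,0]))) (.node (.node (.word [1,5,6,3]) (.word [3,2,1,0,1,0])) (.word [5,3,2,0,1,6]))) (.node (.node (.node (.word [2,1,6,2,3,1,2]) (.word [6,1,5,2,0,1,6,0])) (.node (.word [5,1,6,1]) (.word [5,0,1,6,3,2,0,1]))) (.node (.node (.word [5,1,6,5]) (.word [6,1,5,4,2,1]))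 (.word [2,1,6,1,0])))) (.node (.node (.node (.node (.word [0,1,6,3,2]) (.word [5,3,2,1,6,5,3,4,3])) (.node (.word [2,1,5,6,3,2,1,0]) (.word [6,3,4,2,3,1]))) (.node (.node (.word [6,5,2,3,4]) (.word [3,2,0,1,0,1,6,2,1])) (.word [5,0,1,6,4]))) (.node (.node (.node (.word [0,1,6,4,3,0,1,2]) (.word [3,4,2,1])) (.node (.word [6,3,1,2,0,1,0]) (.word [6,2,3,2,3,4,3,1]))) (.node (.node (.word [2,0,1,6,4,1,2]) (.word [3,1,2,0,1,6,0])) (.word [2,0,1,6,2,1,0])))))) (.node (.node (.node (.node (.node (.node (.word [2,0,1,5,6,3,2]) (.word [5,0,1,2,0,1,6,1])) (.node (.word [3,2,3,4]) (.word [0,1,6,3,4,3,0]))) (.node (.node (.word [5,6,3,2,1,0]) (.word [6,4,3,0,1])) (.word [5,1,0,1,6]))) (.node (.node (.node (.word [1,5,3,2]) (.word [5,2,0,1,6,2,1])) (.node (.word [5,2,1,6]) (.word [2,0,1,0,1,6,5,4,3]))) (.node (.node (.word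 [4,0]) (.word [0,1,0,1,6,5,4,3])) (.word [5,0,1,6,0])))) (.node (.node (.node (.node (.word [0,1,6,5,3,2]) (.word [6,4,1,0,1,0])) (.node (.word [5,3,4,3,0]) (.word [2,1,0,1,6,4,3]))) (.node (.node (.word [6,0,1,5,4,2]) (.word [5,2,1,6,5,3,4,3])) (.word [3,2,1,6,4,2,0]))) (.node (.node (.node (.word [5,2,1,6,4,2]) (.word [1,6,3,4,3,1])) (.node (.word [2,1,0,1,6,4]) (.word [6,5,2,3,1,0,1,0]))) (.node (.node (.word [2,3,4,2,3,1,2,0]) (.word [1,6,5,3,2,1,6,4])) (.word [2,0,1,6,1]))))) (.node (.node (.node (.node (.node (.word [5,1,6,3,4,3,2]) (.word [1,6,0,1,5,3,4,3])) (.node (.word [6,2,3,0,1,2]) (.word [1,5,4,2,1]))) (.node (.node (.word [2,3,1,2,0]) (.word [6,3,2,1])) (.word [2,1,6,2,1]))) (.node (.node (.node (.word [5,2]) (.word [1,6,4,0,1])) (.node (.word [0,1,5,2,0,1,0]) (.word [5,0,1,6,3,2,1]))) (.node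 (.node (.word [1,5,6,1,0]) (.word [1,6,1,5,2,1])) (.word [6,4,3,1,0])))) (.node (.node (.node (.node (.word [6,3,2,0]) (.word [3,4,2,3,2,1,6])) (.node (.word [5,4,3]) (.word [6,2,3,4,2,3,1]))) (.node (.node (.word [3,2,1,6]) (.word [2,1,6,1,5,3,4,1])) (.word [1,6,3,4,1]))) (.node (.node (.node (.word [2,0,1,6,2]) (.word [1,6,4,2,3,1,0])) (.word [6,4,3,2,3,4,3,0])) (.node (.node (.word [2,1,6,4,1,2]) (.word [3,2,1,6,4,3,0])) (.word [1,6,1,5,3,4,3])))))))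

/-- A subtree. -/
def sub2 : WTree :=
  (.node (.node (.node (.node (.node (.node (.node (.word [3,2,1,5,6,4,3,2]) (.word [3,2,0,1,6,3,4,1])) (.node (.word [2,0,1,5,2]) (.word [0,1,5,6,1,5,2,1]))) (.node (.node (.word [1,6,3,4,2,3,1,2]) (.word [1,0,1,6,3,0])) (.word [5,1,6,2,1,5]))) (.node (.node (.node (.word [2,1,5,1,6,2]) (.word [3,2,1,5,6,1])) (.node (.word [1,2,3,4,2,3,1,2]) (.word [3,1,2,0,1,6,5,2,1]))) (.node (.node (.word [6,3,4,2,3,1,2]) (.word [6,1,2,0,1,6,4])) (.word [6,0,1,2,1,0])))) (.node (.node (.node (.node (.word [3,2,1,6,4,2,3,1,2]) (.word [0,1,0,1,6,4,3])) (.node (.word [2,1,6,4,2,0]) (.word [2,1,0,1,6,3,0]))) (.node (.node (.word [2,1,0]) (.word [1,2,0,1,6,2,1,0])) (.word [1,6,1,5,4,1]))) (.node (.node (.node (.word [3,1,2]) (.word [2,1,6,4,1,0])) (.node (.word [6,0,1,5,2,1,6]) (.word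 [2,1,0,1,6,3,2,1]))) (.node (.node (.word [6,4,3]) (.word [6,1,2,0,1,6,3,4])) (.word [1,5,6,3,1]))))) (.node (.node (.node (.node (.node (.word [3,2,1,6,4,3,2]) (.word [3,2,1,6,4,1])) (.node (.word [1,2,0,1,6,2,1,5,2]) (.word [3,2,1,6,4,1,0]))) (.node (.node (.word [6,5,4,2,3,1,2]) (.word [1,5,2,0,1,6])) (.word [2,3,2,1,6,5,3,4,3]))) (.node (.node (.node (.word [1,6,3,1,2]) (.word [5,1,0,1,6,2,1])) (.node (.word [2,0,1,6]) (.word [5,3,2,3,1,0,1,0]))) (.node (.node (.word [3,2,0,1,0]) (.word [4,3,0,1,0,1,0])) (.word [1,0,1,6,0])))) (.node (.node (.node (.node (.word [1,6,5,3,4,3,2]) (.word [1,6,5,1,6,2,0,1])) (.node (.word [6,0,1,2,0]) (.word [6,1,0,1,5,6,2,1]))) (.node (.node (.word [0,1,6,3,0,1,2]) (.word [3,2,0,1,6,3,4])) (.word [2,0,1,5,4]))) (.node (.node (.node (.word [1,5,2,3,4,3,2]) (.word [5,6,4,1]))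 (.node (.word [6,2,0,1,5,3,4]) (.word [6,1,5,6,1,5,2,1]))) (.node (.node (.word [6,1,5,2,1,6,2]) (.word [6,5,1,2,0,1,6,1])) (.word [1,6,1,5,2,1,6])))))) (.node (.node (.node (.node (.node (.node (.word [2,1,6,1,5,4,3,2]) (.word [5,3,1,2,0,1,6,1])) (.node (.word [5,2,3,4]) (.word [5,2,1,6,3,4,0]))) (.node (.node (.word [4,3,1,0,1,2]) (.word [0,1,0,1,6,3])) (.word [3,2,1,6,5,3,4,3]))) (.node (.node (.node (.word [6,1,2,3,4,3,2]) (.word [1,5,3,2,1,6,1])) (.node (.word [3,0,1,0]) (.word [1,5,6,2,3,4,1]))) (.node (.node (.word [5,3,4,0]) (.word [5,1,2,0,1,6,2,1])) (.word [1,6,2,3,1])))) (.node (.node (.node (.node (.word [1,5,1,6,2]) (.word [1,0,1,6,3,4,0])) (.node (.word [5,6,2,3,4,3]) (.word [6,2,3,1,0,1,0]))) (.node (.node (.word [6,3,4,1,2]) (.word [1,6,3,4,2,3,1])) (.word [1,6,4,1,0]))) (.node (.node (.node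 (.word [0,1,6,1,2]) (.word [6,3,2,3,4,3])) (.node (.word [2,1,6,1,5,3,4]) (.word [5,6,2,3,4,1]))) (.node (.node (.word [5,2,3,1,2]) (.word [5,1,2,0,1,6,0])) (.word [6,3,1]))))) (.node (.node (.node (.node (.node (.word [1,5,2,1,6,4,3,2]) (.word [6,1,0,1,2,0,1])) (.node (.word [5,2,1,6,0,1,2]) (.word [2,3,4,0,1]))) (.node (.node (.word [1,2,0]) (.word [0,1,2,0,1,6])) (.word [1,5,2,1,6,5]))) (.node (.node (.node (.word [4,3,0,1,2,0]) (.word [1,6,5,3,4,1])) (.node (.word [6,1,2,0,1,0]) (.word [2,1,0,1,6,2,1]))) (.node (.node (.word [5,2,3,0,1,2]) (.word [1,5,4,0,1])) (.word [0,1,0,1,6])))) (.node (.node (.node (.node (.word [3,4,3,2]) (.word [4,3,2,1,6,4,1])) (.node (.word [0,1,6,5,1]) (.word [0,1,6,5,4,2,1]))) (.node (.node (.word [1,6,2,3,4,1,2]) (.word [5,1,2,0,1,6,1])) (.word [1,5,3,4,3,0]))) (.node (.node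 (.node (.word [0,1,6,4,2]) (.word [0,1,0,1,6,5,3])) (.node (.word [6,1,5,6,4,3,1,0]) (.word [1,2,3,0,1,0,1]))) (.node (.node (.word [3,1,2,0,1,6,5]) (.word [2,0,1,0,1,6,2,1])) (.word [1,5,3,2,1])))))))

/-- A subtree. -/
def sub3 : WTree :=
  (.node (.node (.node (.node (.node (.node (.node (.word [2,1,5,6,3,4,3,2]) (.word [3,2,3,2,1,6,4,3,0])) (.node (.word [0,1,5,4,1,2]) (.word [6,1,2,0,1,6,1]))) (.node (.node (.word [1,5,6,4]) (.word [2,0,1,5,6,3,1,0])) (.word [3,1,2,3,4,0]))) (.node (.node (.node (.word [1,6,3,4,2]) (.word [1,2,3,2,0,1,6])) (.node (.word [6,3,1,0]) (.word [6,0,1,2,0,1,6,1]))) (.node (.node (.word [2,3,1,0,1,2]) (.word [6,1,5,3,4,1])) (.word [1,0,1,2,0,1])))) (.node (.node (.node (.node (.word [5,4,3,2]) (.word [6,3,2,1,0,1,0])) (.node (.word [1,5,6,3,4,3]) (.word [1,2,1,0,1,6,4,3])))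 (.node (.node (.word [2,0,1,6,1,2]) (.word [0,1,0,1,5,6,2,1])) (.word [6,1,5,4]))) (.node (.node (.node (.word [6,2,0,1,0]) (.word [6,1,5,2,0,1])) (.node (.word [1,5,3,2,1,6,5]) (.word [3,1,2,0,1,6,4,0]))) (.node (.node (.word [1,6,1]) (.word [5,1,6,5,4,2,1])) (.word [5,1,0,1,0]))))) (.node (.node (.node (.node (.node (.word [6,5,4,3,2]) (.word [6,3,4,1,2,1])) (.node (.word [2,3,2,1,6]) (.word [2,0,1,6,3,4,3]))) (.node (.node (.word [6,3]) (.word [0,1,6,4,3,1])) (.word [5,2,1,6,5,2,1]))) (.node (.node (.node (.word [5,3,4,2]) (.word [2,1,6,0,1,2,1])) (.node (.word [0,1,2,1]) (.word [1,6,5,4,2,1]))) (.node (.node (.word [5,3]) (.word [6,3,4,3,1,0,1])) (.word [1,5,0,1,2,1])))) (.node (.node (.node (.node (.word [2,1,6,3,1,2]) (.word [1,2,1,0,1,6])) (.node (.word [1,0,1,6,5]) (.word [1,0,1,5,6,2,1]))) (.node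 (.node (.word [0,1,5,1,2]) (.word [2,1,6,1,5,4,2,1])) (.word [0,1,6,0,1,5]))) (.node (.node (.node (.word [5,6,1,5,2]) (.word [2,1,5,2,0,1])) (.node (.word [6,4,3,2,3,4]) (.word [5,6,2,3,4,3,1]))) (.node (.node (.word [3,2,1,6,1,5]) (.word [4,3,2,0,1,6,4,0])) (.word [0,1,5,1,2,0,1,0])))))) (.node (.node (.node (.node (.node (.node (.word [2,1,5,1,6,3,2]) (.word [5,2,0,1,6,4])) (.node (.word [6,3,2,1,5,6,1,0]) (.word [1,5,6,3,4,1]))) (.node (.node (.word [6,5,3]) (.word [5,0,1,6,4,3])) (.word [6,3,2,1,0,1,6]))) (.node (.node (.node (.word [1,6,5,3,4,2]) (.word [2,0,1,6,2,1])) (.node (.word [4,3]) (.word [5,1,6,4,2,0,1]))) (.node (.node (.word [2,3,4,1,2]) (.word [2,0,1,0,1,6,4,3])) (.word [6,5,1])))) (.node (.node (.node (.node (.word [1,6,3,4,3,2]) (.word [1,2,3,4])) (.node (.word [3,4,0]) (.word [6,3,2,0,1])))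 (.node (.node (.word [6,2,0,1,5,2]) (.word [6,3,1,2,0,1,6,4])) (.word [2,1,5,6,4,1,0]))) (.node (.node (.node (.word [5,1,6,3,2,0,1,0]) (.word [2,1,6,3,4,1])) (.node (.word [3,2,1,6,2,3,4]) (.word [6,3,2,3,1,0,1]))) (.node (.node (.word [1,6,1,2,0,1,0]) (.word [3,2,1,0,1,6,2,1])) (.word [5,6,1]))))) (.node (.node (.node (.node (.node (.word [6,1,5,4,3,2]) (.word [3,2,0,1,5,4,2])) (.node (.word [5,1,6,5,4]) (.word [2,1,0,1,6,3,2,1,0]))) (.node (.node (.word [5,4,2,3,1,2]) (.word [3,2,0,1])) (.word [1,6,2,1,0,1,6]))) (.node (.node (.node (.word [5,4,3,0,1,2]) (.word [2,1,6,3,4,0])) (.node (.word [0,1,5,2,1,6]) (.word [0,1,6,4,2,0,1]))) (.node (.node (.word [6,1,5,3]) (.word [6,5,1,6,2,0,1])) (.word [1,6,4,3,0,1])))) (.node (.node (.node (.node (.word [6,2]) (.word [3,2,1,6,5,4,1,2])) (.node (.word [2,1,6,0])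 (.word [1,2,1,0,1,6,2,1]))) (.node (.node (.word [2,1,0,1,6,2]) (.word [6,5,3,2,1,6,4])) (.word [6,4,1]))) (.node (.node (.node (.word [0,1,0,1,6,3,2]) (.word [0,1,6,4,2,3,1])) (.word [2,1,5,4])) (.node (.node (.word [1,6,3,1,2,0,1,0]) (.word [0,1,6,0,1,2,1])) (.word [2,1,6,5,3,4,3])))))))

/-- A subtree. -/
def sub4 : WTree :=
  (.node (.node sub0 sub1) (.node sub2 sub3))

/-- A subtree. -/
def sub5 : WTree :=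
  (.node (.node (.node (.node (.node (.node (.node (.word [2,3,2,1,5,6,4,3,2]) (.word [2,3,2,1,6,4,1])) (.node (.word [1,6,2,0,1,5,2]) (.word [1,6,2,3,4,3,1]))) (.node (.node (.word [6,4,2,3,1,2]) (.word [0,1,5,4,3])) (.word [1,6,1,2,3,4]))) (.node (.node (.node (.word [4,3,1,2,0]) (.word [1,2,0,1,6,3,4])) (.node (.word [5,0,1,2,1]) (.word [5,1,2,1,0,1,6,2,1]))) (.node (.node (.word [6,2,3,1,2]) (.word [3,2,0,1,6,4,1])) (.word [3,4,1,2,1])))) (.node (.node (.node (.node (.word [2,1,6,5,3,2]) (.word [0,1,6,2,1,5,4])) (.node (.word [1,5,4]) (.word [1,0,1,6,4,3,0]))) (.node (.node (.word [1,6,2,0,1,0]) (.word [6,1,5,3,2,1])) (.word [1,0,1,6,5,4]))) (.node (.node (.node (.word [2]) (.word [1,5,6,4,1])) (.node (.word [5,6,1,5,2,0,1,0]) (.word [6,2,3,4,3,1]))) (.node (.node (.word [1,5,1,0]) (.word [6,3,2,1,0,1,6,2,1]))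 (.word [4,3,1,0]))))) (.node (.node (.node (.node (.node (.word [1,2,0,1,6,5,3,2]) (.word [3,2,0,1,6,4])) (.node (.word [2,1,0,1,6,4,2]) (.word [2,3,2,1,6,4,0]))) (.node (.node (.word [5,3,0,1,2]) (.word [2,3,1,0,1,0])) (.word [5,1,6,2,1,0,1,0]))) (.node (.node (.node (.word [1,6,5,2]) (.word [1,0,1,5,2,1,6,1,0])) (.node (.word [3,1]) (.word [4,1,2,3,0,1]))) (.node (.node (.word [6,3,2,1,0]) (.word [6,4,3,1,0,1,0])) (.word [0,1,5,3])))) (.node (.node (.node (.node (.word [6,2,3,4,3,2]) (.word [6,3,4,1,0,1])) (.node (.word [5,4,1,2]) (.word [3,2,1,0,1,6,2,1,0]))) (.node (.node (.word [5,6,1,5,4,2]) (.word [2,3,2,1,6,3,4])) (.word [6,1,5,1]))) (.node (.node (.node (.word [0,1,5,3,2]) (.word [6,4,0,1])) (.node (.word [2,1,6,4,1,2,1]) (.word [3,2,3,4,3,0,1]))) (.node (.node (.word [6,1,5,2,0,1,0]) (.word [2,0,1,6,5,2,1]))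 (.word [1,5,1,2,1])))))) (.node (.node (.node (.node (.node (.node (.word [2,1,5,1,6,3,4,3,2]) (.word [4,3,2,1,0,1,6,1,2])) (.node (.word [6,1,5,0,1,0]) (.word [1,6,3,4,2,3,1,0]))) (.node (.node (.word [3,4,1,2]) (.word [6,2,1,5,6,3,1,0])) (.word [5,2,1,6,5,4]))) (.node (.node (.node (.word [5,2,3,4,3,2]) (.word [0,1,6,2,3,4,1])) (.node (.word [5,4,3,1,0]) (.word [1,2,3,2,1,6,4,0]))) (.node (.node (.word [5,6,3,4,3]) (.word [6,0,1,2,0,1])) (.word [1,6,2,3,1,0])))) (.node (.node (.node (.node (.word [4,3,2,0]) (.word [0,1,6,5,3,4,1])) (.node (.word [4,1,0]) (.word [1,5,6,3,4,3,1]))) (.node (.node (.word [2,1,6,4,2]) (.word [6,1,0,1,5,2,1,6])) (.word [0,1,6,4,0]))) (.node (.node (.node (.word [2,1,6,2,3,4,3,2]) (.word [0,1,2,0,1])) (.node (.word [3,2,1,0,1,6,1,2]) (.word [2,3,4,3,0,1]))) (.node (.node (.word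 [6,1,2,0]) (.word [5,4,3,2,1,6,0])) (.word [2,0,1,6,3]))))) (.node (.node (.node (.node (.node (.word [5,1,6,4,3,2]) (.word [5,1,6,2,3,4,0,1])) (.node (.word [2,0,1,0,1,6,2]) (.word [6,2,3,4,1]))) (.node (.node (.word [2,1,6,2]) (.word [3,1,0,1])) (.word [5,3,2,1,6,1]))) (.node (.node (.node (.word [3,4,2,0]) (.word [5,1,6,5,3,4,3])) (.node (.word [1,6,3,4,2,3,1,2,0]) (.word [5,3,2,0,1,6,4,0]))) (.node (.node (.word [1,6,5,3,1,2]) (.word [6,4,1,2,0,1])) (.word [6,1,0,1,6,3])))) (.node (.node (.node (.node (.word [6,3,4,2]) (.word [4,3,2,0,1,6,4])) (.node (.word [5,1,6,5,3]) (.word [1,0,1,6,4,2,0,1]))) (.node (.node (.word [2,0,1,6,4,2]) (.word [1,2,3,2,1,6,2,1])) (.word [1,6,3,4,3]))) (.node (.node (.node (.word [1,6,5,4,2]) (.word [3,1,2,0,1])) (.node (.word [2,1,6,1,5,1,2]) (.word [6,3,2,3,4,3,1]))) (.node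 (.node (.word [5,2,1,0,1,6,4]) (.word [1,0,1,6,4,2,1])) (.word [5,1,6,0,1,2,0,1,0])))))))

/-- A subtree. -/
def sub6 : WTree :=
  (.node (.node (.node (.node (.node (.node (.node (.word [3,2,1,5,1,6,3,4,3,2]) (.word [2,3,2,1,6,5,2,1])) (.node (.word [2,1,5,4,2]) (.word [0,1,6,0,1,2,0,1]))) (.node (.node (.word [6,4,3,1,0,1,2]) (.word [6,1,0,1])) (.word [6,0,1,5,2,1]))) (.node (.node (.node (.word [1,0,1,6,4,3,1,2]) (.word [5,1,6,4,2,1])) (.node (.word [6,0,1,5,3]) (.word [1,5,1,2,0,1,6,0]))) (.node (.node (.word [6,2,3,4,1,2]) (.word [1,6,3,4,1,2,1])) (.word [2,1,5,3,4,1])))) (.node (.node (.node (.node (.word [6,5,3,2]) (.word [4,3,2,3,4,3])) (.node (.word [3,2,1,5]) (.word [2,1,6,3,2,3,4,3]))) (.node (.node (.word [2,1,6,2,3,4,2]) (.word [1,0,1,6,5,2,1])) (.word [5,1,6,4,0]))) (.node (.node (.node (.word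 [6,4,3,1,2,0]) (.word [5,3,1,2,0,1])) (.node (.word [2,1,0,1,6,4,1,2]) (.word [0,1,6,2,0,1]))) (.node (.node (.word [0,1,6]) (.word [1,2,1,0,1,6,0])) (.word [0,1,0,1,0]))))) (.node (.node (.node (.node (.node (.word [5,6,3,4,3,2]) (.word [1,6,4,1,2,1])) (.node (.word [5,2,1,6,2,1,5]) (.word [5,0,1,6,3,4,3]))) (.node (.node (.word [5,1,0]) (.word [1,0,1,6,4,3])) (.word [2,3,2,1,6,0]))) (.node (.node (.node (.word [6,5,4,2]) (.word [1,5,6,1,2,0,1])) (.node (.word [2,1]) (.word [0,1,6,3,2,0,1]))) (.node (.node (.word [6,5,4,3]) (.word [2,3,2,1,0,1])) (.word [0,1,5,1])))) (.node (.node (.node (.node (.word [1,0,1,6,4,3,2]) (.word [3,1,2,0,1,0,1,6])) (.node (.word [2,1,5,3,4]) (.word [1,0,1,6,5,3,2,1]))) (.node (.node (.word [2,1,5,2]) (.word [2,1,6,1,5,2,1])) (.word [4,1,0,1,0]))) (.node (.node (.node (.word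 [3,2,3,4,3,2,0]) (.word [2,3,2,1])) (.node (.word [1,6,2,0,1,5,4,2]) (.word [1,0,1,6,2,0,1]))) (.node (.node (.word [3,2,0,1,6,5]) (.word [6,5,1,6,4,2,1])) (.word [1,0,1,5,2,0,1,0])))))) (.node (.node (.node (.node (.node (.node (.word [1,5,6,3,2]) (.word [2,0,1,6,2,3,4])) (.node (.word [1,6,0,1,5,2,1]) (.word [1,6,3,4,3,1,0]))) (.node (.node (.word [5,3,2,1,0]) (.word [5,6,3,1])) (.word [2,0,1,5,6,1,0]))) (.node (.node (.node (.word [2,3,4,3,2]) (.word [2,3,2,1,6,4,3,0])) (.node (.word [1,0,1,0]) (.word [1,2,0,1,0,1,6,4,3]))) (.node (.node (.word [0,1,2,0]) (.word [0,1,6,3,4,2,3,1])) (.word [6,5,1,6,0])))) (.node (.node (.node (.node (.word [2,0,1,6,3,1,2]) (.word [1,2,1,0,1])) (.node (.word [3,4]) (.word [4,2,3,0,1]))) (.node (.node (.word [5,1,2,3,4,2]) (.word [1,2,0,1,6,2,1])) (.word [6,4,0,1,2,1])))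 (.node (.node (.node (.word [1,6,3,4,1,2]) (.word [2,0,1,6,3,4])) (.node (.word [5,2,1,6,4]) (.word [1,2,0,1,5,6,4,3,1,0]))) (.node (.node (.word [1,6,4,2,3,1,2,0]) (.word [5,0,1,2,0,1,6,2,1])) (.word [6,0,1]))))) (.node (.node (.node (.node (.node (.word [5,2,1,6,3,2]) (.word [1,0,1,6,2,1,5,4])) (.node (.word [0,1,6,5,4]) (.word [2,1,5,0,1]))) (.node (.node (.word [4,2,3,0,1,2]) (.word [2,1,0,1])) (.word [6,5,1,0,1,6,2,1]))) (.node (.node (.node (.word [6,5,4,3,1,2]) (.word [1,6,3,4,3,0])) (.node (.word [1,5,1,2,0,1,0]) (.word [1,5,2,0,1,6,3,4]))) (.node (.node (.word [6,1,0]) (.word [5,3,4,0,1])) (.word [1,5,3,0,1,0])))) (.node (.node (.node (.node (.word [1,6,4,3,2,0]) (.word [5,4,3,2,1,6,1])) (.node (.word [1,5,3]) (.word [6,2,1,0,1,6,2,1]))) (.node (.node (.word [2,1,6,1,2]) (.word [3,2,1,6,2,3,4,1]))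 (.word [1,0,1,6,4]))) (.node (.node (.node (.word [1,0,1,6,2]) (.word [6,2,3,1])) (.word [6,2,3,2,1,0,1,0])) (.node (.node (.word [6,2,1,5,3,4]) (.word [5,2,0,1,6,3,4,3])) (.word [0,1,0,1,5,2,1,6,2])))))))

/-- A subtree. -/
def sub7 : WTree :=
  (.node (.node (.node (.node (.node (.node (.node (.word [2,3,2,1,5,1,6,3,4,3,2]) (.word [1,2,0,1,6,3,4,1])) (.node (.word [1,0,1,5,2]) (.word [5,1,0,1,6,3,2,1]))) (.node (.node (.word [6,4,2,0]) (.word [2,1,0,1,6,0])) (.word [1,6,2,3,4,0]))) (.node (.node (.node (.word [1,0,1,6,5,3,2]) (.word [5,2,0,1,6,5,2,1])) (.node (.word [2,1,5,6,1,0]) (.word [2,0,1,6,3,4,3,0]))) (.node (.node (.word [6,5,3,4]) (.word [2,0,1,6,4,2,1])) (.word [0,1,6,3,2,1,0])))) (.node (.node (.node (.node (.word [5,6,3,4,2]) (.word [5,1,6,2,1,5,4])) (.node (.word [6,1,0,1,2]) (.word [6,1,2,0,1,6,0])))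 (.node (.node (.word [1,5,2,1,6,2]) (.word [3,2,1,0,1,6,0])) (.word [2,1,6,5,3,4]))) (.node (.node (.node (.word [4,3,0,1,2]) (.word [0,1,5,4,1])) (.node (.word [2,0,1,6,1,5]) (.word [1,0,1,6,3,2,1]))) (.node (.node (.word [1,6,3]) (.word [0,1,2,0,1,6,3,4])) (.word [3,1,0,1,0]))))) (.node (.node (.node (.node (.node (.word [2,1,6,1,5,3,2]) (.word [2,0,1,6,4,1])) (.node (.word [2,0,1,6,2,1,5]) (.word [0,1,6,4,0,1,2,1]))) (.node (.node (.word [5,4,2,3,0,1,2]) (.word [0,1,0,1])) (.word [3,2,1,6,3,4,2,3,1]))) (.node (.node (.node (.word [5,1,6,4,3,0,1,2]) (.word [1,2,0,1,6,2,3,4])) (.node (.word [2,1,6,1]) (.word [3,2,3,4,0,1]))) (.node (.node (.word [0,1,6,5]) (.word [5,4,3,1,0,1,0])) (.word [1,5,6,1])))) (.node (.node (.node (.node (.word [0,1,6,3,4,3,2]) (.word [2,1,6,1,5,4,1])) (.node (.word [2,3,4,2,3,0,1,2,0])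 (.word [5,6,1,5,4,2,1]))) (.node (.node (.word [1,2,3,4,1,2]) (.word [1,2,0,1,6,3,4,3,1])) (.word [1,2,0,1,5]))) (.node (.node (.node (.word [6,1,2,3,4,2]) (.word [4,2,0,1])) (.node (.word [2,1,6,3,4,0,1]) (.word [1,0,1,6,3,2,0,1]))) (.node (.node (.word [2,3,2,1,6,5]) (.word [2,1,6,3,2,1])) (.word [6,1,2,1,0,1,0])))))) (.node (.node (.node (.node (.node (.node (.word [3,2,1,6,5,4,3,2]) (.word [2,1,6,5,3,4,1])) (.node (.word [3,2,3,4,0]) (.word [5,3,2,1,6,4,0]))) (.node (.node (.word [4,2,3,0,1,2,0]) (.word [6,4,2,3,1,0])) (.word [3,2,0,1,0,1,6]))) (.node (.node (.node (.word [6,1,5,2]) (.word [6,5,2,1,6,2,1])) (.node (.word [3,1,0]) (.word [0,1,0,1,6,2,0,1]))) (.node (.node (.word [4]) (.word [1,0,1,6,5,3,4,3])) (.word [5,1,6,3,0])))) (.node (.node (.node (.node (.word [1,5,2,1,6,3,2]) (.word [6,0,1,0,1,0]))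 (.node (.word [5,2,3,4,0]) (.word [2,3,0,1,0,1,0]))) (.node (.node (.word [1,6,3,2,0,1,0]) (.word [2,0,1,6,3,4,2,3,1])) (.word [1,5,4,1]))) (.node (.node (.node (.word [1,6,3,2,3,4,3,2,0]) (.word [0,1,6,3,4,3])) (.node (.word [0,1,5,2,1,6,4]) (.word [1,2,0,1,0,1,6,5,3]))) (.node (.node (.word [3,4,2,3,0,1,2]) (.word [3,4,2,3,2,1,6,1])) (.word [2,3,1]))))) (.node (.node (.node (.node (.node (.word [2,0,1,6,5,3,2]) (.word [1,2,3,2,1,6,3,4])) (.node (.word [6,0,1,2]) (.word [6,4,2,0,1]))) (.node (.node (.word [2,3,1,2]) (.word [1,2,0,1,6,1])) (.word [2,0,1,6,1,2,1]))) (.node (.node (.node (.word [6,5]) (.word [5,2,1,6,4,0])) (.node (.word [2,1,6,2,1,0]) (.word [2,0,1,6,3,2,1]))) (.node (.node (.word [2,3,4,2,3,1,2]) (.word [1,2,3,4,1])) (.word [6,0,1,5,4,3])))) (.node (.node (.node (.node (.word [2,1,5,6,4,2])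 (.word [4,2,3,2,0,1,6])) (.node (.word [1,6,5,1]) (.word [6,1,2,0,1,6,4,1]))) (.node (.node (.word [1,5,3,2,1,6]) (.word [2,0,1,6,5,3,4,1])) (.word [0,1,6,3,4]))) (.node (.node (.node (.word [1,6,2,3,4,3,1,2]) (.word [1,0,1,6,5,4,3])) (.word [1,6,2,1,5,4])) (.node (.node (.word [3,2,1,6,4,2]) (.word [5,0,1,6,2,1])) (.word [5,1,2,1,0,1,0])))))))

/-- A subtree. -/
def sub8 : WTree :=
  (.node (.node (.node (.node (.node (.node (.node (.word [2,1,5,6,3,2]) (.word [3,2,0,1,6,2,1])) (.node (.word [0,1,6,2,1,5,2]) (.word [1,5,2,1,6,3,4,0]))) (.node (.node (.word [6,4]) (.word [1,6,3,2,3,4,3])) (.word [3,1,2,3,4]))) (.node (.node (.node (.word [2,1,5,1,6,4,2]) (.word [5,3,2,1,6,0])) (.node (.word [1,5,0,1,0]) (.word [0,1,6,4,2,1]))) (.node (.node (.word [1,5,6,3,4]) (.word [0,1,5,3,4,1])) (.word [0,1,0,1,6,5]))))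 (.node (.node (.node (.node (.word [6,3,2]) (.word [2,3,1,2,3,4,0])) (.node (.word [2,0,1,5]) (.word [5,6,4,3,1]))) (.node (.node (.word [5,1,6,2,3,4,2,0]) (.word [1,6,2,3,4,3,0,1])) (.word [6,3,4,3,0]))) (.node (.node (.node (.word [5,1,6,2,0,1,0]) (.word [5,1,6,3,4,3])) (.node (.word [3,2,0,1,6,1,2,1]) (.word [6,0,1,5,6,2,1]))) (.node (.node (.word [0,1,2]) (.word [4,3,2,0,1,6,4,1])) (.word [2,1,6,4,3]))))) (.node (.node (.node (.node (.node (.word [6,4,3,2]) (.word [6,2,1,5,3,4,1])) (.node (.word [2,0,1,6,5]) (.word [6,3,4,3,1]))) (.node (.node (.word [1,6]) (.word [6,4,3,1])) (.word [2,3,2,0,1,6]))) (.node (.node (.node (.word [5,6,4]) (.word [0,1,6,5,3,4,3])) (.node (.word [6,1,2,1,0]) (.word [1,0,1,6,0,1,2,1]))) (.node (.node (.word [1,5]) (.word [5,6,1,2,0,1])) (.word [1,6,2,3,4,3])))) (.node (.node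 (.node (.node (.word [6,5,3,4,2]) (.word [1,5,2,1,6,1])) (.node (.word [1,6,1,5,1]) (.word [1,0,1,6,1,5,4,2,1]))) (.node (.node (.word [1,6,3,1,0,1,2]) (.word [3,2,1,6,3,4,3,1])) (.word [5,6,3,2,3,4,3]))) (.node (.node (.node (.word [1,6,2,3,4,2]) (.word [1,0,1,6,3,2,1,0])) (.node (.word [1,0,1,5,4,2]) (.word [1,6,5,3,2,3,1,0,1,0]))) (.node (.node (.word [1,6,1,5,4,1,2]) (.word [3,0,1,2,0,1,6,1])) (.word [6,1,5,1,2,0,1,0])))))) (.node (.node (.node (.node (.node (.node (.word [1,5,3,2,1,6,4,3,2]) (.word [1,6,1,5,2,1,6,4])) (.node (.word [3,2,1,0,1,6]) (.word [1,6,2,0,1]))) (.node (.node (.word [5]) (.word [6,5,1,6,4,3])) (.word [4,3,2,1,6,4]))) (.node (.node (.node (.word [0,1,6,3,4,2]) (.word [1,6,2,1])) (.node (.word [4,3,0]) (.word [6,2,3,0,1,0,1,0]))) (.node (.node (.word [6,3,0,1,2,0]) (.word [1,0,1,6,3,4,3,0]))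 (.word [1,5,4,3])))) (.node (.node (.node (.node (.word [2,1,6,3,2]) (.word [6,1,5,2,1])) (.node (.word [1,6,4,1]) (.word [1,0,1,5,1,2,1]))) (.node (.node (.word [0,1,5,2]) (.word [5,2,3,2,1,6,3,4])) (.word [6,2,1,5,4]))) (.node (.node (.node (.word [6,3,2,3,4,3,2,0]) (.word [5,1,6,3,4,1])) (.node (.word [3,2,1,6,4,1,2]) (.word [2,3,0,1,0,1]))) (.node (.node (.word [1,5,2,0,1,0]) (.word [0,1,6,5,2,1,6,4])) (.word [2,0,1]))))) (.node (.node (.node (.node (.node (.word [1,6,1,5,3,2]) (.word [1,0,1,6,5,3,4])) (.node (.word [6,5,3,4,3]) (.word [2,1,0,1,6,5,4,3]))) (.node (.node (.word [6,4,2,3,1,2,0]) (.word [5,3,2,1])) (.word [6,1,5,2,1,6,1,0]))) (.node (.node (.node (.word [5,6,3]) (.word [0,1,5,3,4])) (.node (.word [1,2,1,0,1,0]) (.word [0,1,6,3,2,1]))) (.node (.node (.word [6,3,0,1,0]) (.word [5,1,6,3,2,0,1]))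 (.word [2,3,0,1,0])))) (.node (.node (.node (.node (.word [1,6,3,2]) (.word [2,0,1,6,5,3,4,3])) (.node (.word [0,1,5]) (.word [6,1,2,0,1,6,2,1]))) (.node (.node (.word [6,1,2]) (.word [1,6,5,2,1,6,4])) (.word [4,0,1]))) (.node (.node (.node (.word [6,3,1,2]) (.word [6,5,2,1])) (.word [2,0,1,6,0,1,2])) (.node (.node (.word [6,2,0,1,5,4,2]) (.word [1,6,3,2,1])) (.word [1,6,2,1,5,3,4,1])))))))

/-- A subtree. -/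
def sub9 : WTree :=
  (.node (.node sub5 sub6) (.node sub7 sub8))

/-- A subtree. -/
def sub10 : WTree :=
  (.node (.node (.node (.node (.node (.node (.node (.word [1,2,3,2,1,5,6,4,3,2]) (.word [3,1,2,0,1,6,5,1])) (.node (.word [2,1,0,1,5,3,2]) (.word [6,1,0,1,6,2,1]))) (.node (.node (.word [6,4,3,0,1,2]) (.word [1,6,4,3,1,0])) (.word [0,1,6,2,1,5]))) (.node (.node (.node (.word [4,3,1,2]) (.word [3,2,1,0,1,5,6,2,1])) (.node (.word [6,5,1,2,1]) (.word [2,0,1,6,3,4,3,1]))) (.node (.node (.word [6,3,0,1,2]) (.word [2,3,2,0,1,6,4])) (.word [4,0,1,2,1])))) (.node (.node (.node (.node (.word [2,0,1,6,3,2]) (.word [1,0,1,6,3,4,3])) (.node (.word [1,6,4,0]) (.word [6,5,3,2,1]))) (.node (.node (.word [5,2,0,1,0]) (.word [1,6,0,1,2,0,1,0])) (.word [6,0,1,2,1]))) (.node (.node (.node (.word [1,6,2]) (.word [2,0,1,6,4,0]))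 (.node (.word [6,1,5,3,4,3]) (.word [1,6,3,2,3,4,3,1]))) (.node (.node (.word [0,1,0]) (.word [2,1,6,5,4,2,1])) (.word [1,5,4,3,1,0]))))) (.node (.node (.node (.node (.node (.word [1,5,1,6,3,4,3,2]) (.word [6,5,1,2,0,1,6])) (.node (.word [4,3,2,1,6]) (.word [2,1,5,6,4,1]))) (.node (.node (.word [2,1,6,3,2,0]) (.word [3,0,1,0,1,0])) (.word [4,3,2,1,6,1]))) (.node (.node (.node (.word [0,1,6,2]) (.word [1,6,5,2,1,0,1,0])) (.node (.word [1,6,3,1]) (.word [4,3,0,1,0,1]))) (.node (.node (.word [1,5,6,3,2,1,0]) (.word [3,2,3,4,3,0])) (.word [1,6,3,1,0])))) (.node (.node (.node (.node (.word [6,1,5,3,2]) (.word [1,5,3,4,0,1])) (.node (.word [4,1,2,1]) (.word [1,2,1,0,1,6,2,1,0]))) (.node (.node (.word [6,2,1,5,4,2]) (.word [3,2,1,6,3,4,1])) (.word [6,0,1,5,4]))) (.node (.node (.node (.word [6,2,3,4,2,0]) (.word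 [5,3,4,1])) (.node (.word [2,1,6,4,1]) (.word [2,3,2,3,4,3,1]))) (.node (.node (.word [1,2,0,1,0]) (.word [6,5,2,1,6,4,0])) (.word [5,2,1])))))) (.node (.node (.node (.node (.node (.node (.word [3,2,0,1,6,5,4,3,2]) (.word [5,3,2,1,6,2,1])) (.node (.word [1,6,2,1,5]) (.word [2,0,1,6,0,1,2,1]))) (.node (.node (.word [4,2,0]) (.word [1,2,1,0,1,6,3])) (.word [2,0,1,6,5,4]))) (.node (.node (.node (.word [6,2,3,4,3,2,0]) (.word [5,2,0,1,6,0])) (.node (.word [6,4,3,0,1,0]) (.word [6,5,1,2,0,1,6,0]))) (.node (.node (.word [5,6,2,3,4]) (.word [6,3,1,2,0,1])) (.word [0,1,6,5,4,3])))) (.node (.node (.node (.node (.word [4,3,2]) (.word [1,6,2,1,0,1,0])) (.node (.word [1,5,4,1,0]) (.word [6,2,3,1,0,1]))) (.node (.node (.word [5,3,2,1,6,4,2]) (.word [0,1,2,0,1,6,4,1])) (.word [1,5,3,4]))) (.node (.node (.node (.word [2,1,6,3,4,2])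 (.word [5,0,1,6,3,4])) (.node (.word [2,1,6,1,5,4,1,2]) (.word [5,6,3,4,3,1]))) (.node (.node (.word [1,2,1,0]) (.word [2,1,6,3,4,2,1])) (.word [1,0,1,6,3]))))) (.node (.node (.node (.node (.node (.word [1,5,1,6,3,2]) (.word [2,0,1,5,3,4,1])) (.node (.word [0,1,6,5,1,2]) (.word [2,1,6,2,3,4,1]))) (.node (.node (.word [0]) (.word [2,1,0,1,6,3])) (.word [2,3,2,1,6,1]))) (.node (.node (.node (.word [3,4,2]) (.word [5,2,1,6,5,3,4])) (.node (.word [6,2,3,4,2,3,1,2,0]) (.word [0,1,5,6,2,1]))) (.node (.node (.word [5,0,1,2]) (.word [5,0,1,6,3,4,0])) (.word [1,5,6,4,3,1,0])))) (.node (.node (.node (.node (.word [5,6,4,2]) (.word [3,2,1,6,3,4,3])) (.node (.word [1,6,5,4,3]) (.word [6,1,5,6,2,3,4,1]))) (.node (.node (.word [1,5,2,1,0,1,6]) (.word [5,2,1,6,1,5,4,2,1])) (.word [1,6,2,3,4]))) (.node (.node (.node (.word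 [1,6,4,3,1,0,1,2]) (.word [1,2,0,1,5,3,4])) (.node (.word [1,6,3,2,3,4]) (.word [3,2,3,0,1,0,1]))) (.node (.node (.word [0,1,5,2,1,6,4,2]) (.word [1,6,2,3,4,1])) (.word [1,5,6,1,5,2,0,1,0])))))))

/-- A subtree. -/
def sub11 : WTree :=
  (.node (.node (.node (.node (.node (.node (.node (.word [3,2,1,5,1,6,4,3,2]) (.word [3,2,1,6,1,5,2,1])) (.node (.word [6,4,3,2,3,4,0]) (.word [0,1,2,0,1,6,2,1,0]))) (.node (.node (.word [6,2,3,4,3,1,2]) (.word [2,1,5,6,1])) (.word [6,2,1,5,2,1]))) (.node (.node (.node (.word [0,1,6,3,1,2]) (.word [1,0,1,2,0,1,6])) (.node (.word [6,1,5,6,1,0]) (.word [2,1,0,1,6,4,2,1]))) (.node (.node (.word [1,6,4,2,0]) (.word [0,1,6,4,1,2,1])) (.word [2,0,1,5,3,4])))) (.node (.node (.node (.node (.word [1,5,6,4,2]) (.word [4,3,2,3,4,3,0])) (.node (.word [6,4,1,0]) (.word [2,0,1,5,6,4,3,1,0])))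 (.node (.node (.word [0,1,6,4,1,2]) (.word [6,3,4,2,3,1,0])) (.word [1,6,1,5,3,4]))) (.node (.node (.node (.word [4,2,3,1,2,0]) (.word [1,5,1,2,0,1])) (.node (.word [4,3,2,1,6,1,2,1]) (.word [1,6,4,2,0,1]))) (.node (.node (.word [3,0]) (.word [1,6,5,2,1,6,0])) (.word [6,1,0,1,0]))))) (.node (.node (.node (.node (.node (.word [3,2,1,6,4,3,1,2]) (.word [2,0,1,6,4,1,2,1])) (.node (.word [2,1,6,1,5]) (.word [1,6,2,3,2,1]))) (.node (.node (.word [6,0,1,0]) (.word [5,2,1,0,1,0])) (.word [3,2,1,6,1,0]))) (.node (.node (.node (.word [1,6,4,2,3,1,2]) (.word [3,2,1,6,0,1,2])) (.node (.word [0,1]) (.word [6,5,1,6,4,2,0,1]))) (.node (.node (.word [1,6,1,5]) (.word [2,1,5,4,2,1])) (.word [5,1,6,1,0])))) (.node (.node (.node (.node (.word [1,6,5,3,2]) (.word [2,0,1,0,1,6])) (.node (.word [1,6,3,2,1,0]) (.word [0,1,6,5,2,1])))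 (.node (.node (.word [6,3,2,3,4,0]) (.word [3,2,0,1,6,1,5,2,1])) (.word [6,5,1,6,4]))) (.node (.node (.node (.word [1,2,3,4,3,2]) (.word [5,4,2,1])) (.node (.word [6,0,1,0,1,6,2,1,0]) (.word [1,5,6,2,3,4,3,1]))) (.node (.node (.word [1,0,1,6,4,1,2]) (.word [0,1,2,0,1,6,0])) (.word [6,1,5,1,2,1])))))) (.node (.node (.node (.node (.node (.node (.word [5,6,4,3,2]) (.word [5,3,2,1,6,4])) (.node (.word [1,6,1,0,1,2]) (.word [2,1,6,3,4,3,0]))) (.node (.node (.word [6,3,2,0,1,0]) (.word [4,2,3,0,1,0])) (.word [2,1,0,1,6]))) (.node (.node (.node (.word [1,6,2,3,4,3,2]) (.word [1,2,0,1,6,5,1])) (.node (.word [6,5,1,6]) (.word [2,1,6,4,3,2,3,4,3]))) (.node (.node (.word [4,1,2]) (.word [1,6,4,3,2,3,4,3])) (.word [5,2,1,6,0])))) (.node (.node (.node (.node (.word [0,1,6,4,3,1,2]) (.word [6,1,2,0,1])) (.node (.word [1,6,3,4])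 (.word [4,3,1,0,1]))) (.node (.node (.word [6,1,2,3,4,1,2]) (.word [3,0,1,2,0,1,6,2,1])) (.word [5,4,0,1,2,1]))) (.node (.node (.node (.word [1,6,4,2]) (.word [3,4,3,1])) (.node (.word [1,2,0,1,6,5]) (.word [1,2,3,1,0,1]))) (.node (.node (.word [6,3,4,2,3,1,2,0]) (.word [0,1,5,0,1,2,0,1,6])) (.word [5,2,1,6,1]))))) (.node (.node (.node (.node (.node (.word [0,1,5,1,6,3,2]) (.word [0,1,6,0,1,5,4,3])) (.node (.word [6,3,4,2,3,0,1,2]) (.word [6,2,3,2,1]))) (.node (.node (.word [6,3,1,2,0]) (.word [5,6,2,1])) (.word [2,0,1,6,5,1,2]))) (.node (.node (.node (.word [1,6,3,2,0]) (.word [6,5,4,1])) (.node (.word [1,5,3,4,3]) (.word [6,5,1,6,3,2,1]))) (.node (.node (.word [5,6,3,1,0]) (.word [3,4,1,0,1])) (.word [3,2,1,5,4])))) (.node (.node (.node (.node (.word [5,3,2]) (.word [4,2,3,2,1,6,1])) (.node (.word [1,6,3,0])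 (.word [0,1,2,0,1,6,4,2,1]))) (.node (.node (.word [2,1,6,5]) (.word [5,1,6,3,2,3,4,1])) (.word [3,4,1]))) (.node (.node (.node (.word [2,1,6,5,2]) (.word [1,6,4,2,3,1])) (.word [3,2,1,5,4,2])) (.node (.node (.word [6,4,1,2]) (.word [2,1,6,3,4,3,1])) (.word [1,6,3,4,3,0,1])))))))

/-- A subtree. -/
def sub12 : WTree :=
  (.node (.node (.node (.node (.node (.node (.node (.word [2,3,2,1,5,1,6,4,3,2]) (.word [4,3,2,1,6,2,1])) (.node (.word [1,6,1,5,1,2]) (.word [1,2,0,1,6,3,4,0]))) (.node (.node (.word [6,5,4]) (.word [6,5,1,0,1,0])) (.word [6,2,3,4,3,0]))) (.node (.node (.node (.word [5,1,6,2]) (.word [2,1,6,5,2,1])) (.node (.word [0,1,5,6,1,0]) (.word [1,6,1,5,4,2,1]))) (.node (.node (.word [1,6,5,4]) (.word [1,2,0,1,6,4,1])) (.word [2,3,4,1,2,3,0,1,2])))) (.node (.node (.node (.node (.word [6,5,3,4,3,2])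 (.word [6,4,3,1,2,3,4])) (.node (.word [5,1,0,1,2]) (.word [1,2,3,0,1]))) (.node (.node (.word [6,1,5,6,2,1,0]) (.word [5,6,1,5,2,1])) (.word [0,1,6,1,5,4]))) (.node (.node (.node (.word [3,1,2,0]) (.word [5,1,6,4,1,0])) (.node (.word [1,0,1,6,1,2,0,1,0]) (.word [0,1,0,1,6,3,2,1]))) (.node (.node (.word [5,4,3,0]) (.word [1,2,0,1,6,3,4,3])) (.word [6,5,1,6,3]))))) (.node (.node (.node (.node (.node (.word [1,6,1,5,4,3,2]) (.word [1,2,0,1,6,4])) (.node (.word [2,1,0,1,6,3,4]) (.word [5,1,2,0,1]))) (.node (.node (.word [3,2,1,6,4,3,2,0]) (.word [6,2,1,0,1,0])) (.word [3,2,0,1,6,5,3,4,3]))) (.node (.node (.node (.word [0,1,0,1,6,4,3,2]) (.word [0,1,5,2,1,6,4,1,0])) (.node (.word [0,1,6,1]) (.word [3,4,3,1,0,1]))) (.node (.node (.word [3,2,1,0]) (.word [6,4,3,0,1,0,1])) (.word [2,0,1,6,0])))) (.node (.node (.node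 (.node (.word [1,6,1,5,3,4,2]) (.word [1,6,1,0,1,2,0,1])) (.node (.word [1,2,3,0,1,2]) (.word [1,6,2,3,4,2,3,1]))) (.node (.node (.word [1,2,3,4,2]) (.word [3,1,2,0,1,6,4])) (.word [5,1,6,3,4]))) (.node (.node (.node (.word [6,1,5,4,2]) (.word [4,1,0,1])) (.node (.word [6,1,5,3,4]) (.word [1,6,0,1,2,0,1,6,0]))) (.node (.node (.word [0,1,6,1,2,0,1,0]) (.word [5,0,1,6,5,2,1])) (.word [6,0,1,2,0,1,0])))))) (.node (.node (.node (.node (.node (.node (.word [3,2,0,1,6,4,3,2]) (.word [2,0,1,6,1,5,3,4])) (.node (.word [1,6,3,2,3,4,0]) (.word [6,5,3,4,1]))) (.node (.node (.word [2,3,4,3,1,2]) (.word [1,6,0,1,5,4,3])) (.word [6,2,1,5,6,1,0]))) (.node (.node (.node (.word [1,5,3,4,3,2]) (.word [5,2,1,6,3,4])) (.node (.word [1,5,3,1,0]) (.word [5,1,0,1,6,2,0,1]))) (.node (.node (.word [1,6,4]) (.word [1,2,0,1,6,5,2,1]))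 (.word [5,1,6,5,4,3])))) (.node (.node (.node (.node (.word [5,1,6,3,2]) (.word [5,1,6,3,4,1,0])) (.node (.word [6,2,3,4]) (.word [3,0,1,0,1]))) (.node (.node (.word [1,6,2,1,5,3,4]) (.word [6,3,4,3,0,1])) (.word [0,1,5,4]))) (.node (.node (.node (.word [1,0,1,6,3,1,2]) (.word [0,1,5,3,0,1,0])) (.node (.word [2,1,6,5,2,3,4]) (.word [1,2,1,0,1,6,4,2,1]))) (.node (.node (.word [6,2,3,1,2,0]) (.word [2,0,1,5,6,2,1])) (.word [3,0,1]))))) (.node (.node (.node (.node (.node (.word [0,1,6,5,4,3,2]) (.word [6,1,0,1,6,2,1,0])) (.node (.word [1,6,0,1,2]) (.word [3,2,3,4,1]))) (.node (.node (.word [3,0,1,2]) (.word [6,1,2,0,1,6])) (.word [2,0,1,6,5,1]))) (.node (.node (.node (.word [2,1,5,6,4]) (.word [5,0,1,6,4,0])) (.node (.word [0,1,6,2,1,0]) (.word [1,6,5,3,2,1]))) (.node (.node (.word [6,5,3,4,2,3,1,2]) (.word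 [6,4,1,0,1])) (.word [1,6,0,1,5,3])))) (.node (.node (.node (.node (.word [3,4,3,2,0]) (.word [5,2,1,6,2,1])) (.node (.word [6,1,5]) (.word [6,2,1,0,1,5,6,2,1]))) (.node (.node (.word [2,0,1,6,2,1,5,2]) (.word [2,1,5,6,1,2,0,1])) (.word [3,4,3,0]))) (.node (.node (.node (.word [1,0,1,6,3,4,2]) (.word [2,1,0,1,6,5,3])) (.node (.word [2,3,2,1,0,1,6]) (.word [3,1,2,3,0,1,0,1]))) (.node (.node (.word [3,2,1,6,5,4,2]) (.word [6,5,1,6,2,1])) (.word [0,1,5,2,1])))))))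

/-- A subtree. -/
def sub13 : WTree :=
  (.node (.node (.node (.node (.node (.node (.node (.word [1,5,6,4,3,2]) (.word [4,3,2,1,6,3,4,1])) (.node (.word [1,5,4,1,2]) (.word [1,0,1,6,1,5,2,1]))) (.node (.node (.word [5,6,3,4]) (.word [0,1,5,6,4,3,1,0])) (.word [2,1,5,1]))) (.node (.node (.node (.word [1,6,3,4,3,1,2]) (.word [6,5,2,1,6,0])) (.node (.word [5,3,0,1,0]) (.word [1,5,2,0,1,6,4,0]))) (.node (.node (.word [5,6,4,1,0]) (.word [6,3,4,0,1])) (.word [5,3,1,2,0,1,0])))) (.node (.node (.node (.node (.word [5,6,2]) (.word [2,3,2,1,0,1,0])) (.node (.word [6,2,1,5,1]) (.word [2,0,1,0,1,6,3]))) (.node (.node (.word [1,0,1,6,1,2]) (.word [6,1,0,1,6,4,2,0,1])) (.word [1,6,5,4,1]))) (.node (.node (.node (.word [5,2,1,0]) (.word [6,3,4,3,1,0])) (.node (.word [3,2,1,6,5,1]) (.word [6,1,5,1,6,2,1]))) (.node (.node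 (.word [1]) (.word [5,0,1,2,0,1,6])) (.word [0,1,6,4,3]))))) (.node (.node (.node (.node (.node (.word [5,6,3,2]) (.word [6,0,1,5,3,4])) (.node (.word [3,2,1,6,1]) (.word [0,1,6,3,4,3,1]))) (.node (.node (.word [5,3,0]) (.word [3,2,1,6,4,3])) (.word [3,1,2,0,1,6]))) (.node (.node (.node (.word [1,6,3,4,3,2,0]) (.word [2,0,1,6,5,3,4])) (.node (.word [5,1,2,1]) (.word [2,1,6,2,3,4,3,1]))) (.node (.node (.word [1,6,0]) (.word [1,6,0,1,2,0,1])) (.word [0,1,5,6,3,1,0])))) (.node (.node (.node (.node (.word [2,1,6,4,2,3,1,2]) (.word [2,1,6,2,3,4,3])) (.node (.word [0,1,6,5,3]) (.word [0,1,0,1,6,2,3,2,1]))) (.node (.node (.word [1,5,1,2]) (.word [0,1,6,1,5,4,2,1])) (.word [2,1,0,1,6,5]))) (.node (.node (.node (.word [1,5,2]) (.word [3,2,1,5,0,1])) (.node (.word [2,0,1,5,4,2]) (.word [1,2,0,1,0,1,6,5,4,3]))) (.node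 (.node (.word [3,2,1,6,1,2,1]) (.word [1,5,3,2,1,6,0])) (.word [3,4,2,3,1,0])))))) (.node (.node (.node (.node (.node (.node (.word [2,1,5,2,1,6,4,3,2]) (.word [6,5,2,1,6,4])) (.node (.word [5,2,1,0,1,6]) (.word [3,2,1,6,3,4,0]))) (.node (.node (.word [6,0]) (.word [1,5,6,4,3,1])) (.word [3,2,1,6,2,3,4,3]))) (.node (.node (.node (.word [1,6,1,5,4,2]) (.word [1,6,0,1,2,1])) (.node (.word [1,5,4,3,0]) (.word [5,0,1,6,3,4,3,0]))) (.node (.node (.word [2,3,0,1,2,0]) (.word [6,5,4,3,1,0,1,0])) (.word [1,6,4,3,0])))) (.node (.node (.node (.node (.word [1,5,1,6,4,2]) (.word [6,5,1,6,3,4])) (.node (.word [0,1,6,4]) (.word [1,5,6,2,1]))) (.node (.node (.word [6,1,5,1,2]) (.word [6,5,3,2,1,6,3,4])) (.word [0,1,6,2,3,4]))) (.node (.node (.node (.word [1,6,0,1,5,3,2]) (.word [6,3,4,1])) (.node (.word [3,2,1,6,5,4]) (.word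 [6,2,3,0,1,0,1]))) (.node (.node (.word [1,6,2,1,0]) (.word [4,3,2,1,0,1,6,2,1])) (.word [1,0,1]))))) (.node (.node (.node (.node (.node (.word [1,6,1,5,3,4,3,2]) (.word [1,6,4,3,2,3,4])) (.node (.word [1,6,1,5,4]) (.word [2,0,1,0,1,6,5,3]))) (.node (.node (.word [3,4,2,3,1,2,0]) (.word [5,2,0,1])) (.word [1,5,2,1,6,4,1,0]))) (.node (.node (.node (.word [1,5,6]) (.word [1,6,3,4,1,0])) (.node (.word [0,1,2,0,1,0]) (.word [5,2,1,6,3,4,3,0]))) (.node (.node (.word [1,5,6,4,3]) (.word [3,2,0,1,6,3,4,0])) (.word [6,3,0,1])))) (.node (.node (.node (.node (.word [5,2,0]) (.word [3,2,0,1,6,3,4,2,3,1])) (.node (.word [1,6,1,0]) (.word [1,2,0,1,6,4,2,1]))) (.node (.node (.word [5,1,6,0,1,2]) (.word [1,5,2,0,1,6,4])) (.word [5,1,6,4,1]))) (.node (.node (.node (.word [5,1,6,3,0,1,2]) (.word [5,0,1,6,3,0])) (.word [4,3,2,3,4]))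 (.node (.node (.word [2,3,2,1,6,2,3,4]) (.word [0,1,6,2,1])) (.word [4,3,2,1,6,3,4])))))))

/-- A subtree. -/
def sub14 : WTree :=
  (.node (.node sub10 sub11) (.node sub12 sub13))

/-- A subtree. -/
def sub15 : WTree :=
  (.node (.node (.node (.node (.node (.node (.node (.word [2,3,2,1,5,6,3,4,3,2]) (.word [2,3,2,1,6,3,4,1])) (.node (.word [6,3,2,3,4]) (.word [1,5,1,6,1,5,2,1]))) (.node (.node (.word [1,6,2,3,1,2]) (.word [4,2,3,1,0])) (.word [6,3,1,2,3,4]))) (.node (.node (.node (.word [2,1,5,6]) (.word [1,6,5,2,1,6,5,2,1])) (.node (.word [1,5,2,3,0,1,2]) (.word [4,3,1,2,0,1,6,4,1]))) (.node (.node (.word [6,4,2,3,0,1,2]) (.word [0,1,2,0,1,6,4])) (.word [5,4,1,2,1])))) (.node (.node (.node (.node (.word [2,1,6,4,3,1,2]) (.word [6,2,1,5,6,4,3,1,0])) (.node (.word [6,5,4,1,2]) (.word [6,5,3,1,0,1,0]))) (.node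 (.node (.word [2,0,1,0]) (.word [2,1,0,1,6,2,1,0])) (.word [0,1,6,5,3,4]))) (.node (.node (.node (.word [2,0]) (.word [3,2,1,6,4,0])) (.node (.word [1,0,1,5,2,1,6,2]) (.word [1,0,1,6,2,3,2,1]))) (.node (.node (.word [1,0]) (.word [1,2,0,1,0,1,6])) (.word [5,0,1,6,3]))))) (.node (.node (.node (.node (.node (.word [5,2,1,6,4,3,2]) (.word [2,3,2,1,6,4])) (.node (.word [1,6,5,4,1,2]) (.word [4,3,2,1,6,4,0]))) (.node (.node (.word [1,6,5,4,3,1,2]) (.word [5,3,1,0,1,0])) (.word [2,1,6,5,4,1,2]))) (.node (.node (.node (.word [1,0,1,6,3,2]) (.word [6,0,1,0,1,6,2,1])) (.node (.word [1,0,1,6]) (.word [6,3,2,3,0,1,0,1]))) (.node (.node (.word [2,3,2,1,5]) (.word [6,3,2,3,0,1,0,1,0])) (.word [2,3,1,0])))) (.node (.node (.node (.node (.word [1,5,4,3,2]) (.word [6,5,1,6,3,2,0,1])) (.node (.word [0,1,2,1,0]) (.word [1,5,6,1,5,2,1])))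 (.node (.node (.word [1,5,4,2]) (.word [2,0,1,6,3,4,1])) (.word [6,2,1,5,4,1]))) (.node (.node (.node (.word [1,6,2,3,4,3,2,0]) (.word [6,4,2,1])) (.node (.word [6,4,1,2,1]) (.word [6,1,0,1,5,1,2,1]))) (.node (.node (.word [0,1,5,2,1,6,2]) (.word [1,6,5,2,1])) (.word [5,1,2,3,4,2,3,1,2,0])))))) (.node (.node (.node (.node (.node (.node (.word [5,3,2,1,6,4,3,2]) (.word [5,1,6,5,2,1,6])) (.node (.word [6,2,3,4,0]) (.word [5,1,6,3,4,3,0]))) (.node (.node (.word [3,0,1,2,0]) (.word [6,1,0,1,6,4,3])) (.word [2,1,6,1,5,4]))) (.node (.node (.node (.word [6,1,5,3,4,2]) (.word [3,2,0,1,6,0])) (.node (.word [5,1,6,3]) (.word [6,2,3,4,0,1]))) (.node (.node (.word [6,3,4]) (.word [6,2,1,0,1,6,2,1,0])) (.word [1,6,1,5,4,3])))) (.node (.node (.node (.node (.word [2,1,5,6,2]) (.word [6,1,2,3,4])) (.node (.word [1,5,6,2,3,4])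 (.word [3,2,3,1,0,1,0]))) (.node (.node (.word [1,6,4,1,2]) (.word [2,3,4,2,3,1])) (.word [2,1,6,4,0]))) (.node (.node (.node (.word [2,0,1,6,5,2]) (.word [0,1,6,0,1,5,3])) (.node (.word [5,2,1,6,5,1,2]) (.word [3,2,3,4,3,1]))) (.node (.node (.word [2,3,0,1,2]) (.word [4,3,1,2,0,1,6,1])) (.word [0,1,6,3,1]))))) (.node (.node (.node (.node (.node (.word [2,1,5,2,1,6,3,2]) (.word [6,2,3,1,2,0,1])) (.node (.word [1,5,2,1,6,1,0]) (.word [5,6,3,4,1]))) (.node (.node (.word [1,2]) (.word [2,3,0,1])) (.word [2,1,6,1,5,1]))) (.node (.node (.node (.word [3,4,3,1,2]) (.word [5,1,6,3,4,0])) (.node (.word [6,1,5,2,1,6]) (.word [3,1,2,1,0,1,6,2,1]))) (.node (.node (.word [6,5,2,3,1,2]) (.word [6,0,1,0,1])) (.word [6,1,5,6,3,1,0])))) (.node (.node (.node (.node (.word [5,3,4,2,0]) (.word [5,1,2,0,1,6])) (.node (.word [5,1,6,0])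 (.word [6,2,3,4,3,0,1]))) (.node (.node (.word [1,0,1,6,4,2]) (.word [5,1,6,5,2,1,6,4])) (.word [3,4,3]))) (.node (.node (.node (.word [2,1,6,1,5,4,2]) (.word [3,1,2,3,4,1])) (.node (.word [0,1,6,2,1,5,4,2]) (.word [1,6,5,2,3,1,0,1,0]))) (.node (.node (.word [1,5,2,1,6,4]) (.word [5,2,0,1,6,3,4])) (.word [1,0,1,5,2,1,6])))))))

/-- A subtree. -/
def sub16 : WTree :=
  (.node (.node (.node (.node (.node (.node (.node (.word [3,2,1,6,1,5,4,3,2]) (.word [3,2,1,6,5,2,1])) (.node (.word [0,1,6,0,1,2]) (.word [1,5,6,3,1,2,0,1]))) (.node (.node (.word [4,2,3,1,0,1,2]) (.word [1,6,5,2,1,6])) (.word [3,1,2,1,0,1]))) (.node (.node (.node (.word [5,1,6,4,2]) (.word [6,3,1,2,0,1,6])) (.node (.word [5,6,4,3,1,0]) (.word [1,6,3,2,3,4,1]))) (.node (.node (.word [6,3,1,0,1,2]) (.word [1,5,2,1,6,4,0])) (.word [2,3,1,2,0,1]))))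 (.node (.node (.node (.node (.word [6,4,3,2,0]) (.word [6,2,1,5,4,2,1])) (.node (.word [6,0,1,5]) (.word [2,1,6,0,1,5,4,3]))) (.node (.node (.word [3,2,1,6,5]) (.word [1,6,2,3,1,2,0,1])) (.word [0,1,6,5,4,1]))) (.node (.node (.node (.word [5,6,2,1,0]) (.word [1,6,4,0,1,2,1])) (.node (.word [3,2,1,6,1,5,1]) (.word [2,3,2,1,6,3,4,0]))) (.node (.node (.word [2,1,6]) (.word [3,2,0,1,6,3,4,3])) (.word [2,1,0,1,0]))))) (.node (.node (.node (.node (.node (.word [0,1,5,6,3,2]) (.word [1,5,2,1,6,5,4])) (.node (.word [3,2,0,1,6]) (.word [2,0,1,6,0,1,5,3]))) (.node (.node (.word [5,6,4,3]) (.word [2,0,1,6,4,3])) (.word [2,1,6,5,1]))) (.node (.node (.node (.word [6,3,4,2,0]) (.word [6,5,1,6,2,3,4,1])) (.node (.word [5,1]) (.word [1,6,3,2,0,1]))) (.node (.node (.word [6,3,0]) (.word [3,4,1,2,3,0,1])) (.word [2,1,6,5,1,2]))))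 (.node (.node (.node (.node (.word [1,6,4,3,1,2]) (.word [5,1,0,1,6,3])) (.node (.word [3,1,2,0,1,0]) (.word [5,1,0,1,6,5,2,1]))) (.node (.node (.word [1,5,6,1,5,2]) (.word [3,2,0,1,6,5,2,1])) (.word [1,6,0,1,5,4]))) (.node (.node (.node (.word [6,2,1,5,2]) (.word [1,5,2,0,1])) (.node (.word [6,3,2,0,1,5,4,2]) (.word [6,3,2,3,4,3,0,1]))) (.node (.node (.word [5,3,2,1,6,5]) (.word [5,2,1,6,2,3,4,1])) (.word [0,1,5,3,4,3])))))) (.node (.node (.node (.node (.node (.node (.word [1,5,1,6,4,3,2]) (.word [2,1,6,2,3,4])) (.node (.word [2,1,6,5,4]) (.word [2,0,1,6,3,4,0]))) (.node (.node (.word [1,6,5]) (.word [6,3,1,0,1])) (.word [5,4,3,2,1,6]))) (.node (.node (.node (.word [2,3,4,3,2,0]) (.word [0,1,6,1,2,1])) (.node (.word [1,6,4,3]) (.word [6,5,3,2,3,1,0,1,0]))) (.node (.node (.word [3,1,0,1,2]) (.word [5,2,1,0,1,6,4,3]))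 (.word [1,6,0,1])))) (.node (.node (.node (.node (.word [5,1,6,3,4,2]) (.word [1,2,3,4,0])) (.node (.word [1,5,3,4,0]) (.word [2,3,1,0,1]))) (.node (.node (.word [1,5,1,2,3,4,3,2]) (.word [5,2,1,0,1,6,2,1,0])) (.word [5,1,6,2,3,4]))) (.node (.node (.node (.word [6,3,4,3,1,2]) (.word [0,1,6,3,4,1])) (.node (.word [6,1,5,2,1,6,4]) (.word [1,2,0,1,0,1,6,3]))) (.node (.node (.word [2,1,5,6,2,1,0]) (.word [3,1,2,0,1,6,4,1])) (.word [6,2,1]))))) (.node (.node (.node (.node (.node (.word [2,1,6,4,3,2]) (.word [6,4,3,2,3,4,3])) (.node (.word [1,6,5,3,4]) (.word [5,3,2,1,0,1,0]))) (.node (.node (.word [3,4,2,3,1,2]) (.word [1,2,0,1])) (.word [0,1,5,2,1,6,1,0]))) (.node (.node (.node (.word [2,1,6,4,3,2,0]) (.word [0,1,6,3,4,0])) (.node (.word [1,0,1,6,2,0,1,0]) (.word [1,6,5,1,6,2,1]))) (.node (.node (.word [5,0,1,0])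 (.word [5,3,2,1,6,3,4,0])) (.word [2,3,4,3])))) (.node (.node (.node (.node (.word [5,6]) (.word [5,1,6,0,1,2,0,1])) (.node (.word [0,1,6,0]) (.word [0,1,2,0,1,6,2,1]))) (.node (.node (.word [0,1,0,1,6,2]) (.word [5,3,2,0,1,6,4])) (.word [0,1,6,4,1]))) (.node (.node (.node (.word [1,6,1,2]) (.word [5,1,6,4,3,0])) (.word [4,3,2,3,4,0])) (.node (.node (.word [0,1,6,3,2,0,1,0]) (.word [1,0,1,6,1,2,1])) (.word [2,1,6,3,4,2,3,1])))))))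

/-- A subtree. -/
def sub17 : WTree :=
  (.node (.node (.node (.node (.node (.node (.node (.word [3,2,1,5,6,3,4,3,2]) (.word [5,3,2,1,6,3,4])) (.node (.word [1,6,2,1,5,4,2]) (.word [0,1,0,1,6,2,1]))) (.node (.node (.word [5,4,2]) (.word [1,5,0,1])) (.word [2,3,4,0]))) (.node (.node (.node (.word [2,1,6,3,4,3,2]) (.word [5,1,6,5,2,1])) (.node (.word [1,5,6,3,1,0]) (.word [6,5,1,6,5,4,2,1]))) (.node (.node (.word [6,4,0]) (.word [1,6,4,2,1])) (.word [2,1,6,3,2,1,0])))) (.node (.node (.node (.node (.word [6,3,4,3,2]) (.word [6,3,2,3,4,3,0])) (.node (.word [1,5,6,4,1,0]) (.word [2,1,5,6,2,1]))) (.node (.node (.word [0,1,5,6,2,1,0]) (.word [3,4,2,3,0,1,0])) (.word [1,6,5,3,4,3]))) (.node (.node (.node (.word [4,2,3,1,2]) (.word [4,3,2,1,6,0])) (.node (.word [3,2,0,1,6,5,1]) (.word [0,1,6,5,3,2,1]))) (.node (.node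 (.word [3]) (.word [5,2,1,0,1,6,3])) (.word [5,2,0,1,6]))))) (.node (.node (.node (.node (.node (.word [2,0,1,6,4,3,2]) (.word [2,1,6,4,2,1])) (.node (.word [5,3,2,1,6]) (.word [6,1,5,6,2,1]))) (.node (.node (.word [5,6,1,0]) (.word [4,1,2,0,1])) (.word [1,2,1,0,1,6,3,4]))) (.node (.node (.node (.word [6,4,3,1,2]) (.word [6,1,5,2,1,6,4,1,0])) (.node (.word [6,1]) (.word [1,5,3,2,1,6,3,4,0]))) (.node (.node (.word [1,6,5,3]) (.word [6,5,1,6,3,4,3])) (.word [3,2,1,6,0])))) (.node (.node (.node (.node (.word [1,6,1,5,2]) (.word [2,1,6,5,4,1])) (.node (.word [3,4,1,2,3,0,1,2]) (.word [3,4,2,3,0,1]))) (.node (.node (.word [1,6,2,1,5,2]) (.word [5,3,2,0,1,6,3,4])) (.word [3,4,1,0]))) (.node (.node (.node (.word [1,5,3,4,2]) (.word [5,4,0,1])) (.node (.word [1,0,1,6,3,2,0,1,0]) (.word [1,6,1,5,1,6,2,1]))) (.node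 (.node (.word [1,2,0,1,6,1,5]) (.word [6,5,1,6,5,2,1])) (.word [1,0,1,6,2,1,0])))))) (.node (.node (.node (.node (.node (.node (.word [1,5,6,3,4,3,2]) (.word [2,1,6,1,2,3,4])) (.node (.word [2,1,5]) (.word [6,5,4,2,1]))) (.node (.node (.word [6,4,3,0,1,2,0]) (.word [3,2,3,4,3])) (.word [3,2,1,5,6,1,0]))) (.node (.node (.node (.word [6,2,3,4,2]) (.word [1,5,2,1,6,0])) (.node (.word [5,0,1,6]) (.word [1,5,0,1,2,0,1,6]))) (.node (.node (.word [1,5,4,0]) (.word [2,0,1,6,0,1,5,4,3])) (.word [0,1,6,2,3,1])))) (.node (.node (.node (.node (.word [0,1,6,5,3,4,3,2]) (.word [2,3,4,3,0])) (.node (.word [6,3,4,3]) (.word [5,2,3,1,0,1,0]))) (.node (.node (.word [0,1,5,6,3,2,1,0]) (.word [2,1,6,3,4,2,3,1,0])) (.word [6,5,4,1,2,1]))) (.node (.node (.node (.word [5,1,6,5,4,3,1,2]) (.word [2,1,6,3,4,3])) (.node (.word [5,1,0,1,6,4])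 (.word [2,1,0,1,6,4,3,0]))) (.node (.node (.word [5,3,4,2,3,1,2]) (.word [4,3,2,0,1,6,0])) (.word [1,2,0,1,6]))))) (.node (.node (.node (.node (.node (.word [2,0,1,6,4,3,1,2]) (.word [0,1,0,1,6,2,1,0])) (.node (.word [6,1,2,1]) (.word [6,3,4,2,1]))) (.node (.node (.word [5,3,1,2]) (.word [6,2,0,1])) (.word [1,6,1,2,1]))) (.node (.node (.node (.word [6,2,0]) (.word [6,5,1,6,4,0])) (.node (.word [1,6,1,2,1,0]) (.word [6,0,1,2,0,1,6,0]))) (.node (.node (.word [1,5,4,2,3,0,1,2]) (.word [6,5,2,1,6,3,4])) (.word [6,2,3,1,0])))) (.node (.node (.node (.node (.word [6,5,2]) (.word [4,3,2,0,1,6,1])) (.node (.word [6,4,3,0]) (.word [2,3,4,2,3,0,1]))) (.node (.node (.word [2,1,6,2,1,5]) (.word [0,1,2,0,1,6,1])) (.word [2,1,6,3,4]))) (.node (.node (.node (.word [2,1,6,2,1,5,2]) (.word [0,1,6,1,5,4,3])) (.word [6,1,5,3,0,1,0]))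 (.node (.node (.word [2,1,6,4]) (.word [6,5,2,1,6,3,4,3])) (.word [6,0,1,5,3,4,3])))))))

/-- A subtree. -/
def sub18 : WTree :=
  (.node (.node (.node (.node (.node (.node (.node (.word [2,1,5,1,6,4,3,2]) (.word [5,2,1,6,1,5,2,1])) (.node (.word [1,6,5,2,3,4]) (.word [2,1,5,3,2,1,6,0]))) (.node (.node (.word [5,4,0]) (.word [2,1,6,0,1,5,3])) (.word [2,1,6,1,0,1,2]))) (.node (.node (.node (.word [6,5,1,2,3,4,3,2]) (.word [3,1,2,0,1,6,1])) (.node (.word [6,1,5,4,3]) (.word [1,6,3,4,2,1]))) (.node (.node (.word [6,4,0,1,0]) (.word [1,6,2,3,4,0,1])) (.word [1,0,1,6,5,3])))) (.node (.node (.node (.node (.word [5,3,2,0]) (.word [2,1,5,4,1])) (.node (.word [5,1,6,4]) (.word [6,4,3,1,0,1]))) (.node (.node (.word [5,1,6,5,3,1,2]) (.word [1,0,1,6,5,4,2,1])) (.word [5,3,4,3]))) (.node (.node (.node (.word [5,2,1,6,2])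 (.word [1,2,0,1,5,4])) (.node (.word [2,3,2,1,6,1,2,1]) (.word [0,1,6,2,3,2,1]))) (.node (.node (.word [1,2,1]) (.word [5,1,6,2,1])) (.word [1,6,4,3,1]))))) (.node (.node (.node (.node (.node (.word [5,4,3,2,0]) (.word [1,6,3,4,0,1])) (.node (.word [5,2,1,6,5]) (.word [3,4,3,0,1]))) (.node (.node (.word []) (.word [4,3,0,1])) (.word [3,2,0,1,6,1]))) (.node (.node (.node (.word [6,4,2]) (.word [1,6,1,5,3,4,1])) (.node (.word [1,6,2,3,1,2,0]) (.word [1,5,1,6,2,1]))) (.node (.node (.word [6,5,1,2]) (.word [6,5,1,6,3,4,0])) (.word [6,2,1,0,1,6])))) (.node (.node (.node (.node (.word [6,3,4,3,2,0]) (.word [4,3,2,1,6,1,0])) (.node (.word [0,1,6,1,5]) (.word [5,6,1,0,1,6,2,0,1]))) (.node (.node (.word [2,1,6,5,4,2]) (.word [2,0,1,6,5,4,2,1])) (.word [6,2,3,4,3]))) (.node (.node (.node (.word [2,3,4,2]) (.word [5,6,3,1,2,0,1]))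 (.node (.word [1,6,0,1,5,3,4]) (.word [3,1,2,3,0,1,0,1,0]))) (.node (.node (.word [2,1,0,1,6,1,2]) (.word [5,2,0,1,6,4,0])) (.word [2,1,0,1,6,5,2,1])))))) (.node (.node (.node (.node (.node (.node (.word [2,0,1,6,5,4,3,2]) (.word [3,2,1,6,3,4])) (.node (.word [2,1,6,2,1,5,4]) (.word [1,2,0,1,6,4,0]))) (.node (.node (.word [1,6,2,0]) (.word [4,3,1,0,1,0])) (.word [4,3,2,0,1,6]))) (.node (.node (.node (.word [1,0,1,6,3,4,3,2]) (.word [1,2,0,1,6,5,1,2])) (.node (.word [0,1,6,3]) (.word [6,3,2,3,1,0,1,0]))) (.node (.node (.word [3,4,2,3,0,1,2,0]) (.word [3,2,0,1,6,4,3])) (.word [0,1,6,3,0])))) (.node (.node (.node (.node (.word [6,5,2,3,4,3,2]) (.word [2,1,5,2,1])) (.node (.word [4,1]) (.word [0,1,6,2,3,4,0,1]))) (.node (.node (.word [1,6,2,3,4,2,0]) (.word [2,3,2,0,1,6,4,1])) (.word [6,3,4,1,0]))) (.node (.node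 (.node (.word [5,1,2,3,4,3,2]) (.word [3,4,0,1])) (.node (.word [3,2,1,6,4]) (.word [1,2,3,0,1,0,1,0]))) (.node (.node (.word [0,1,6,2,0,1,0]) (.word [5,2,1,0,1,6,2,1])) (.word [5,0,1]))))) (.node (.node (.node (.node (.node (.word [0,1,6,4,3,2]) (.word [0,1,6,1,5,3,4,3])) (.node (.word [6,3,4,0]) (.word [6,4,2,3,1]))) (.node (.node (.word [1,5,6,2,1,0]) (.word [1,5,2,1])) (.word [0,1,5,6,1,2,0,1]))) (.node (.node (.node (.word [6]) (.word [1,5,3,4,1])) (.node (.word [5,1,2,0,1,0]) (.word [1,2,0,1,6,3,4,3,0]))) (.node (.node (.word [5,3,1,0]) (.word [0,1,6,1,0,1,2,0,1])) (.word [5,1,6,4,3])))) (.node (.node (.node (.node (.word [3,2]) (.word [3,2,1,6,3,4,2,3,1,0])) (.node (.word [1,5,1]) (.word [5,3,2,1,6,3,4,1]))) (.node (.node (.word [0,1,6,5,3,1,2]) (.word [6,0,1,2,0,1,6])) (.word [4,2,1]))) (.node (.node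 (.node (.word [0,1,6,5,4,3,1,2]) (.word [0,1,6,4,3,0])) (.word [0,1,6,1,5,3,4])) (.node (.node (.word [6,1,5,4,1,2]) (.word [6,5,2,1,0,1,0])) (.word [3,1,2,0,1,6,2,1])))))))

/-- A subtree. -/
def sub19 : WTree :=
  (.node (.node sub15 sub16) (.node sub17 sub18))

/-- Points. -/
def levX0pts0 : List ℕ := [0,1,2,3,4,5,6,7,8,9,10,11,12,13,14,15,16,17,18,19,20,21,22,23,24,25,26,27,28,29,30,31,32,33,34,35,36,37,38,39,40,41,42,43,44,45,46,47,48,49,50,51,52,53,54,55,56,57,58,59,60,61,62,63,64,65,66,67,68,69,70,71,72,73,74,75,76,77,78,79,80,81,82,83,84,85,86,87,88,89,90,91,92,93,94,95,96,97,98,99,100,101,102,103,104,105,106,107,108,109,110,111,112,113,114,115,116,117,118,119,120,121,122,123,124,125,126,127,128,129,130,131,132,133,134,135,136,137,138,139,140,141,142,143,144,145,146,147,148,149,150,151,152,153,154,155,156,157,158,159,160,161,162,163,164,165,166,167,168,169,170,171,172,173,174,175,176,177,178,179,180,181,182,183,184,185,186,187,188,189,190,191,192,193,194,195,196,197,198,199]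

/-- Points. -/
def levX0pts1 : List ℕ := [200,201,202,203,204,205,206,207,208,209,210,211,212,213,214,215,216,217,218,219,220,221,222,223,224,225,226,227,228,229,230,231,232,233,234,235,236,237,238,239,240,241,242,243,244,245,246,247,248,249,250,251,252,253,254,255,256,257,258,259,260,261,262,263,264,265,266,267,268,269,270,271,272,273,274,275,276,277,278,279,280,281,282,283,284,285,286,287,288,289,290,291,292,293,294,295,296,297,298,299,300,301,302,303,304,305,306,307,308,309,310,311,312,313,314,315,316,317,318,319,320,321,322,323,324,325,326,327,328,329,330,331,332,333,334,335,336,337,338,339,340,341,342,343,344,345,346,347,348,349,350,351,352,353,354,355,356,357,358,359,360,361,362,363,364,365,366,367,368,369,370,371,372,373,374,375,376,377,378,379,380,381,382,383,384,385,386,387,388,389,390,391,392,393,394,395,396,397,398,399]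

/-- Points. -/
def levX0pts2 : List ℕ := [400,401,402,403,404,405,406,407,408,409,410,411,412,413,414,415,416,417,418,419,420,421,422,423,424,425,426,427,428,429,430,431,432,433,434,435,436,437,438,439,440,441,442,443,444,445,446,447,448,449,450,451,452,453,454,455,456,457,458,459,460,461,462,463,464,465,466,467,468,469,470,471,472,473,474,475,476,477,478,479,480,481,482,483,484,485,486,487,488,489,490,491,492,493,494,495,496,497,498,499,500,501,502,503,504,505,506,507,508,509,510,511,512,513,514,515,516,517,518,519,520,521,522,523,524,525,526,527,528,529,530,531,532,533,534,535,536,537,538,539,540,541,542,543,544,545,546,547,548,549,550,551,552,553,554,555,556,557,558,559,560,561,562,563,564,565,566,567,568,569,570,571,572,573,574,575,576,577,578,579,580,581,582,583,584,585,586,587,588,589,590,591,592,593,594,595,596,597,598,599]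

/-- Points. -/
def levX0pts3 : List ℕ := [600,601,602,603,604,605,606,607,608,609,610,611,612,613,614,615,616,617,618,619,620,621,622,623,624,625,626,627,628,629,630,631,632,633,634,635,636,637,638,639,640,641,642,643,644,645,646,647,648,649,650,651,652,653,654,655,656,657,658,659,660,661,662,663,664,665,666,667,668,669,670,671,672,673,674,675,676,677,678,679,680,681,682,683,684,685,686,687,688,689,690,691,692,693,694,695,696,697,698,699,700,701,702,703,704,705,706,707,708,709,710,711,712,713,714,715,716,717,718,719,720,721,722,723,724,725,726,727,728,729,730,731,732,733,734,735,736,737,738,739,740,741,742,743,744,745,746,747,748,749,750,751,752,753,754,755,756,757,758,759,760,761,762,763,764,765,766,767,768,769,770,771,772,773,774,775,776,777,778,779,780,781,782,783,784,785,786,787,788,789,790,791,792,793,794,795,796,797,798,799]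

/-- Points. -/
def levX0pts4 : List ℕ := [800,801,802,803,804,805,806,807,808,809,810,811,812,813,814,815,816,817,818,819,820,821,822,823,824,825,826,827,828,829,830,831,832,833,834,835,836,837,838,839,840,841,842,843,844,845,846,847,848,849,850,851,852,853,854,855,856,857,858,859,860,861,862,863,864,865,866,867,868,869,870,871,872,873,874,875,876,877,878,879,880,881,882,883,884,885,886,887,888,889,890,891,892,893,894,895,896,897,898,899,900,901,902,903,904,905,906,907,908,909,910,911,912,913,914,915,916,917,918,919,920,921,922,923,924,925,926,927,928,929,930,931,932,933,934,935,936,937,938,939,940,941,942,943,944,945,946,947,948,949,950,951,952,953,954,955,956,957,958,959,960,961,962,963,964,965,966,967,968,969,970,971,972,973,974,975,976,977,978,979,980,981,982,983,984,985,986,987,988,989,990,991,992,993,994,995,996,997,998,999]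

/-- Points. -/
def levX0pts5 : List ℕ := [1000,1001,1002,1003,1004,1005,1006,1007,1008,1009,1010,1011,1012,1013,1014,1015,1016,1017,1018,1019,1020,1021,1022,1023,1024,1025,1026,1027,1028,1029,1030,1031,1032,1033,1034,1035,1036,1037,1038,1039,1040,1041,1042,1043,1044,1045,1046,1047,1048,1049,1050,1051,1052,1053,1054,1055,1056,1057,1058,1059,1060,1061,1062,1063,1064,1065,1066,1067,1068,1069,1070,1071,1072,1073,1074,1075,1076,1077,1078,1079,1080,1081,1082,1083,1084,1085,1086,1087,1088,1089,1090,1091,1092,1093,1094,1095,1096,1097,1098,1099,1100,1101,1102,1103,1104,1105,1106,1107,1108,1109,1110,1111,1112,1113,1114,1115,1116,1117,1118,1119,1120,1121,1122,1123,1124,1125,1126,1127,1128,1129,1130,1131,1132,1133,1134,1135,1136,1137,1138,1139,1140,1141,1142,1143,1144,1145,1146,1147,1148,1149,1150,1151,1152,1153,1154,1155,1156,1157,1158,1159,1160,1161,1162,1163,1164,1165,1166,1167,1168,1169,1170,1171,1172,1173,1174,1175,1176,1177,1178,1179,1180,1181,1182,1183,1184,1185,1186,1187,1188,1189,1190,1191,1192,1193,1194,1195,1196,1197,1198,1199]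

/-- Points. -/
def levX0pts6 : List ℕ := [1200,1201,1202,1203,1204,1205,1206,1207,1208,1209,1210,1211,1212,1213,1214,1215,1216,1217,1218,1219,1220,1221,1222,1223,1224,1225,1226,1227,1228,1229,1230,1231,1232,1233,1234,1235,1236,1237,1238,1239,1240,1241,1242,1243,1244,1245,1246,1247,1248,1249,1250,1251,1252,1253,1254,1255,1256,1257,1258,1259,1260,1261,1262,1263,1264,1265,1266,1267,1268,1269,1270,1271,1272,1273,1274,1275,1276,1277,1278,1279,1280,1281,1282,1283,1284,1285,1286,1287,1288,1289,1290,1291,1292,1293,1294,1295,1296,1297,1298,1299,1300,1301,1302,1303,1304,1305,1306,1307,1308,1309,1310,1311,1312,1313,1314,1315,1316,1317,1318,1319,1320,1321,1322,1323,1324,1325,1326,1327,1328,1329,1330,1331,1332,1333,1334,1335,1336,1337,1338,1339,1340,1341,1342,1343,1344,1345,1346,1347,1348,1349,1350,1351,1352,1353,1354,1355,1356,1357,1358,1359,1360,1361,1362,1363,1364,1365,1366,1367,1368,1369,1370,1371,1372,1373,1374,1375,1376,1377,1378,1379,1380,1381,1382,1383,1384,1385,1386,1387,1388,1389,1390,1391,1392,1393,1394,1395,1396,1397,1398,1399]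

/-- Points. -/
def levX0pts7 : List ℕ := [1400,1401,1402,1403,1404,1405,1406,1407,1408,1409,1410,1411,1412,1413,1414,1415,1416,1417,1418,1419,1420,1421,1422,1423,1424,1425,1426,1427,1428,1429,1430,1431,1432,1433,1434,1435,1436,1437,1438,1439,1440,1441,1442,1443,1444,1445,1446,1447,1448,1449,1450,1451,1452,1453,1454,1455,1456,1457,1458,1459,1460,1461,1462,1463,1464,1465,1466,1467,1468,1469,1470,1471,1472,1473,1474,1475,1476,1477,1478,1479,1480,1481,1482,1483,1484,1485,1486,1487,1488,1489,1490,1491,1492,1493,1494,1495,1496,1497,1498,1499,1500,1501,1502,1503,1504,1505,1506,1507,1508,1509,1510,1511,1512,1513,1514,1515,1516,1517,1518,1519,1520,1521,1522,1523,1524,1525,1526,1527,1528,1529,1530,1531,1532,1533,1534,1535,1536,1537,1538,1539,1540,1541,1542,1543,1544,1545,1546,1547,1548,1549,1550,1551,1552,1553,1554,1555,1556,1557,1558,1559,1560,1561,1562,1563,1564,1565,1566,1567,1568,1569,1570,1571,1572,1573,1574,1575,1576,1577,1578,1579,1580,1581,1582,1583,1584,1585,1586,1587,1588,1589,1590,1591,1592,1593,1594,1595,1596,1597,1598,1599]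

/-- Points. -/
def levX0pts8 : List ℕ := [1600,1601,1602,1603,1604,1605,1606,1607,1608,1609,1610,1611,1612,1613,1614,1615,1616,1617,1618,1619,1620,1621,1622,1623,1624,1625,1626,1627,1628,1629,1630,1631,1632,1633,1634,1635,1636,1637,1638,1639,1640,1641,1642,1643,1644,1645,1646,1647,1648,1649,1650,1651,1652,1653,1654,1655,1656,1657,1658,1659,1660,1661,1662,1663,1664,1665,1666,1667,1668,1669,1670,1671,1672,1673,1674,1675,1676,1677,1678,1679,1680,1681,1682,1683,1684,1685,1686,1687,1688,1689,1690,1691,1692,1693,1694,1695,1696,1697,1698,1699,1700,1701,1702,1703,1704,1705,1706,1707,1708,1709,1710,1711,1712,1713,1714,1715,1716,1717,1718,1719,1720,1721,1722,1723,1724,1725,1726,1727,1728,1729,1730,1731,1732,1733,1734,1735,1736,1737,1738,1739,1740,1741,1742,1743,1744,1745,1746,1747,1748,1749,1750,1751,1752,1753,1754,1755,1756,1757,1758,1759,1760,1761,1762,1763,1764,1765,1766,1767,1768,1769,1770,1771,1772,1773,1774,1775,1776,1777,1778,1779,1780,1781]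

/-- A level. -/
def levX0 : Level :=
  ⟨303, (.node (.node sub4 sub9) (.node sub14 sub19)), levX0pts0 ++ levX0pts1 ++ levX0pts2 ++ levX0pts3 ++ levX0pts4 ++ levX0pts5 ++ levX0pts6 ++ levX0pts7 ++ levX0pts8⟩

/-- A subtree. -/
def sub20 : WTree :=
  (.node (.node (.node (.node (.node (.node (.word [2,4,3,6,1,5,2,3,4,2,3,2,1,6,5,2]) (.word [2,1,0,5,1,6,5,4,2,3,1,2,1,0])) (.node .none (.word [5,1,2,6,0,1,5,6,3,4]))) .none) (.node (.node (.node .none (.node .none (.word [5,6,1,2,3,2,1,6,5,2,1,6,4,2]))) (.node (.node .none (.word [3,5,2,1,5,6,3,2,1,5,3,2,3])) .none)) (.node (.node (.node .none (.word [1,2,1,0,1,5,2,3,2,0,1])) .none) (.node (.word [0,5,1,6,2,1,5,1,0]) (.word [2,3,5,1,6,2,1,0,1,5,6,3,2]))))) (.node (.node (.node .none (.node .none (.word [0,2,3,6,2,1,5,6,1,2,3,2]))) (.node (.node (.word [1,5,6,1,0,3,2,1,6,1,2,3,1])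 (.node (.word [2,3,4,3,2,1,3,2,3,4,3,2]) (.word [0,1,2,1,0,6,3,2,1,5,0,1,2]))) (.node .none (.word [1,0,1,4,6,1,2,3,4,1,2,3])))) (.node (.node .none (.node (.word [1,2,3,6,1,5,2,1,6,4,3,2,0,1]) (.word [0,5,1,2,0,1,5,0]))) (.node (.node .none (.node (.word [0,1,0,3,5,2,1,0,1,5,3]) (.word [1,4,3,2,1,3,2,0,1,5,6,1,2,1,0]))) .none)))) (.node (.node (.node (.node .none (.node (.node (.word [2,1,0,5,1,6,5,2,3,4,1,2,1,0]) (.word [0,1,5,1,2,3,2,1,5,3,0])) .none)) (.node (.node .none (.node .none (.word [2,5,1,6,1,2,3,2,1,5,6,1,5,6,2]))) (.node (.node .none (.word [1,2,5,1,2,6,0,1,6,3,2,3,4,0])) .none))) (.node (.node .none (.node (.node .none (.word [4,5,1,6,5,1,6,5,2,3,4,2,1])) .none)) (.node (.node (.word [5,1,0,2,1,2,3,2,0,1,5,4,1,0]) (.word [2,1,3,2,5,1,5,2,3,0,1,2,0])) (.node .none (.word [1,3,6,1,0,2,1,0,1,6,3,1])))))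 (.node (.node (.word [4,5,1,2,3,2,1,0,1,5,4,3]) (.node (.node .none (.word [2,1,0,1,3,2,3,4,2,3,2,0,1,6,5,1,2,0])) (.word [3,4,3,2,3,1,0,1,2,3,0,1]))) (.node (.node (.node .none (.word [2,4,3,6,1,5,2,1,6,5,1,6,3,2])) .none) .none))))

/-- A subtree. -/
def sub21 : WTree :=
  (.node (.node (.node (.node (.node (.node .none (.word [0,1,3,5,1,2,1,5,3,0])) (.node .none (.word [2,1,0,1,5,1,6,2,3,1,2,1,0]))) (.node (.node .none (.node .none (.word [0,6,1,0,1,2,3,6,1,5,4,1,2,1]))) (.node (.node (.word [3,6,5,1,6,5,1,2,3]) (.word [0,1,2,1,0,3,1,2,1,0])) (.word [0,1,5,1,6,2,1,5,3,2,3])))) (.node .none (.node .none (.node (.word [0,5,1,6,2,3,2,1,5,2,3]) (.word [1,0,1,3,4,3,5,2,3,2,1,0,1]))))) (.node (.node (.node (.node (.node .none (.word [0,1,2,3,4,2,1,0])) (.word [0,2,3,5,2,1,5,2,3,2,0])) (.node (.node (.word [1,4,5,1,2,3,4,0,1,2,3])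 (.word [0,1,2,1,6,3,2,1,5,4,0,1,2])) .none)) (.node (.node (.node .none (.word [1,6,1,5,3,2,1,6,3,0])) (.word [0,1,2,1,5,4,3,1,2,3,1,2,3])) .none)) (.node (.node .none (.node .none (.word [1,2,3,2,1,5,3,1,0,1,2,3,4,1]))) (.node .none (.node .none (.word [1,2,1,4,5,3,2,3,4,3,1,2,1])))))) (.node (.node (.node (.node (.node (.node (.word [0,1,0,2,1,3,5,2,3,1,2,3,4,1]) (.word [0,3,6,1,2,1,6,5,1,6,3,0])) .none) (.node (.word [0,4,3,5,1,6,2,1,5,3,4,1,0]) (.word [3,5,1,2,3,2,1,5,2,1,0]))) (.node (.node (.node .none (.word [0,1,3,2,1,6,0,1,5,2,1,6,3])) .none) .none)) (.node (.node (.node .none (.node (.word [1,2,3,2,1,6,5,4,3,2,1,6,2,0]) (.word [1,0,1,0,6,1,2,3,4,2,3]))) .none) (.node .none (.node (.node .none (.word [4,3,5,1,2,1,5,3,2,0,1,0])) .none)))) (.node (.node (.node .none (.node (.node .none (.word [1,3,2,6,1,5,1,6,1,5,3]))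 .none)) .none) (.node (.node (.node (.node .none (.word [3,5,6,2,1,6,5,3,1,0])) (.node .none (.word [1,0,1,6,1,2,3,4,1,0]))) (.node (.word [4,3,2,6,1,5,0,1,6,3,2,1,5]) (.word [0,2,1,0,5,4,1,2,3,2,3]))) .none))))

/-- A subtree. -/
def sub22 : WTree :=
  (.node (.node (.node (.node (.node (.node .none (.node (.word [3,5,6,2,1,6,5,1,2,3]) (.word [1,4,5,1,0,1,6,5,2,1,0,1]))) .none) (.word [0,5,1,2,0,1,5,3,2,3])) (.node (.node (.node .none (.word [0,1,2,6,1,0,2,6,1,2,3,4,2,3,1])) (.word [5,1,0,6,1,0,2,1,6,0,1,5,4])) (.node (.node .none (.word [])) .none))) (.node (.node (.node (.node .none (.node .none (.word [4,3,6,1,5,1,6,2,3,1,2,3,1]))) (.word [2,1,0,1,5,4,2,3,1,2,3,1,2,3,4])) (.node .none (.node (.node .none (.word [4,5,6,1,2,3,2,1,5,1,0,1,6,4])) .none))) (.node (.node (.node (.node .none (.word [2,5,1,0,2,1,5,1,6,3,2,1,0,1]))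 (.word [0,1,0,2,1,6,5,1,6,4,3,2,1,0])) .none) (.node .none (.node (.word [1,6,5,1,2,3,0,1,6,1,5,1,2,1]) (.word [1,0,1,2,5,6,1,0,1,5,4,1])))))) (.node (.node (.node (.node .none (.word [2,1,4,3,2,0,1,6,5,3,4,1,2,0])) .none) (.node (.node .none (.node .none (.word [3,5,6,1,5,2,1,6,5,3,1]))) .none)) (.node (.node (.word [0,4,5,1,6,2,3,1,2,1,0,1,5]) (.node (.node (.node .none (.word [3,5,2,1,0,1,5,3,0])) .none) (.node (.node .none (.word [0,1,3,5,1,6,1,5,2,3])) (.word [1,0,1,4,5,6,1,2,3,4,0])))) (.node (.node (.node (.node .none (.word [0,2,6,1,2,6,5,3,1,2,1])) .none) .none) .none))))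

/-- A subtree. -/
def sub23 : WTree :=
  (.node (.node (.node (.node (.node (.node .none (.word [6,1,0,2,1,5,3,2,1,6,4,2,1])) .none) (.node (.node (.node .none (.word [2,6,1,0,2,3,2,1,6,2])) (.node (.word [1,3,2,6,1,0,2,1,6,2,3,1,0]) (.word [3,2,3,4,1,2,3,2,3,1,2,3]))) (.node (.word [2,1,3,2,1,0,1,6,2,3,0,1,2,0]) (.word [4,3,2,6,1,5,1,2,1,0,1,6,5])))) .none) (.node (.node (.node (.node .none (.word [1,0,1,3,2,3,4,2,3,1,0,1])) .none) (.node (.node .none (.node (.word [6,1,2,5,6,1,3,2,1,6,5,1,2]) (.word [3,5,1,2,1,0,1,5,3,1,0]))) (.node .none (.word [0,2,6,1,5,6,1,2])))) (.node (.node (.node (.node .none (.word [2,3,6,1,2,3,2,1,6,2,3,2])) (.node .none (.word [0,2,3,6,2,1,6,0,1,2,3,4,2,0]))) .none) (.node (.node (.node .none (.word [2,1,0,3,2,1,6,2,3,0,1,2,0])) .none) .none)))) (.node (.node (.node (.node (.node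 .none (.node .none (.word [1,0,4,3,5,1,2,1,5,3,2,3,4,3,1]))) (.node (.node .none (.word [1,2,3,2,4,1,0,1,2,1])) .none)) (.node (.node .none (.word [2,1,4,3,2,6,0,1,6,3,4,2,0])) (.node .none (.word [2,3,4,2,1,5,3,2,3,4,1,2,3,2])))) (.node (.node (.word [2,4,3,5,2,1,0,1,5,2,3,4,2]) (.node (.node (.word [0,4,3,2,1,5,0,1,2,3,4,1,2,3]) (.word [3,2,3,1,2,3,4,2,1,0])) .none)) (.node .none (.word [0,4,3,5,1,2,0,1,5,3,4,0])))) (.node (.node (.node (.node (.node .none (.word [0,1,2,1,6,3,2,1,5,1,0,1,2])) .none) .none) (.node (.node (.node .none (.word [4,3,2,1,5,4,1,0,1,0])) .none) .none)) (.node (.node (.node (.node .none (.word [3,6,1,0,1,6,1,2,0,1,6,3])) .none) (.word [1,5,6,1,0,3,2,1,6,2,3,1,0])) .none))))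

/-- A subtree. -/
def sub24 : WTree :=
  (.node (.node sub20 sub21) (.node sub22 sub23))

/-- A subtree. -/
def sub25 : WTree :=
  (.node (.node (.node (.node (.node (.node .none (.node .none (.word [0,2,1,6,1,0,1,2,3,2,3,4]))) (.word [2,4,6,1,2,3,5,6,1,2,0,1,6,1,5])) (.node (.node (.node .none (.word [3,2,1,0,1,5,0,1,2,3,0,1])) .none) (.node (.node .none (.word [3,2,3,2,1,5,4,0,1,2,3,2,3])) .none))) (.node (.node .none (.node (.node .none (.word [0,1,0,1,2,3,2,4,3,1,2,1,0,1])) .none)) (.node (.node .none (.node .none (.word [1,0,2,1,5,1,2,3,4,1,2,1]))) .none))) (.node (.node (.node (.node .none (.node (.word [1,3,2,1,6,0,1,5,6,2,3,1]) (.word [0,3,4,5,2,3,2,1,5,0,1,0]))) (.node .none (.word [1,2,3,2,4,3,2,1]))) .none) (.node (.node (.node (.node (.word [1,3,2,4,3,2,1,5,4,1,0,1,2,0,1]) (.word [1,0,6,1,2,0,1,5,1,6,3,4]))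 .none) (.node (.word [5,1,0,2,1,6,0,1,5,3,4,0]) (.word [3,5,2,3,2,1,5,2,0]))) (.node (.node .none (.node .none (.word [1,0,3,2,1,6,1,0,1,6,2,3]))) (.node (.node .none (.word [1,0,3,6,1,2,1,5,1,6,3])) .none))))) (.node (.node (.node (.node .none (.node .none (.word [0,5,1,0,1,5,0]))) (.node (.node (.word [4,3,6,1,5,1,2,0,1,6,0,1]) (.node .none (.word [3,6,2,3,2,1,6,5,2,3,1,2,1]))) (.node .none (.word [0,4,3,2,1,6,5,4,1,0,1])))) (.node (.node (.node .none (.word [3,5,1,2,1,6,0,1,5,2,3])) .none) .none)) (.node (.node (.node (.node (.node .none (.word [1,0,1,3,6,1,0,1,2,3,1])) (.word [1,0,1,4,5,2,3,1,0,1,2,3,0])) (.word [0,1,2,3,4,2,3,1,2,3])) (.word [2,1,0,3,2,1,6,5,2,3,4,1,2,0])) (.node (.node (.node (.node .none (.word [6,5,1,6,5,1,0])) .none) (.node .none (.word [0,1,0,2,1,3,2,0,1,5,4,3,2,1]))) (.node (.node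 .none (.word [1,0,1,3,2,3,6,4,2,1,0,1,2,3,1])) .none)))))

/-- A subtree. -/
def sub26 : WTree :=
  (.node (.node (.node (.node .none (.node .none (.node .none (.word [2,1,3,2,1,0,1,6,3,2,3,4,1,2,0])))) (.node (.node .none (.word [1,2,3,2,1,0,1,5,3,4,2,0,1])) (.word [1,4,3,6,5,1,2,0,1,6,2,0,1]))) (.node (.node (.node .none (.node (.node (.word [2,1,6,5,1,6,2,0]) (.word [0,4,3,2,1,6,4,0,1,0,1])) (.word [3,6,5,1,6,2,0,1,5,2,3,0,1,0]))) (.node (.node (.node .none (.word [0,1,0,3,2,1,6,3,1,0,1])) (.node .none (.word [3,6,1,5,2,1,6,2,3,0,1]))) .none)) (.node .none (.node (.node (.word [4,5,6,1,2,3,2,0,1,6,1,5,4]) (.node (.word [1,3,2,3,2,1,5,2,3,1,2,3,4]) (.word [3,2,3,4,2,1,0,1,2,0]))) (.node (.node (.word [3,5,1,2,1,0,1,5,1,2,3]) (.word [1,2,1,0,4,1,2,3,2,1])) .none))))) (.node (.node (.node (.node .none (.node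 (.node (.word [1,3,2,5,1,6,5,1,6,2,1,5,3]) (.word [0,1,3,2,1,5,3,1])) .none)) (.node (.node (.word [3,4,5,6,1,5,0,1,2,3,2,1,6,4,0,1]) (.word [0,1,2,6,1,0,2,6,1,5,2,3,4,3,1])) .none)) (.node (.node (.node .none (.word [1,2,3,5,6,1,2,1,5,1,6,4,3,2,1])) (.node .none (.word [1,2,1,6,1,0,1,2,3,2,1,6,4,3]))) (.node (.node (.node .none (.word [0,1,4,5,1,2,1,0,1,5,2,3,4])) .none) (.node (.node (.word [4,3,2,1,3,2,3,2,1,6,5,1,2,1,0]) (.word [1,0,1,3,4,2,3,2,3,1,0,1])) (.word [2,1,3,4,3,2,5,3,4,1,2,3,2]))))) (.node (.node .none (.node (.node (.word [1,4,3,2,1,5,0,1,2,0,1]) (.node (.word [2,6,1,2,5,1,3,2,1,6,5,3,2,3,4]) (.word [0,1,0,1,3,4,2,3,2,1,0,1,2,3]))) .none)) (.node (.node (.node (.node .none (.word [3,4,2,3,1,2,0,1,5,4,1])) .none) .none) (.node (.node (.node (.word [1,2,1,0,4,1,5,3,2,0,1]) (.word [3,6,1,2,1,5,1,6,1,2,3,0]))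 .none) (.node .none (.word [1,0,2,5,1,3,4,0,1,2,1])))))))

/-- A subtree. -/
def sub27 : WTree :=
  (.node (.node (.node (.node (.node (.word [2,1,6,1,2,5,3,4,1,2,3,2,1,6,5]) (.node .none (.word [1,0,2,1,5,1,4,2,3,2,1,0,1,2]))) (.node (.node .none (.node .none (.word [1,5,1,2,3,4,0,1,0]))) (.node (.node .none (.word [3,6,1,2,1,5,1,6,3,1])) .none))) (.node (.node (.node .none (.word [1,5,1,3,2,3,4,2,3,2,1,0])) .none) (.node (.node (.node .none (.word [0,1,2,3,6,1,5,6,4,1,2,0,1,0])) (.word [1,0,2,5,1,0,1,5,4,2,0,1])) .none))) (.node (.node (.node .none (.node (.node .none (.word [0,1,2,6,1,5,6,1,2,0,1,0])) .none)) (.node .none (.word [2,1,0,3,5,1,6,2,3,1,2,3,1,2,0]))) (.node (.node (.node .none (.word [0,2,3,4,2,3,2,1,0,1,6,4,3,1,2,0])) (.node .none (.word [2,1,0,5,1,6,2,3,0,1,2,1,0]))) (.node (.word [3,5,1,2,1,6,0,1,5,3,0])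 (.word [1,0,3,2,1,6,5,1,2,0,1,6,2,3]))))) (.node (.node (.node (.node (.node .none (.node .none (.word [1,4,6,5,1,2,3,2,1,5,1,6,2,1]))) (.node .none (.word [4,3,6,5,1,6,2,0,1,5]))) .none) (.node (.node (.node (.node .none (.word [2,1,0,3,2,1,6,1,5,2,3,1,2])) .none) .none) (.node (.node .none (.word [0,4,3,5,1,6,0,1,2,0,1,5])) .none))) (.node (.node (.node .none (.node (.node (.word [0,1,2,1,6,1,2,3,2,3,1,2,3,4]) (.word [0,1,0,3,5,2,1,0,1,5,2,3,0])) (.word [0,1,0,1,3,4,3,2,3,4,1,2,0,1]))) (.node (.node (.word [0,1,0,5,1,6,2,3,2,1,6,5,4,3,1,0]) (.word [1,0,1,4,6,2,3,0,1,0,1,2,3,1])) .none)) (.node .none (.node (.node (.node .none (.word [4,3,2,5,1,0,1,6,2,1,5,4,0])) .none) (.node (.node .none (.word [2,1,3,2,6,1,0,1,6,3,1,2,3,1,2])) .none))))))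

/-- A subtree. -/
def sub28 : WTree :=
  (.node (.node (.node (.node .none (.node .none (.node (.node .none (.word [2,3,5,1,6,2,1,6,0,1,5,6,3,2])) .none))) (.node (.node .none (.node (.node .none (.word [0,2,1,0,4,1,2,0])) (.word [5,1,0,1,2,0,1,5,3,2,3,4]))) (.node .none (.word [1,0,2,6,1,0,2,1,5,6,3,4,1])))) (.node (.node (.node (.node .none (.node (.word [1,0,2,1,0,1,5,3,1,2,3,4,1]) (.word [1,4,3,2,1,3,0,1,5,4,3,1,2,1]))) .none) (.word [5,1,2,6,1,0,2,3,2,1,5,6,2,1,0])) (.node .none (.node (.word [0,5,1,2,1,0,1,5,3,2,3,1,0]) (.word [4,6,5,1,2,6,5,3,2,1,0]))))) (.node (.node (.node (.node .none (.node .none (.word [2,1,6,5,1,6,2,3,2,3]))) .none) (.node .none (.node (.node .none (.node (.word [0,4,5,1,6,2,1,0,1,5,2,3,4]) (.word [2,1,0,3,2,1,6,2,3,4,1,2,0]))) .none))) (.node (.node (.node (.node (.node (.word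 [3,6,1,0,1,5,1,2,0,1,6,5,3]) (.word [5,1,0,1,6,2,1,5,6,3,4])) .none) (.node (.node .none (.word [2,4,3,6,1,0,1,2,1,6,5,3,4,1,2])) .none)) (.node (.node .none (.node .none (.word [2,1,3,2,5,1,2,3,0,1,2,0]))) .none)) (.node (.node (.node (.node (.word [2,5,6,1,0,2,3,2,1,6,5,2]) (.word [1,0,2,1,5,0,1,2,3,4,1])) (.node (.word [2,3,2,1,6,5,1,6,3,2,0]) (.word [0,1,3,2,4,3,2,1,5,1,2,0,1,0]))) (.node .none (.word [1,3,2,4,3,2,1,2,0,1,6,1,2,1,0]))) (.node (.node (.node (.word [5,1,0,2,1,0,1,5,3,2,3,2,1,0]) (.word [1,0,3,2,1,5,3,4,1,2,1,0,1])) .none) .none)))))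

/-- A subtree. -/
def sub29 : WTree :=
  (.node (.node sub25 sub26) (.node sub27 sub28))

/-- A subtree. -/
def sub30 : WTree :=
  (.node (.node (.node (.node (.node .none (.word [0,3,4,2,3,2,1,5,4,0,1,2,1,0,1])) (.node .none (.node (.node (.word [1,5,6,1,5,3,2,1,6,5,3]) (.word [1,0,4,3,5,1,2,0,1,5,3,0,1,2,1])) .none))) (.node (.node (.node (.word [1,2,1,0,5,1,3,2,3,1,2,3,4]) (.node .none (.word [1,3,2,5,3,1]))) (.node (.node .none (.word [1,2,4,3,2,1,0,1,2,3,4])) (.word [0,3,2,1,5,6,1,5,2,1,6,5,3]))) (.node (.node (.word [5,1,0,2,1,6,2,0,1,5,3,4,0]) (.node .none (.word [3,5,1,0,1,5,0,1,2,3,1]))) (.node (.node .none (.word [6,5,1,2,6,5,3,4,2,1,0])) (.word [1,2,4,6,1,5,3,0,1,2,0,1,6,0]))))) (.node (.node (.node (.node .none (.word [0,3,6,1,5,2,1,6,3,1])) (.node (.node .none (.word [1,4,3,2,1,3,2,0,1,6,4,1,2,1,0]))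 .none)) (.node .none (.node (.node .none (.word [0,5,1,6,2,3,2,0,1,5,2,3])) .none))) (.node (.node (.node .none (.node .none (.word [3,2,1,5,6,1,5,6,3]))) (.node (.node .none (.word [1,3,6,5,1,2,1,6,0,1,2,3])) .none)) (.node .none (.node (.node .none (.word [1,3,6,1,0,2,1,5,2,0,1,6,3,0])) .none))))) (.node (.node (.node (.node .none (.node (.node .none (.word [2,3,5,1,2,1,5,3,4,2,0])) .none)) (.word [0,4,3,5,1,6,0,1,2,1,0,1,5])) (.node (.node (.node (.word [1,4,3,2,3,6,1,0,1,2,1,0,1,6,1]) (.word [2,1,0,5,1,6,2,3,4,1,2,1,0])) .none) (.node (.node (.node (.word [0,1,2,1,0,1,2,3,2,1,6,1,0,1]) (.word [1,2,1,0,3,1,2,1])) (.node (.word [1,0,2,1,5,1,2,3,2,0,1,0,1,2]) (.word [4,6,1,0,1,2,5,6,1,2,0,1,6,5]))) (.node (.node (.word [0,5,1,6,2,1,5,3,1,2,3]) (.word [4,3,2,1,6,5,1,6,2,3,4,0])) (.word [3,4,5,6,2,1,6,3,2,0,1,5,4])))))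 (.node (.node (.word [3,5,2,3,1,2,0,1,5,3,2,3]) (.node (.node (.node .none (.word [0,1,0,1,5,0,1,2,3,4,3,2,1])) .none) (.node (.node .none (.word [2,5,1,6,1,2,5,3,2,1,6,2])) .none))) (.node (.node (.node .none (.node .none (.word [0,1,0,1,4,2,3,2,3,1,2,0,1,0]))) (.node (.node .none (.word [0,2,3,5,1,2,3,2,1,5,6,1,5,0])) (.word [0,3,2,3]))) (.node (.node (.node .none (.word [2,1,0,1,5,1,6,4,1,2,0])) .none) .none)))))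

/-- A subtree. -/
def sub31 : WTree :=
  (.node (.node (.node (.node (.node (.node (.node .none (.word [1,6,5,1,0,1,6,2,3,4,2,1,0])) (.node .none (.word [2,1,3,5,6,1,5,6,2,1,0,1,6,3,2]))) .none) (.node (.node .none (.word [2,3,5,6,1,0,2,5,1,2,0,1,6,3,2])) .none)) (.node .none (.node (.word [4,3,2,3,2,1,0,1,6,1,2,0]) (.node (.word [3,6,5,1,6,2,1,5,3]) (.word [0,1,5,1,6,2,1,5,0]))))) (.node (.node (.node .none (.word [0,2,1,5,1,2,0])) (.node (.word [0,4,3,2,1,3,2,3,4,0,1,2,3,0,1,0]) (.word [0,1,0,3,2,1,5,3,0,1,2,3,4,2,3]))) (.node (.word [2,6,1,2,5,3,2,1,6,1,5,2]) (.node (.node (.node .none (.word [0,1,0,2,1,6,5,1,6,2,1,0])) .none) .none)))) (.node (.node (.node (.node (.node (.node .none (.word [2,1,3,2,3,1,2,3,1,2])) .none) (.node (.node (.word [0,4,3,2,1,5,1,2,3,4,0]) (.word [2,1,0,3,2,1,6,3,2,3,4,1,2,0]))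 (.word [1,2,3,5,4,3,2,0,1]))) (.node (.node (.node .none (.word [0,2,1,3,2,3,1,2,3,1,2,0])) (.word [0,1,4,6,1,2,3,1,2,1,0,1,6,4,0])) .none)) (.node .none (.node .none (.word [2,1,4,3,2,3,4,2,3,2,1,6,5,1,2,0])))) (.node (.node (.node (.node .none (.node .none (.word [0,3,6,1,5,2,1,6,1,2,3,0]))) .none) (.node (.word [3,5,1,0,1,5,2,3,0,1,0]) (.word [4,5,1,0,2,1,0,1,5,3,4,1,2,3]))) (.node (.node (.node .none (.word [3,6,5,2,1,6,5,1,6,2,3,1])) (.node (.node .none (.word [0,1,4,2,3,2,3,1,2,3])) (.word [5,1,2,6,1,0,1,5,3,2,1,6,0,1,5]))) (.node (.node (.node (.word [1,2,5,1,2,3,0,1,2,1,0,1]) (.word [0,3,5,1,6,2,1,5,3,0])) .none) .none)))))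

/-- A subtree. -/
def sub32 : WTree :=
  (.node (.node (.node (.node (.node (.node (.node .none (.word [1,3,2,1,5,0,1,0,1,5,3])) .none) (.node (.node (.word [1,5,6,1,0,3,2,1,6,1,5,3,1]) (.word [1,0,3,2,1,0,1,2,3,2,3,4,3])) .none)) (.node (.node .none (.word [3,5,1,2,3,1,2,0,1,5,1,0])) .none)) (.node .none (.node (.node (.word [3,5,2,1,6,3,2,1,5,3,1,2,3]) (.word [2,4,6,5,1,2,0,1,6,5,2,1,0])) .none))) (.node (.node (.node (.node (.word [3,4,5,1,5,2,3,2,1,6,4,1,0,1]) (.node .none (.word [2,1,0,3,2,1,5,6,2,3,1,2,0]))) .none) (.node (.node .none (.node (.word [2,1,5,1,0,2,1,6,3,2,1,0,1]) (.word [1,6,1,2,3,2,1,0,1,6,2,3,4,1]))) (.node .none (.word [1,2,1,0,5,1,5,3,2,3,4,1,0,1,0])))) .none)) (.node (.node (.word [5,6,1,2,3,2,4,3,2,1,6,5]) (.node (.word [1,0,1,3,6,5,1,2,3,0,1,0]) (.node .none (.word [6,1,0,2,1,0,6,1,5,3,2,1,6,5,4]))))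 (.node (.node (.node (.node (.word [2,4,6,1,2,5,6,1,2,3,2,1,6,5]) (.node .none (.word [0,1,3,2,4,3,2,1,0,1,6,1,2,1,0]))) (.word [1,2,1,5,3,2,1,6,5,1,2,0])) (.node (.node (.node (.word [0,4,3,2,6,1,5,6,1,2,3,4]) (.word [2,1,4,3,2,1,0,1,2,3,4,2])) .none) .none)) (.node (.node (.node .none (.word [0,1,0,1,5,1,2,3,4,3])) (.node .none (.word [2,4,5,1,0,1,6,2,1,0,1,5,2]))) .none))))

/-- A subtree. -/
def sub33 : WTree :=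
  (.node (.node (.node (.node (.node (.node .none (.node (.word [4,3,2,3,2,1,0,1,6,2,3,4,1,2,1,0]) (.word [0,2,1,0,3,2,1,5,2,3,1,2]))) (.node .none (.word [4,3,2,3,4,6,5,2,1,6,0,1,5,2]))) (.node (.node .none (.word [1,2,1,5,6,3,2,1,6,2,0])) .none)) (.node .none (.node .none (.node (.node .none (.word [1,3,6,5,1,5,2,1,6,3])) .none)))) (.node (.node .none (.node .none (.word [2,1,6,5,1,6,2,0,1,5,3,2,3,1]))) (.node (.node (.node (.word [0,1,4,5,1,2,3,0,1,2,1,0,1,5]) (.word [1,0,1,4,6,5,1,2,3,4,1,2,3])) (.node (.word [1,2,1,5,3,2,1,6,4,0,1,2,0]) (.word [2,5,1,0,2,1,5,3,2,3,4,0]))) (.node .none (.node .none (.word [2,4,6,5,1,0,1,5,6,2])))))) (.node (.node (.node (.node .none (.node (.node .none (.word [0,1,3,5,1,2,0,1,5,3,0])) .none)) (.word [5,1,0,1,5,2,3,2,3,4,3,2,1,0])) (.node (.node (.node .none (.node .none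 (.word [1,2,4,5,1,3,2,0,1,0,1,0]))) .none) (.node (.word [1,5,1,3,2,3,1,0]) (.node (.node .none (.word [2,1,0,1,3,2,5,3,4,0,1,2])) .none)))) (.node (.node (.node (.node (.node .none (.word [4,3,2,3,2,1,5,1,2])) .none) .none) (.node (.word [1,4,3,2,1,3,0,1,5,2,1,0,1,2]) (.node .none (.word [0,1,3,2,6,1,5,0,1,6,5,3])))) (.node (.node (.node (.node .none (.word [3,5,1,6,2,1,5,6,3])) (.word [3,5,2,1,6,3,2,1,5,1,0])) .none) (.node (.word [0,3,2,3,1,2,3,4,2,3,2,1]) (.word [0,2,1,5,1,2,3,2,3]))))))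

/-- A subtree. -/
def sub34 : WTree :=
  (.node (.node sub30 sub31) (.node sub32 sub33))

/-- A subtree. -/
def sub35 : WTree :=
  (.node (.node (.node (.node (.node (.node .none (.word [3,5,2,1,0,1,5,2,3])) .none) .none) (.node (.node (.node (.node .none (.word [0,1,3,5,1,2,3,2,1,5,0])) (.word [0,1,2,3,5,1,6,2,1,5,6,4])) .none) .none)) (.node (.node (.node (.word [0,1,4,5,1,2,3,1,2,1,0,1,5]) (.node .none (.word [0,1,3,2,6,0,1,5,6,2,3,1]))) (.node (.node (.node .none (.word [0,2,4,3,6,1,6,2,3,4,0,1,2])) .none) (.node (.node .none (.word [3,5,2,1,5,6,3,2,1,5,0])) (.word [0,3,5,1,6,2,0,1,5,2,3])))) (.node (.node (.word [2,4,3,6,1,5,2,0,1,6,5,3,4,2]) (.word [1,2,3,2,1,5,2,1,6,4,1,2,0])) (.node (.word [0,1,4,5,3,2,1,0,1,5]) (.node (.node (.word [1,2,3,5,1,4,2,3,1,2,3,1,2,0,1]) (.word [0,4,6,1,2,5,6,3,2,1,5,6,2,1]))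 .none))))) (.node (.node (.node .none (.node (.node (.node (.word [3,5,6,1,5,2,1,6,5,1,2,3,0]) (.word [3,5,1,6,1,5,1,6,2,3,1])) .none) (.node (.node .none (.word [0,1,0,1,3,4,2,3,2,3,1,0,1,0])) .none))) (.node (.node (.node (.node .none (.word [1,3,2,6,1,0,1,2,0,1,5,6,3,1])) .none) (.node .none (.word [0,1,2,3,5,1,5,4,2,1,0]))) (.node .none (.node (.node .none (.word [0,1,5,6,1,5,6])) .none)))) (.node (.node (.node .none (.node (.node .none (.word [3,6,1,0,5,1,2,1,0,1,6,3,0,1])) .none)) .none) (.node (.node (.node .none (.word [5,1,0,2,1,5,6,1,2,1,0,1,5])) (.node .none (.word [2,4,3,5,6,1,2,1,0,1,6,5,2,3,4,2]))) (.word [1,2,1,0,5,1,0,1,2,3,4,2,3,1])))))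

/-- A subtree. -/
def sub36 : WTree :=
  (.node (.node (.node (.node (.node .none (.node .none (.word [5,6,1,0,2,1,5,2,1,6,2,3,4]))) (.node (.node (.node .none (.word [0,1,4,3,2,0,1,5,1])) .none) .none)) (.node (.node (.node .none (.word [2,1,3,6,5,1,6,2,1,5,3,1,2,0])) (.node (.word [3,5,6,1,0,2,1,5,1,0,1,6,3]) (.word [0,2,4,3,2,1,5,1,2,3,2]))) (.node (.node .none (.node .none (.word [5,1,0,2,1,2,3,2,1,5,4,1,0]))) .none))) (.node (.node .none (.node .none (.node (.node .none (.word [2,4,3,2,6,1,5,1,0,1,6,3,2])) .none))) (.node .none (.node (.node (.word [0,1,0,2,5,1,4,3,2,1,5,3,4,3]) (.word [2,1,0,1,3,2,5,3,1,0,1,2])) (.node (.node (.word [3,4,2,3,2,1,6,5,1,0,1]) (.word [1,3,2,1,0,1,6,3,1,0,1])) .none))))) (.node (.node (.node (.node (.node (.node .none (.word [0,4,5,1,2,3,2,1,5,3,4,0])) .none) (.node (.node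 .none (.word [4,3,2,1,6,1,2,0,1,5,3,2,1,6,4])) .none)) (.node (.node (.node (.word [0,1,2,1,0,6,1,4,2,3,2,3,1,2,3,4]) (.word [3,2,3,4,2,1,0,1,2,3,2,3])) .none) (.node (.node .none (.word [0,2,4,3,6,1,5,2,0,1,6,3,4,2,0])) .none))) (.node (.node (.node (.node .none (.word [2,1,4,3,2,0,1,5,6,3,1,2,0])) .none) (.node (.node .none (.word [0,2,1,0,5,4,1,2,0])) (.word [1,2,1,0,4,1,5,3,2,3,0,1,2,3,0]))) (.node .none (.node (.word [1,4,5,1,2,6,3,2,1,6,4,3,0,1]) (.word [1,0,1,4,5,2,1,0,1]))))) (.node (.node (.node (.node (.node .none (.word [0,3,5,1,6,2,0,1,5,3,0])) .none) (.word [1,4,5,6,1,2,3,2,1,6,4,3,2,3,1,0])) (.node .none (.node (.node .none (.word [5,1,0,1,5,2,3,4,1,0])) .none))) (.node (.node (.node (.word [0,1,0,2,1,5,1,4,3,2,3,4,1,2,3,1]) (.word [1,0,4,5,1,0,1,2,3,4])) (.node .none (.word [0,1,0,3,2,1,5,6,1,5,2,3,0,1])))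 .none))))

/-- A subtree. -/
def sub37 : WTree :=
  (.node (.node (.node (.node (.node (.node (.node (.word [3,4,5,1,2,3,2,1,0,1,5,4]) (.word [1,0,3,4,3,2,3,1,5,2,3,4,0,1])) .none) .none) (.node .none (.node (.node (.word [0,3,5,1,0,1,5,2,3]) (.word [0,2,3,6,1,5,6,1,2,3,2])) .none))) (.node (.node (.node .none (.word [2,6,5,1,2,0,1,6,5,3,2,1,0])) (.node .none (.word [0,2,1,3,6,5,1,2,3,4,0,1,2]))) (.node (.node (.node .none (.word [1,0,1,6,5,1,2,3,4,1,0])) .none) .none))) (.node (.node (.node .none (.node (.node (.word [3,2,1,0,1,5,3,1,2,3,4,3]) (.word [1,0,2,3,6,1,5,2,1,6,4,3,2,1])) .none)) (.node (.node .none (.node .none (.word [1,0,3,2,1,5,0,1,0,1,2,3]))) (.word [0,1,3,5,1,2,0,1,5,2,3]))) (.node .none (.node (.word [3,6,1,2,1,5,0,1,2,0,1,6,3,1]) (.node (.node .none (.word [0,2,1,0,4,1,2,3,2,3])) (.word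 [2,1,4,5,1,0,3,1,2,3,4,2])))))) (.node (.node (.node (.word [4,3,6,5,1,6,2,1,0,1,5]) (.node (.node .none (.node .none (.word [3,2,3,2,1,5,4,0,1,2,0]))) (.node (.node .none (.word [3,5,2,3,1,2,0,1,5,0])) .none))) (.node (.node (.node .none (.node (.word [0,1,2,1,0,3,4,3,1,2,1,0]) (.word [1,4,3,2,6,1,0,1,5,3,2,0,1,6,0]))) .none) (.node (.node .none (.node .none (.word [1,0,3,2,1,3,0,1,2,3,4,3]))) .none))) (.node (.node (.node (.node .none (.word [1,4,3,2,1,3,5,2,3,1,2,0,1,0])) .none) .none) (.node (.node .none (.node (.node .none (.word [4,3,2,1,0,1,5,4,0,1])) .none)) (.node .none (.node (.node .none (.word [0,3,5,2,1,5,3,2,3,4,0,1,0])) .none))))))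

/-- A subtree. -/
def sub38 : WTree :=
  (.node (.node (.node (.node (.node (.node (.node (.word [4,3,2,5,3,2,1,0,1,5,2,0]) (.word [3,6,1,2,3,4,2,3,2,1,5,6,2,1])) (.node (.word [3,6,1,0,5,2,1,6,2,1,5,3,1]) (.word [6,5,1,2,6,1,5,3,4,2,1,0]))) (.node (.node .none (.word [0,1,0,2,5,1,3,2,1,5,3,4])) (.word [3,4,3,2,3,6,1,0,1,2,0,1,6,3]))) (.node (.node .none (.node .none (.word [0,3,6,1,2,1,6,5,1,6,2,3]))) (.node .none (.word [1,4,3,2,3,5,1,2,0,1,5,4,0,1])))) (.node (.node (.node (.node .none (.word [2,3,6,5,2,1,0,1,5,6,3,4,2])) (.node .none (.word [6,1,2,3,2,4,1,6,0,1,2,3,2,1,6]))) (.node (.word [1,0,1,3,6,1,2,3,0,1,0]) (.word [1,0,6,1,5,6,2,1,5,3,2,3,4]))) (.node (.node (.word [3,6,5,2,1,5,0,1,6,2,3,1,0]) (.node .none (.word [3,6,5,1,6,2,0,1,5,0,1,2,3,1]))) (.node .none (.word [0,1,2,1,0,1,5,6,3,2,1,5,6])))))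 (.node .none (.node (.node (.node .none (.node .none (.word [3,6,2,1,0,1,6,1,2,3,0,1]))) (.word [1,0,2,5,1,3,2,1,0,1,2])) (.node (.word [3,5,1,0,1,2,0,1,6,1,5,2,3]) (.node (.word [6,5,1,2,6,5,3,4,2,3,1,2,3]) (.word [0,1,0,2,1,0,4,3,2,1,5,3,2,1])))))) (.node (.node (.node (.word [1,0,2,1,0,1,5,4,3,2,3,0,1,2,3,4]) (.node (.node (.word [0,4,3,2,1,6,2,1,0,1]) (.node (.word [0,1,5,1,2,3,2,1,5,2,3]) (.word [1,4,3,2,1,3,5,4,1,2,1,0,1,0]))) (.node (.node .none (.word [6,1,0,2,1,5,4,2,3,2,1,6,4])) .none))) (.node .none (.node .none (.node (.node .none (.word [0,1,0,2,1,3,2,3,4,2,1,0,1,0])) .none)))) (.node (.node (.node (.node (.node .none (.word [2,3,5,1,0,2,1,5,0,1,2,3,4,2])) .none) .none) (.node (.node .none (.word [1,3,2,6,1,5,6,1,5,6,2,3])) (.node (.node .none (.word [1,0,1,2,3,2,5,3,4,3,1,0,1])) .none))) (.node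 (.word [3,5,1,6,1,2,1,6,5,3]) (.node .none (.word [0,1,4,2,3,2,1,0]))))))

/-- A subtree. -/
def sub39 : WTree :=
  (.node (.node sub35 sub36) (.node sub37 sub38))

/-- Points. -/
def levX1pts0 : List ℕ := [0,6,7,15,21,23,24,31,35,37,48,49,52,53,62,65,81,85,92,98,99,105,109,123,126,127,132,145,146,147,154,155,157,159,160,169,174,178,181,182,185,186,189,193,197,201,202,207,208,209,221,227,230,231,234,235,238,239,243,249,250,253,254,257,258,261,272,276,280,281,282,292,295,296,297,298,306,309,310,315,324,330,331,335,348,352,354,355,365,367,376,380,385,391,392,396,422,423,425,429,432,441,448,456,457,462,465,469,473,474,475,476,483,484,486,490,491,494,495,509,511,512,515,516,520,524,525,527,545,546,552,556,558,562,567,579,580,582,583,587,593,594,599,600,602,612,614,621,624,627,629,633,635,637,638,645,649,652,653,665,666,668,671,672,677,680,684,688,694,698,703,708,709,710,720,721,726,734,736,746,747,754,768,774,776,779,781,783,786,790,792,793,798,800,802,803,810,822,833,839]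

/-- Points. -/
def levX1pts1 : List ℕ := [843,846,847,851,852,858,859,864,866,870,872,877,881,882,883,885,888,889,891,894,904,906,908,911,914,924,928,931,933,940,948,957,960,961,968,969,975,976,977,986,987,996,999,1000,1005,1007,1018,1029,1031,1033,1039,1048,1049,1051,1064,1074,1083,1084,1085,1086,1087,1091,1103,1107,1110,1115,1122,1124,1132,1138,1140,1144,1146,1148,1149,1150,1154,1163,1164,1171,1176,1177,1179,1187,1192,1194,1201,1204,1205,1212,1216,1222,1223,1233,1242,1257,1260,1265,1270,1273,1274,1278,1285,1295,1296,1297,1305,1306,1307,1308,1309,1313,1318,1319,1320,1322,1331,1334,1336,1342,1344,1345,1346,1358,1360,1371,1372,1377,1393,1399,1401,1409,1410,1414,1415,1416,1422,1424,1427,1431,1435,1439,1441,1443,1444,1451,1457,1460,1467,1471,1473,1485,1489,1491,1496,1498,1501,1503,1505,1506,1507,1511,1514,1515,1526,1527,1538,1540,1545,1549,1551,1558,1564,1570,1572,1573,1582,1589,1593,1600,1601,1615,1623,1624,1629,1633,1644,1647,1649,1656,1662,1670,1672,1676,1679,1680,1682,1687,1695,1696]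

/-- Points. -/
def levX1pts2 : List ℕ := [1701,1703,1706,1708,1722,1726,1729,1730,1739,1743,1745,1751,1758,1760,1762,1770]

/-- A level. -/
def levX1 : Level :=
  ⟨708, (.node (.node sub24 sub29) (.node sub34 sub39)), levX1pts0 ++ levX1pts1 ++ levX1pts2⟩

/-- A subtree. -/
def sub40 : WTree :=
  (.node (.node (.node (.node (.node (.node (.node .none (.word [3,2,5,1,0,1,5,3,0,4,3,2,6,1,0,2,1,3,4,2,3,2,0,1,6,1,0,1,2])) (.node .none (.word [0,5,1,2,3,6,5,1,2,5,3,2,1,5,6,1,5,6,4,3,2,1,5,6,1,5,3,2]))) (.node (.node .none (.word [0,2,3,2,5,1,2,5,3,2,0,4,6,1,2,3,5,1,2,1,0,1,6,4])) .none)) (.node (.node (.word [3,2,3,5,1,0,2,1,3,2,5,3,2,3,4,3,6,5,1,2,3,4,1,2,3,2,0,1,6,5,4,3,2]) (.node .none (.word [0,1,3,5,6,1,2,6,5,3,4,5,1,0,2,1,6,3,2,1,5,4,3,1,0]))) (.node (.node (.word [1,2,6,5,1,2,3,6,5,2,1,6,3,2,3,4,2,3,1,2,0,1,5,3,4,1,2,0])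 (.word [1,2,3,4,2,3,2,1,3,6,1,5,2,1,6,3,2,3,4,3,2,1])) .none))) (.node (.node (.node (.word [3,2,6,1,0,1,6,1,2,3,0,4,3,6,1,0,2,3,1,2,0,1,6,1,5,3,1,2,3,2]) (.word [0,1,2,4,5,1,5,3,2,0,1,2,3,0,1,5,4,2,1])) (.node .none (.word [0,4,3,5,1,2,3,2,1,5,4,1,2,3,6,4,2,3,2,1,6,5,2,1,6,5,3]))) (.node (.node .none (.node .none (.word [1,0,1,2,3,6,1,2,0,1,5,1,4,3,0,1,6,2,3,1,0,1,2,3,1,2]))) (.node (.node .none (.word [0,2,1,0,3,2,5,1,5,2,3,4,3,2,0,1,6,0,1,2,3,2,0])) .none)))) (.node (.node (.node (.node (.word [1,0,1,3,6,1,0,1,2,3,4,3,5,6,1,2,3,2,1,5,6,1,5,6,2,1,5]) (.node .none (.word [0,2,4,3,6,1,0,6,2,3,4,3,2,6,1,2,5,1,0,1,2,0,1,6,3,2]))) (.node (.node (.word [5,1,0,1,2,3,5,4,1,0,1,2,6,1,5,1,2,3,2,1,6,4,3,0,1,2,3,1,0]) (.word [0,2,1,0,1,2,4,3,2,3,6,5,1,6,5,3,2,4,3,2,1,0,1,6,1,2,1,0])) .none)) (.node (.node (.node .none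 (.word [0,4,3,2,1,6,5,4,1,0,1,6,1,0,1,2,3,6,2,1,5,6,1,5,4,3,2,3,4,0])) .none) (.node (.node (.word [3,2,1,5,6,1,2,6,5,3,1,0,2,1,5,6,2,1,0,1,6,4,3,2,3]) (.word [0,1,0,2,3,5,1,2,1,5,3,4,0,4,6,1,2,3,2,1,6,4,1,2,3,2,1,6,3,0,1,0])) .none))) (.node (.node (.node (.node (.word [1,0,4,5,1,0,1,2,3,4,6,1,0,2,3,2,1,5,2,1,6,4,3,2,3,2,1]) (.word [3,4,3,2,3,2,1,0,1,2,3,0,1,0,6,1,0,1,2,3,6,4,2,3,2,1,5,3,2,3,4,1])) (.node (.word [3,2,1,0,4,3,2,1,2,3,4,2,3,0,1,2,3,0]) (.word [2,1,0,1,2,3,1,5,2,0,4,5,6,1,0,2,1,2,3,2,1,5,0,1,6,2,1]))) (.node (.node .none (.word [0,5,1,2,6,1,5,1,0,1,2,3,2,6,1,3,2,3,4,2,3,2,1,6,2,3,0])) .none)) (.node (.word [0,2,1,3,2,1,3,2,3,1,2,4,3,2,3,6,1,5,2,3,1,2,0,1,5,6,1]) (.node (.node (.word [1,0,1,2,5,6,1,0,1,6,1,2,3,4,2,3,2,1,5,0,1,6,3]) (.word [1,0,1,2,5,4,3,6,5,1,2,3,0,1,4,3,2,1,6,4,0,1,0,1])) (.word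 [0,1,2,4,5,1,5,3,2,6,5,1,2,3,6,0,1,2,0,1,5,6,1,5,6,4,2])))))) (.node (.node (.node (.node (.node (.node (.word [0,3,5,1,0,2,6,1,5,3,0,2,4,5,1,2,3,2,1,0,1,6,4,3,2,1,5,0]) (.word [0,1,0,4,3,2,1,5,0,1,3,4,3,6,2,3,0,1,2,3,4,0])) (.node (.word [3,5,1,0,1,2,5,3,5,1,0,2,1,6,1,0,1,5,4,3,2,3,4]) (.word [1,0,2,3,2,5,1,0,6,1,2,3,4,5,2,3,2,1,6,2,1,5,2,1]))) (.node .none (.word [3,5,1,6,1,5,1,6,2,3,0,2,1,5,2,1,6,4,3,2,1,5,6,1,5,3]))) (.node (.node (.node .none (.word [1,2,3,4,2,3,2,4,6,1,2,3,2,1,4,3,2,1,5,1,6,1,0,1,2,0])) (.word [2,1,5,1,2,3,2,3,4,3,4,5,1,6,1,2,1,6,3,4,2,3,2,1,5,2])) (.node .none (.word [4,5,1,0,2,3,6,1,2,6,5,4,3,6,1,2,3,5,1,2,1,6,3,0,1,2,3,4,2,1])))) (.node (.node (.node (.node .none (.word [3,5,1,0,1,0,5,1,2,3,1,4,3,2,1,5,3,1,2,3,1,2,3,1])) (.word [0,2,1,0,1,2,4,3,2,3,1,2,6,5,1,6,5,2,1,6,5,3,4,3,1,2,1]))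 .none) (.node (.node (.node .none (.word [1,3,6,1,5,1,2,1,6,3,2,1,0,3,2,4,5,1,3,2,1,5,3,4,2,3,0,1,2])) .none) .none))) (.node (.node (.node (.node (.node .none (.word [1,0,4,6,1,0,2,1,0,6,3,2,1,6,4,3,0,1,0,2,1,3,5,0,1,2,3,4,3,1,2,3,1,0])) (.node (.word [1,0,2,1,4,3,2,3,4,3,1,0,3,5,1,6,2,3,2,1,0,1,5,2,3,4,3]) (.word [0,2,1,5,1,2,0,1,3,2,5,3,1,0,1,2,1,5,4,3,1,2,3,1,2,3]))) (.word [3,2,5,1,0,2,1,5,3,1,0,2,1,4,3,2,5,3,0,1,0,1,2])) (.node (.node (.node (.word [3,5,6,1,2,1,6,1,5,3,1,4,3,2,3,6,1,5,4,2,3,1,2,1,0,1,6,3,4]) (.word [0,1,2,3,2,5,1,5,6,2,3,1,2,0,1,5])) .none) (.node .none (.word [0,1,5,1,2,6,1,5,3,4,3,2,3,2,1,6,0,1,5,2,3,0,1])))) (.node (.node (.node (.node .none (.word [0,5,1,0,1,5,1,4,2,3,2,1,4,3,5,1,6,0,1,2,0,1,5])) (.node .none (.word [1,0,1,3,4,3,5,2,3,2,1,4,6,1,5,1,2,3,1,2,0,1,5,6,1,0]))) (.node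 (.node (.word [1,2,1,3,4,3,2,3,5,4,1,2,3,2,4,3,2,6,1,0,1,5,2,0,1,6,4,3,2,3]) (.word [0,1,2,3,2,4,3,2,3,1,5,1,0,1,2,5,3,2,1,6,0,1,5,4,0])) (.word [5,6,1,0,1,2,1,5,1,6,2,3,4,5,1,2,3,2,6,1,5,1,6,4,1,2,0,1,0]))) (.node (.node (.node (.word [4,3,2,3,4,5,2,3,1,2,0,1,5,3,2]) (.word [0,1,2,1,3,0,1,2,1,0,1,0,1,3,4,6,2,3,1,2,3,1,0,1,0])) (.node (.word [1,2,3,2,1,5,3,4,2,3,6,0,1,6,5,2,3,1,2,0,1,6]) (.word [0,1,2,3,2,4,1,0,6,1,0,2,1,6,5,3,2,3,1,2,0,1,6,4,3,2,1]))) (.node .none (.word [0,5,1,6,5,1,2,3,2,1,5,3,2,0,3,4,6,1,0,2,1,6,2,3,2,1,0,1,6,3])))))))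

/-- A subtree. -/
def sub41 : WTree :=
  (.node (.node (.node (.node (.node (.node (.word [0,2,1,4,3,2,3,6,1,2,3,0,4,6,1,0,1,2,5,3,0,1,2,1,0,1,5,1,6,1]) (.node .none (.word [1,5,1,0,2,3,4,1,0,1,0,2,3,6,1,2,3,4,1,2,3,1,2,0,1,6]))) (.node (.node .none (.word [0,2,6,1,5,6,1,2,4,3,2,3,4,6,1,5,2,3,2,1,6,3,2,0,1,5,3])) .none)) (.node (.node (.node .none (.word [2,1,6,5,1,6,2,0,4,3,5,1,0,2,1,5,6,1,2,0,1,5,3,4])) (.word [3,4,5,1,0,1,2,3,0,1,6,4,2,3,2,1,5,4,0])) .none)) (.node (.node (.node (.node (.word [5,1,2,3,2,6,5,1,6,5,2,3,1,2,4,3,2,6,1,2,3,4,2,3,2,1,0,1,6,2,0,1]) (.word [0,1,2,1,3,0,1,2,0,3,6,1,2,0,1,0,1,5,1,6,3])) (.node (.word [1,0,1,3,6,1,2,3,0,4,2,3,2,1,0,3,5,1,2,1,6,0,1,5,3,0]) (.word [1,0,1,2,1,4,3,5,1,2,3,1,4,6,2,3,2,1,6,2,3,0,1,0,1]))) (.node (.node (.word [0,1,2,4,3,5,6,2,1,5,6,1,3,2,4,1,5,0,1,2,3,2,1,5,4])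 (.word [0,1,2,4,3,2,1,0,2,4,3,2,1,5,1,6,3,2,1,5,3,2,3,4,2])) .none)) (.node (.node .none (.node (.word [1,0,1,0,4,6,1,2,3,4,0,2,3,5,1,0,6,1,6,2,3,0,1,2,1,0,1,5,4,2]) (.word [0,1,2,1,3,0,1,2,0,1,3,2,5,0,1,6,4,3,2,1,0,1,5,3,1]))) (.node (.node .none (.word [1,0,1,0,3,2,1,3,6,5,1,2,3,4,3,1,2,1,0,1])) .none)))) (.node (.node (.node (.node (.word [0,1,2,5,6,1,0,2,1,5,6,4,3,5,1,2,1,0,1,5,1,2,3,4,1,2]) (.node .none (.word [2,1,3,2,1,3,2,3,4,5,1,0,2,1,6,1,2,3,2,1,0,1,0]))) .none) (.node (.node (.word [1,0,4,3,2,5,1,3,2,3,4,3,2,6,1,5,6,2,1,0,1,6,3,4,1]) (.node .none (.word [1,0,2,3,4,5,3,5,6,1,0,1,5,2,1,6,3,2,1,5,4,2,3,2,1]))) (.node (.node .none (.word [3,4,3,2,1,5,0,3,4,2,3,2,1,5,6,1,2,3,0,1,0])) (.word [0,2,1,5,6,1,2,3,5,1,2,0,5,1,6,3,4,2,3,2,1,0,1,6,2,3])))) (.node (.node (.node (.node (.word [4,3,5,1,2,3,1,5,2,0,3,4,5,1,6,0,1,2,3,4,2,3,2,1,5,2])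 (.word [1,0,1,3,6,1,2,3,0,2,1,0,5,4,3,1,2,3,2,1,6,1,0,1])) (.node .none (.word [1,0,2,1,4,3,2,3,4,3,1,0,1,0,6,1,0,1,2,3,2,1,6,4,3,0,1,2,3,4,2,1]))) (.word [0,1,4,3,2,5,1,0,1,5,0,4,3,2,1,3,2,5,6,4,3,2,1,0,1])) (.node (.node .none (.node .none (.word [1,2,1,0,1,4,2,3,2,1,3,4,3,2,3,4,2,1,5,2,1,6,3,2,3,1,0,1]))) (.node (.node (.word [1,0,2,3,4,6,1,2,5,1,6,3,2,4,6,1,2,3,2,1,5,4,3,2,1,6,5,4,2]) (.word [1,0,1,5,6,1,2,3,2,4,3,2,3,4,6,1,0,1,2,3,2,1,6,2,3,4,3,2])) .none))))) (.node (.node (.node (.node (.node .none (.node (.word [0,1,4,3,2,1,6,1,3,2,4,3,2,1,0,1,5,3,4,3,0,1,2,0,1]) (.word [1,2,3,2,4,3,2,1,3,2,4,3,2,6,1,6,5,3,1,0,1,2,3,1,0]))) .none) (.node (.node .none (.word [0,5,1,0,2,1,3,2,5,3,6,1,2,3,2,4,3,1,5,1,2,0,1,6,2,3,4,2,3])) (.node (.node (.word [0,5,1,0,2,1,3,2,5,3,2,4,5,1,0,1,3,2,1,0,1,5,3,2]) (.word [2,1,0,6,1,0,2,1,5,6,3,2,3,1,2,3,0,1]))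 (.word [1,2,6,5,1,2,3,6,5,2,1,6,4,0,2,1,3,2,6,1,0,1,6,3,2,3,1,2])))) (.node (.node (.word [1,2,1,3,5,6,2,1,6,2,0,3,4,5,1,0,5,1,2,3,1,2,3,1,0,1,0]) (.node (.node (.word [3,2,3,2,1,0,1,2,4,3,2,3,2,3,4,3,2,6,1,5,2,3,2,1,6,2,3,4,2,3,2]) (.word [3,6,5,1,2,6,1,5,3,6,1,2,3,2,4,1,5,1,6,1,0,1,2,3,2,3,1])) (.word [0,2,4,3,5,1,2,1,5,3,2,1,4,3,2,6,1,5,6,2,1,5,2,3,2,1,6,0]))) (.node (.node (.node (.word [0,4,3,2,1,5,1,2,3,4,0,2,1,3,2,1,0,1,6,1,5,3,1,2,3,1,2]) (.word [0,1,2,5,1,2,3,2,1,5,3,0,2,4,3,1,5,6,1,2,3,4,0,1,2])) (.node .none (.word [1,2,1,0,1,4,2,3,2,1,3,5,6,1,2,1,5,6,3,2,3,4,1,0]))) (.node (.word [0,5,1,2,3,2,1,5,3,2,3,6,1,2,6,3,2,1,5,4,3,0,1,2,3,0]) (.word [4,3,2,1,0,1,2,3,4,2,5,1,6,1,3,2,1,0,1,6,0,1,2,3]))))) (.node (.node (.node (.node (.node (.word [0,5,1,2,3,6,5,1,2,5,3,1,2,5,1,2,6,0,1,6,3,2,3,4,3,2,3]) (.word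 [0,1,4,3,5,1,2,6,1,5,3,4,0,2,3,5,6,1,2,1,0,1,6,3,2,1,5,1,6,3,2])) (.node (.word [3,2,3,5,1,2,6,1,5,1,4,3,2,3,6,1,5,6,4,1,2,3,1,2,3,4,1,2]) (.word [1,2,3,4,2,3,2,1,0,1,0,2,3,6,1,5,2,3,2,1,0,1,6,1,5,4]))) (.node .none (.word [1,3,2,1,0,5,1,0,1,5,3,1,2,1,6,1,2,3,4,1,2,3,2,1,5,6,2,1,5,3,2]))) (.node (.node (.node (.word [1,3,5,4,0,1,2,3,2,1,5,3,4,3,2,6,1,2,3,4,2,3,2,1,0,1,6,2,0,1]) (.word [1,2,3,4,2,3,2,4,5,1,0,1,6,2,0,1,0,1])) (.word [1,0,1,2,1,4,3,5,1,2,3,2,1,5,6,1,2,3,2,0,1,6,5,4,3,2,1])) (.node (.node (.word [0,1,4,3,5,1,2,6,1,5,3,4,3,5,2,1,5,3,2,3,4,3,0,1,2,3]) (.word [0,1,2,3,2,4,1,0,2,1,5,6,1,2,5,3,1,2,1,0,1,5,6,4,2,1])) (.word [5,1,2,3,2,6,5,1,6,5,2,3,1,2,0,1])))) (.node (.node (.node (.word [5,6,1,2,3,4,2,3,2,1,6,5,1,3,2,4,3,6,1,2,3,4,3,2,3,2,1,6,4,2,3,1]) (.word [3,2,5,1,0,1,2,5,3,0,4,6,1,2,3,5,2,1,6,4,3,2,0,1,0,1,2]))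 (.node (.node .none (.word [5,1,0,1,2,1,0,6,1,5,3,4,0,5,1,2,3,2,4,3,2,1,0,1,5,2,3,4,0])) .none)) (.node (.word [3,6,1,2,5,1,0,6,1,2,3,6,5,1,0,2,1,5,2,1,6,4,3,1,2,3,1]) (.node (.node (.word [1,3,5,1,2,3,0,5,1,0,2,1,6,3,4,2,3,2,1,5,0]) (.word [1,4,5,1,0,2,1,3,2,4,3,0,6,1,0,2,1,5,2,3,1,2,1,0,1,6,4,2])) (.word [1,4,3,5,6,1,2,5,1,6,3,2,1,5,6,4,1,0])))))))

/-- A subtree. -/
def sub42 : WTree :=
  (.node (.node (.node (.node (.node (.node (.node (.word [2,1,0,1,2,5,1,0,3,1,2,3,4,1,0,3,6,1,2,0,1,6,5,3,1,2,3,4,3]) (.word [0,1,3,5,6,1,2,6,5,3,1,0,1,0,6,2,1,6,4,3,2,1,5,1,6,3])) .none) (.node (.word [3,2,5,1,0,1,2,5,3,6,1,0,2,1,5,3,2,1,6,4,2,3,1,2,3,0]) (.word [3,2,3,2,1,4,0,3,6,1,2,0,1,5,3,2,3,0,1,2,0]))) (.node (.node (.node .none (.word [1,0,4,5,1,0,1,2,3,4,0,2,1,0,3,2,1,6,0,1,5,6,3,2,3,1,2])) (.node (.word [3,2,5,1,0,1,2,5,3,0,1,2,3,5,1,5,4,2,3,1,2,3])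 (.word [0,4,3,5,1,0,6,1,2,0,1,5,1,3,2,6,0,1,0,1,6,3,4,2,3,2,1,0]))) (.node (.node (.word [3,2,6,1,0,1,6,1,2,3,0,2,4,3,6,2,1,0,1,6,4,3,2,1,5,3,1]) (.word [0,3,2,1,6,1,2,5,1,6,3,1,4,2,3,2,1,2,3,6,2,1,5,6,1,2,3,2])) (.word [1,0,4,5,1,2,3,2,1,6,0,1,2,0,1,2,3,2,4,3,2,1,5,3,4,3,2,1])))) (.node (.node (.node (.node (.word [2,3,6,1,5,6,1,2,5,1,6,3,4,1,6,5,1,6,2,3,2,1,5,2,3,1]) (.word [3,2,1,4,3,2,1,6,4,1,0,1,6,1,0,1,2,3,4,1,2,3,2,0,1,5,6,1])) (.node .none (.word [3,2,6,5,1,6,5,1,6,2,3,1,2,4,3,2,1,5,1,6,2,1,0,1,5,3,4,2]))) (.node .none (.word [1,0,1,4,5,6,1,2,3,1,0,1,2,3,4,1,2,1,0,1,0]))) (.node (.node (.node (.word [2,1,0,5,1,2,3,6,0,1,2,0,1,3,4,2,3,2,1,6,5,1,6,5,2,3]) (.word [2,1,3,2,1,3,2,3,4,3,2,6,1,0,1,5,2,1,6,5,3,1,2])) (.node .none (.word [1,0,1,3,6,1,2,3,0,1,2,3,4,6,2,1,6,3,2,3,4,0,1,2,3,2]))) (.node (.node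 (.word [0,1,5,1,2,3,6,1,2,5,3,0,4,6,1,2,3,5,1,2,0,1,5,0,1,6,3,2,1]) (.word [0,1,2,4,3,2,1,3,2,3,2,4,3,6,1,2,1,0,1,6,1,5,3,1,2])) (.word [1,2,3,4,6,1,2,5,1,6,3,2,0,1,2,1,0,5,1,6,2,3,4,3,0,1,2,1,0]))))) (.node (.node (.node (.node (.node (.word [1,2,1,3,5,6,2,1,6,2,0,4,3,2,1,3,4,2,3,4,1,2,3,0,1,2,3,2,1]) (.word [0,1,0,3,2,1,6,3,2,1,3,2,3,4,3,1,2,3,1,2,0,1,0])) (.word [2,3,2,1,5,1,2,3,4,2,1,0,1,0,3,2,1,5,1,6,2,3,2,1,0,1,5,4,1])) (.node (.node .none (.word [1,2,3,2,1,6,0,1,6,5,2,3,1,2,0,1,6])) (.word [2,4,3,6,5,1,0,1,2,5,6,3,2,1,5,1,3,2,3,1,0,2,4,3,2,6,1,5,1,0,1,6,3,2]))) (.node (.node (.node (.word [0,1,2,4,3,2,3,4,6,5,1,2,3,2,1,5,6,3,2,3,4,2,1,0]) (.word [2,3,4,3,2,3,1,6,1,2,5,3,2,1,6,2,3,4,3,2])) (.word [3,2,4,3,2,1,6,0,1,0,1,2,1,4,5,1,0,3,1,2,3,2,1,5,4,3,2,3,1])) (.node (.word [1,2,3,4,2,3,2,1,3,4,3,5,6,1,2,3,5,4,1,2,3,2,1,0,1,6,2,1])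 (.word [0,1,5,6,1,5,6,2,1,4,3,2,5,3,4,1,5,1,0,2,3,1,2,3,2,1,5,4,2,3,2,3])))) (.node (.node (.node (.word [1,2,1,3,5,6,2,1,6,4,3,1,2,3,0,1,2,3,4,0,1,2,0]) (.node .none (.word [5,1,0,2,6,1,5,6,3,4,0,1,0,2,1,3,2,1,0,1,5,3,4,3,2,1]))) (.node (.node (.word [1,0,1,3,2,4,3,2,3,1,0,1,0,1,2,3,6,2,1,5,4,3,2,0,1,6,3]) (.word [1,0,3,2,5,1,6,5,1,2,3,0,1,4,3,2,3,6,1,6,2,3,1,2,3,1,0,1,2,3])) (.word [3,6,1,2,5,1,5,6,3,2,4,5,1,6,5,3,2,1,6,3,0,1,2,0,1,6,3]))) (.node (.node (.node (.word [4,3,5,1,2,3,0,1,2,3,0,1,2,0,1,5,3,4]) (.word [1,4,5,1,0,2,1,3,2,4,3,0,1,0,2,3,6,1,5,2,3,1,2,3,2,1,6,5,4,2])) (.node (.word [2,3,2,1,5,1,2,3,4,2,0,1,0,3,2,4,3,5,1,6,2,3,1,2,3,4,1,2,3]) (.word [0,2,3,6,1,5,6,1,2,3,2,4,6,1,0,1,5,0,1,2,3,2,1,5,1,6,4,1,2]))) (.node (.node .none (.word [1,0,2,3,4,5,3,2,1,0,4,3,5,1,6,2,0,1,0,1,5,3,2,3,4])) .none)))))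 (.node (.node (.node (.node (.node (.node (.word [3,6,1,5,1,2,1,6,3,0,1,2,5,1,2,6,1,5,4,2,3,2,1,0,1,6,3,2,3,0]) (.word [1,3,6,1,5,1,2,1,6,3,1,4,3,2,1,3,4,2,3,1,2,3,4,3,1,2,3,1])) (.node (.word [3,2,1,3,2,4,3,2,1,0,4,5,1,0,1,2,3,2,1,5,4,3]) (.word [1,2,1,3,5,6,2,1,6,2,0,4,3,5,1,2,1,0,1,5,4,2,1,0]))) (.node (.node .none (.word [3,6,5,1,2,6,0,6,1,2,4,3,2,1,6,1,0,1,5,3])) (.word [0,1,2,3,5,6,2,1,5,6,4,0,2,3,4,3,2,3,1,5,6,1,2,0,1,6,3,4,3,2]))) (.node (.node (.node (.word [1,0,2,1,4,3,2,3,4,3,1,2,6,1,4,2,3,2,1,0,1,6,4]) (.word [2,1,3,2,5,1,2,3,0,1,4,3,2,6,1,5,1,6,1,2,3,4,1,2])) (.word [3,5,6,1,2,1,6,0,6,1,3,2,3,2,1,5,6,4,3,2,3,4])) (.node (.node (.word [1,2,3,2,1,5,3,4,2,3,1,2,3,2,1]) (.word [0,3,5,1,0,6,1,2,1,5,4,3,2,3,4,6,1,2,3,2,1,6,2,1,0,1,2,3,0,1])) (.word [3,2,3,0,5,1,0,6,1,2,3,4,2,3,2,1,6,0,1,5])))) (.node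 (.node (.node (.node (.word [0,4,3,2,3,5,1,2,0,1,5,2,0,3,4,5,2,3,2,1,0,1,6,2,1,5,0]) (.word [3,2,1,3,2,4,3,2,1,3,4,3,2,3,5,6,1,0,1,2,0,1,5,6,3])) (.node (.word [1,0,2,1,4,3,2,3,4,3,1,2,5,1,0,6,1,2,3,2,1,6,5,3,4,2,3]) (.word [3,2,1,3,2,4,3,2,1,0,3,5,1,0,1,6,2,0,1,5,6,3]))) (.word [0,3,5,1,2,1,5,3,1,0,5,1,2,3,2,4,3,2,1,5,0,1,6,2,1,0,1])) (.node .none (.node .none (.word [1,2,1,3,0,1,2,1,2,4,3,5,1,6,2,0,1,5,3,4,2,3,2,1,6,2]))))) (.node (.node (.node (.node .none (.node (.word [1,2,1,3,4,5,1,0,3,1,2,3,4,2,1,0,5,1,5,3,2,1,6,1,5,1,6,3,4]) (.word [3,2,3,2,3,4,3,2,6,1,2,3,2,1,0,1,6,4,3,2,0]))) (.node (.node .none (.word [1,3,6,1,5,1,2,1,6,3,0,1,4,2,3,2,1,4,3,2,1,6,5,4,1,0,1])) (.word [1,6,1,2,3,2,4,3,2,0,1,5,6,2,1,5,4,2,0,1]))) (.node (.node (.word [0,3,5,1,2,6,1,5,3,0,4,3,2,1,3,4,6,2,3,2,1,0,1,6,0]) (.node .none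 (.word [0,4,3,6,1,0,2,1,5,1,6,3,2,1,0,1,6,4,2]))) (.word [2,1,5,1,2,3,2,3,4,1,0,2,6,1,2,3,2,1,6,0,1,5,2,3,4,1]))) (.node (.node (.node (.word [0,1,0,2,1,3,2,3,2,4,1,0,1,6,1,2,3,4,1,5,6,2,3,1,0,1,2,3,2]) (.node (.word [0,5,1,2,6,1,5,1,4,3,2,3,4,2,1,0,1,5,1,2]) (.word [3,2,3,2,6,1,5,6,1,2,1,2,3,2,1,5,4,0,1,2,3,1,2,3,4]))) (.node (.node (.word [3,2,5,1,2,3,2,1,5,1,4,3,2,1,3,2,5,6,1,5,4,3,0,1,2,3,4]) (.word [0,5,1,0,1,5,0,2,1,0,3,2,4,3,6,1,0,1,6,2,3,4,1,2,3,1,2])) (.word [0,2,4,3,5,1,2,1,5,4,3,2,5,1,6,0,1,5,3,2,3,4,3,2]))) (.node (.node (.node (.word [3,2,3,0,4,3,5,1,0,2,1,6,2,3,1,0,1,2,3,2,1,5]) (.word [3,2,4,3,2,1,6,0,1,0,1,4,3,5,1,2,1,6,3,2,0,1,5,6])) .none) (.word [5,6,1,2,3,4,2,3,2,1,6,5,0,6,1,2,3,4,1,0,1,2,3,2,1,6,1,2,0,1]))))))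

/-- A subtree. -/
def sub43 : WTree :=
  (.node (.node (.node (.node (.node (.node (.node .none (.word [0,3,6,1,2,3,5,1,6,2,4,5,1,6,1,2,5,1,2,3,0,1,2,0,1,5,6,2,1])) (.node .none (.word [0,5,1,2,6,1,5,1,0,4,3,2,1,3,4,6,5,2,3,2,3,1,2,0,1,6,3,0]))) (.node (.node (.word [3,5,6,1,0,5,1,6,2,3,1,2,4,3,6,1,6,2,3,1,0,1,2]) (.word [0,1,4,3,2,1,6,1,2,5,1,2,6,5,3,2,1,0,1,6,3,2,3,4,2])) (.word [0,1,2,1,6,1,0,1,2,3,4,2,3,0,2,1,3,5,0,1,5,6,4,3,1,2,1,0]))) (.node (.word [0,3,5,1,0,1,2,5,3,4,3,5,1,2,1,0,1,6,3,2,1,5,6]) (.node (.node .none (.word [0,3,5,1,2,3,2,1,5,6,5,1,2,3,4,0,1,2,3,2,1,5,6,2,3])) .none))) (.node (.node (.node (.node .none (.word [2,3,2,1,6,5,1,2,6,4,3,2,3,6,1,5,1,2,3,2,1,5,6,4,3,1,2])) (.node .none (.word [0,1,0,1,2,1,4,5,3,1,2,3,4,1,2,1,3,2,1,0,1,6,1,5,2,3,1,2]))) (.node (.node (.word [3,4,3,5,1,0,6,1,2,3,2,1,6,1,5,2,3,4,2,3])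 (.word [0,1,0,2,3,5,1,2,1,5,3,4,2,6,1,0,1,2,3,1,2,0,1,5,1,6,1])) .none)) (.node (.node (.node (.word [3,2,1,3,2,4,3,2,6,1,2,5,1,3,2,1,0,1,6,2]) (.word [2,3,2,1,5,1,2,3,4,2,1,0,2,3,2,1,0,1,6,1,2,3,4,0])) (.node (.word [2,5,1,0,6,1,2,5,6,4,3,2,6,1,0,1,2,4,3,2,1,6,5,1,0,1,0]) (.word [0,1,5,6,1,5,6,0,1,2,3,6,1,2,6,3,4,2,3,1,2,3,0,1]))) (.node (.node (.word [4,5,1,0,2,3,6,1,2,6,5,4,3,0,2,1,0,1,2,3,2,1,6,4,0,1,0,1]) (.word [3,2,5,1,2,3,2,6,1,5,0,1,6,5,1,2,3,4,2,3,0,1,2,1,0,1,6])) .none)))) (.node (.node (.node (.node (.node .none (.word [0,5,1,0,2,1,5,0,6,1,2,3,4,5,0,1,2,3,2,1,6,3,0])) (.node .none (.word [1,0,2,1,5,6,3,2,1,5,6,2,3,2,1,5]))) (.node (.node (.word [3,2,5,1,0,6,1,2,1,5,3,4,3,5,1,0,2,1,6,2,3,1,2,0,1,5,3,4]) (.word [0,2,3,2,5,1,2,5,3,2,0,1,0,4,3,6,1,2,5,6,1,5,3,4,3,2,0,1,0])) (.word [1,0,2,1,4,3,2,3,4,3,1,6,5,1,6,2,3,2,1,5,2,3,2,0])))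 (.node (.node (.node (.word [1,2,6,5,1,2,3,6,5,2,1,6,3,2,3,4,3,1,0,1,2,3,2,1,5,4,1]) (.word [1,2,3,4,2,3,2,3,2,5,1,6,5,1,6,2,1,5,3,0,2,4,3,2,1,5,1,2,3,2])) .none) (.node (.node (.word [1,0,1,0,4,6,1,2,3,4,0,1,2,3,6,1,2,4,3,2,1,5,1,6,2,1,5]) (.word [0,4,3,2,6,1,5,6,1,2,3,4,1,0,2,1,3,2,0,1,6,4,3,2,1,5,1,6,4])) .none))) (.node (.node (.node (.word [3,2,3,2,1,5,1,2,0,4,3,5,1,2,3,1,2,0,1,6,2,0,1,5,0]) (.word [0,3,5,1,2,6,1,5,3,2,4,3,5,2,1,0,1,5,2,3,2,0])) (.node (.word [4,6,5,1,2,6,1,5,3,2,4,5,1,0,1,2,3,2,1,6,0,1,5,0]) (.word [5,6,1,2,3,4,2,3,2,1,6,5,0,3,4,3,2,3,6,2,1,6,5,3,1,2,3,4,3,2,1]))) (.node (.node .none (.node (.word [0,2,1,4,5,0,1,2,0,1,3,2,4,3,2,1,6,5,4,3,2,1,6,2,3,4,0]) (.word [3,2,3,5,1,2,6,1,5,1,2,3,4,6,1,2,3,2,1,5,1,6,3,4,2,3,1,2]))) (.node (.word [0,1,0,1,0,2,3,1,5,4,2,1,2,1,3,2,4,3,5,6,1,2,0,1,5,6,3,4,2,3,1,2])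 (.word [2,4,3,5,1,2,1,6,0,1,5,2,3,4,2])))))) (.node (.node (.node (.node (.node (.node (.word [0,4,3,5,1,0,2,1,5,3,4,2,3,5,6,1,0,1,6,2,1,5,3,2]) (.word [1,0,1,4,5,6,1,2,3,4,6,1,2,3,1,2,0,1,6,2,0])) (.word [1,5,1,0,2,3,4,1,0,3,4,5,6,1,5,2,0,1,0,1,6,3,2,1,5,4,1])) (.word [1,2,1,0,4,3,1,5,2,0,1,4,3,2,5,6,1,2,0,1,5,3,2,1,6,4,2])) (.node (.node (.node (.word [1,2,3,5,1,2,3,4,0,1,2,0,1,0,2,1,3,5,6,1,0,2,1,6,1,2,3,4,2]) (.word [4,3,6,1,5,1,0,2,1,6,3,2,1,4,5,6,1,5,6,2,3,2,1,5,4,2])) (.node .none (.word [1,0,1,0,4,6,1,2,3,4,0,1,2,3,5,1,2,0,1,6,3,2,1,5,1,6,4]))) (.node (.node (.word [2,1,3,2,1,3,2,3,1,2,0,3,4,3,6,1,0,2,1,5,6,1,5,6,3,2,1,5,6,4,1]) (.word [1,3,2,6,5,1,0,6,1,2,3,0,1,2,3,2,4,1,0,1,2,3,1,2,3,1])) .none))) (.node (.node (.node .none (.node (.word [2,3,6,1,0,1,5,1,6,2,3,4,1,5,1,6,3,2,1,5,6,3,4,1,2]) (.word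 [2,1,5,6,1,2,3,1,6,5,2,1,6,1,2,4,3,6,2,1,0,1,6,4,3,1,2,3]))) (.node .none (.word [0,1,4,5,1,0,2,3,2,1,2,6,1,0,2,1,5,1,2,3,2,1,6,5,4,1]))) (.node (.node (.node (.word [3,2,6,1,0,2,1,5,6,1,2,3,0,1,2,1,3,4,5,6,1,0,2,1,6,3,2,3,4,2,3,2]) (.word [6,1,0,1,2,3,2,1,3,6,5,4,3,2,3,2,6,5,1,2,3,2,1,0,1,6])) (.node (.word [1,2,3,4,2,3,2,1,4,3,2,1,3,4,6,2,1,0,1,2,3,2,1,6,2,3,0]) (.word [0,1,5,1,2,6,1,5,2,1,3,2,4,3,6,1,4,2,3,2,1,5,4,2,3,0,1,2]))) .none))) (.node (.node (.node (.node (.word [2,1,0,1,3,5,2,3,1,0,4,5,1,6,1,2,1,5,3,2,1,0,1,6,5,3,2,3]) (.node (.word [2,3,2,6,1,2,3,2,1,6,3,2,1,2,3,5,1,4,2,3,2,1,5,1,0,1,2,1]) (.word [4,6,1,2,3,2,4,5,1,2,0,1,5,1,2,1,0,1,6,5,3,4,3,2,1,0]))) (.node (.word [1,3,2,1,0,1,0,3,2,6,4,1,0,3,2,5,3,1,0,1,2,3,4,2,3,1,2,3]) (.word [0,3,5,1,2,6,1,5,3,0,6,1,0,1,2,3,6,4,1,2,3,2,1,6,3,1,0,1,2])))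 (.node (.node (.word [0,1,2,4,3,5,6,2,1,5,6,2,1,5,1,0,3,2,3,4,1,2,3,0,1,2,1]) (.node (.word [3,5,1,0,1,2,5,3,0,1,0,2,4,6,1,0,2,3,1,2,3,2,1,6,4,2,1]) (.word [2,4,6,1,0,1,2,6,1,5,3,1,2,0,1,6,3,4,0]))) (.node (.node (.word [0,6,1,0,2,1,0,3,5,1,6,4,2,1,0,6,1,2,3,4,1,5,6,2,1,0,1,2]) (.word [1,0,1,2,6,1,2,3,4,0,1,2,1,5,1,3,2,3,4,2,3,2,3,1,2,3,4])) (.word [3,2,1,0,6,1,2,1,5,6,3,2,5,1,6,1,2,3,4,2,3,1,2,1,0,1,6,0,1,0])))) (.node (.node (.node (.word [0,2,4,3,6,1,0,6,2,3,4,3,2,5,1,6,3,2,1,5,3,1,0,1,2]) (.node (.word [2,4,3,2,1,0,1,2,3,4,1,2,0,1,0,3,2,4,3,1,6,0,1,2,0,1,5,4,2,1]) (.word [1,0,1,4,6,1,2,3,2,5,1,5,3,5,6,1,2,3,5,4,3,2,1,6,3,4,2,3,1]))) (.node (.node .none (.word [1,2,1,3,4,5,1,0,3,1,2,3,4,1,2,3,6,2,1,5,6,1,5,2,1,6,3,4,2])) .none)) (.node (.node (.node .none (.word [2,1,0,4,5,1,2,3,6,1,2,0,5,1,6,4,3,2,1,5,0,1,6,2]))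 .none) (.node (.node (.word [0,2,1,5,1,2,3,4,3,2,3,1,5,2,1,6,5,2,3,1,0,1]) (.word [1,0,1,2,1,3,4,2,3,2,1,0,1,2,4,6,1,2,3,6,4,2,3,2,1,0,1,2])) (.word [0,1,2,3,5,6,2,1,5,1,0,2,3,4,1,0,1,2,3,2,1,6,2,1,5,1])))))))

/-- A subtree. -/
def sub44 : WTree :=
  (.node (.node sub40 sub41) (.node sub42 sub43))

/-- A subtree. -/
def sub45 : WTree :=
  (.node (.node (.node (.node (.node (.node (.node (.word [5,1,2,3,2,6,5,1,6,5,2,3,1,2,0,1,0,1,2,3,2,4,1,0,3,2,3,4,1,2,3,2,1,0]) (.word [5,6,1,0,2,1,6,5,2,1,0,1,6,4,1,2,3,5,1,4,2,3,0,1,2,0,1,0])) (.word [0,1,0,2,1,6,5,1,6,2,1,4,3,2,3,6,1,6,2,3,4,1,2,3,2,1,5,2,1])) (.node (.node .none (.word [1,3,5,2,3,1,0,2,4,3,1,2,0,1,5,3,1,2,3,1,2,0])) (.word [2,1,0,1,2,3,1,5,2,1,2,3,2,6,5,4,3,1,2,3,4,3,2,3]))) (.node (.node (.word [0,1,2,4,3,2,1,4,3,6,1,2,3,1,5,2,0,1,6,4,2,1,0]) (.node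 .none (.word [2,1,5,1,2,3,2,3,4,0,3,6,1,2,3,2,1,5,0,1,2,0,1,6,4,2]))) (.node .none (.word [1,3,5,2,3,1,0,1,3,2,6,1,3,4,2,3,2,1,6,5,4,1])))) (.node (.node (.node (.node (.word [2,3,2,1,6,5,1,2,6,3,4,3,1,5,6,2,3,1,0,1,2,3,1,2]) (.word [2,1,4,3,2,5,1,6,5,3,2,1,6,5,4,1,0])) (.node .none (.word [1,2,3,2,1,4,0,1,2,1,2,5,1,6,1,2,3,2,1,0,1,5,1,6,4,2]))) (.word [1,4,3,2,1,3,5,1,0,1,2,0,1,4,3,2,6,1,2,3,2,0,1,5,1,2,3,2,1,6,0,1])) (.node (.node (.word [3,2,1,0,6,1,2,1,5,6,3,0,2,1,4,3,2,3,4,3,1,0,1,0]) (.word [1,2,3,2,1,4,0,1,2,1,0,3,4,5,1,2,3,2,1,5,2,1,6,4,1,0,1])) (.node (.node (.word [0,1,2,3,2,4,1,0,3,5,1,2,3,4,1,2,3,1,2,0,1,5]) (.word [0,3,6,1,2,3,5,1,6,4,3,5,1,0,2,1,6,2,3,2,1,5,1,6,4,3])) .none)))) (.node (.node (.node (.node (.node .none (.word [1,2,1,0,4,3,1,5,2,0,6,5,1,2,3,0,1,5,2,1,6,3,2,3,4,0])) .none) (.node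 (.node (.word [0,1,2,3,4,6,1,5,6,1,2,0,1,0,1,2,3,2,6,1,0,6,3,1,2,0,1,5,6,4,3,2,1]) (.word [0,3,5,1,0,1,2,5,3,2,1,3,4,3,2,3,2,1,5,4,2,3,0,1,2,0])) .none)) (.node (.node (.node (.word [1,0,1,3,5,1,0,2,1,6,2,3,1,2,1,0,1,6,1,5,4,3,1,2,3,2,1,6]) (.word [0,6,1,0,2,1,0,3,5,1,6,4,2,3,2,6,1,5,3,1,2,0,1,5,6,3,4])) (.word [0,1,2,1,3,0,1,2,1,0,2,1,0,3,2,4,3,6,1,5,2,1,6,3,4,2,3,0,1,2])) (.word [0,2,1,3,2,1,3,2,3,1,2,1,4,3,6,2,1,5,6,3,2,3,1]))) (.node (.node (.node .none (.node (.word [0,1,2,6,1,2,3,2,6,3,1,2,3,4,1,0,1,3,4,6,1,2,3,2,1,5,4,1]) (.word [1,2,1,3,5,6,2,1,6,4,3,2,1,5,3,4,0,1,2,3,1,2,1]))) (.node (.node .none (.word [1,0,1,3,2,3,2,4,3,1,0,1,2,3,5,1,6,2,3,2,1,6,5,4,1,0])) .none)) (.node (.node (.node .none (.word [0,1,2,4,3,2,1,3,2,3,0,1,4,5,2,3,2,1,6,2,0,1,5,0])) (.word [0,2,5,1,2,3,2,5,3,1,4,3,6,1,2,3,4,3,1,2,3,1,2,0,1,6,5,1,2]))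 (.word [2,6,1,2,3,2,0,1,6,2,0,1,2,1,0,1,5,1,6,4,3,2,1,5,6,4]))))) (.node (.node (.node (.node (.node (.node (.word [4,3,6,5,1,0,6,2,1,5,3,4,5,2,1,6,3,0,1,2,0,1,5,4]) (.word [0,5,1,2,6,1,5,0,1,3,2,3,2,1,5,0,1,6,4,3,2,1,5,0])) (.node (.word [1,2,1,3,4,3,2,3,5,4,1,2,0,4,6,1,0,1,2,3,2,1,6,5,4,1]) (.word [3,2,6,5,1,6,5,1,6,2,3,4,6,1,0,2,1,2,3,2,1,0,1,6,4,2,3,2,1]))) (.node (.node (.word [4,3,2,1,6,5,1,6,2,3,4,1,0,1,3,2,3,2,1,5,0,1,2,0,1,5,4,2,3]) (.word [0,5,1,2,6,1,5,1,2,1,3,2,4,3,6,1,2,1,0,1,5,2,3,4,2,3,1,2])) .none)) (.node (.node (.node .none (.word [0,2,3,6,1,5,6,1,2,3,1,0,1,5,4,2,3,2,0,1,5,6,4,1,2,0])) (.word [1,3,6,1,5,1,2,1,6,3,0,1,0,2,1,3,4,3,2,3,4,2,1,0,1,0])) (.node (.node (.word [1,0,1,2,3,6,1,2,0,1,5,1,3,6,1,0,1,0,2,1,6,3,4,2,3,2,3,4]) (.word [1,3,5,1,2,3,1,0,4,6,5,1,2,3,2,1,6,3,2,1,5,1,2,3,1])) .none)))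 (.node (.node (.node (.node (.word [2,5,1,0,2,3,1,2,3,2,1,5,4,2,3,2,3]) (.word [3,5,1,2,6,1,5,6,3,2,3,4,3,2,1,6,2,3,2,1,5,6,3,4,3,1,2])) (.node .none (.word [2,1,0,4,3,2,6,1,6,3,4,2,1,0,2,1,3,4,3,2,3,0,1,2,0,1]))) (.node (.node (.word [0,1,2,4,3,2,1,3,2,3,0,2,1,6,0,1,5,4,2,3,1,2,1]) (.word [0,1,0,2,1,3,2,3,2,4,1,0,1,2,3,6,1,2,6,0,1,5,0,1,2,3,1,2,0])) (.word [3,2,3,0,2,1,0,1,3,2,4,3,2,0,1,6,4,1,2,3,0,1,2]))) (.node (.node (.node (.word [0,1,2,4,3,5,1,6,2,1,5,1,0,1,2,3,2,0,1,5,0,1,6,2,1,5,4,1]) (.word [0,2,3,2,5,1,2,5,3,2,1,2,3,2,1,0,1,5,4,3,2,3,1])) (.node (.word [0,2,1,0,3,2,5,1,5,2,4,3,6,5,1,6,2,3,1,2,3,4,3,1,2]) (.word [1,0,2,3,4,5,3,2,1,2,3,5,1,2,3,2,1,0,1,5,4,0]))) (.node .none (.word [1,0,1,0,4,6,1,2,3,4,0,1,2,3,5,1,4,0,1,2,3,2,1,5,2,1]))))) (.node (.node (.node (.node (.word [0,3,5,1,0,1,2,5,3,0,1,4,6,2,3,2,1,0,1,6,3,2,3,0,1])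 (.node .none (.word [3,6,5,1,2,6,1,5,4,3,6,1,0,2,3,2,1,5,4,2,3,2,1,6,3,4,0]))) (.node (.node .none (.word [1,0,4,3,2,5,1,3,2,3,4,3,0,1,0,2,1,3,2,6,3,2,1,0,1,2,3,4,2,0])) (.word [0,2,4,3,2,1,0,6,1,2,6,3,2,0,4,3,2,6,1,0,2,1,3,4,2,3,2,1,5,6,1,5,2]))) (.node (.node (.node .none (.word [1,0,1,5,6,1,2,3,2,6,1,0,2,3,5,2,1,6,5,4,3,2,3,2,1])) (.node (.word [0,1,2,5,1,2,3,2,1,5,3,4,3,2,3,4,2,1,5,0,1,0,1,2]) (.word [0,1,5,6,1,5,6,2,3,4,3,2,1,5,3,2,3,2,1,5,2,3,4,3,2,0]))) (.node (.node .none (.word [3,2,3,2,6,1,5,6,1,2,0,1,3,2,4,3,2,1,5,1,2,3,0,1,2,3])) (.word [5,6,1,2,3,4,2,3,2,1,6,5,0,6,1,2,3,4,5,6,1,2,3,2,1,6,3,2,0,1])))) (.node (.node (.node (.word [3,4,5,1,0,1,2,3,2,1,0,1,6,2,3,0,1,2,0,1,5]) (.node (.word [1,0,1,3,6,1,0,1,2,3,4,3,6,5,1,2,0,1,6,5,3,2,3,2,1]) (.word [0,2,1,6,1,0,1,2,3,2,3,4,0,6,1,0,1,2,3,6,5,4,1,2,3,1,2,3,1,0])))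 (.node (.node .none (.word [3,2,1,4,3,2,1,6,4,0,3,2,1,3,6,5,4,1,2,3,0,1,0,1,0])) .none)) (.node (.node (.node .none (.word [1,0,2,3,4,5,3,2,1,2,1,3,2,4,3,6,1,6,5,2,1,6,3,4,2,3,1,2])) .none) (.word [4,3,2,1,0,1,5,4,0,6,1,0,2,1,3,4,2,3,2,1,5,6,1,2,3,2,3,1]))))))

/-- A subtree. -/
def sub46 : WTree :=
  (.node (.node (.node (.node (.node (.node (.node .none (.word [3,5,1,2,6,3,4,2,3,2,1,5,6,1,6,1,2,3,2,4,3,2,0,1,5,6,2,1,5,4,2,0,1])) (.node (.word [2,6,1,2,3,2,0,1,6,2,3,4,6,1,5,6,1,2,3,1,2,1,0,1,6,3,0]) (.word [1,4,3,2,1,3,2,5,3,1,2,0,1,0,3,5,1,2,3,4,2,3,2,1,6,0,1,5,0]))) (.node (.node (.word [0,5,1,2,6,1,5,1,3,4,3,2,3,4,2,3,1,2,3,2,1,0,1,5,1]) (.word [2,1,6,5,1,6,2,0,3,4,6,1,5,6,2,1,5,6,2,3,2,1,0,1,2,3])) (.word [0,1,2,3,2,4,3,2,3,1,6,1,0,3,2,1,6,2,3,4,2,3,2,1,0]))) (.node (.node (.node (.word [6,1,2,3,2,4,3,1,2,3,4,0,1,2,3,2,1,6,0])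 (.word [0,1,4,5,1,2,3,2,1,2,6,1,0,4,3,1,2,0,1,5,0,1,6,2])) (.node .none (.word [3,2,3,2,1,5,3,2,4,3,6,1,6,5,1,2,3,4,3,1,2,3,1,2]))) (.node (.node (.word [0,1,0,4,3,2,1,5,1,0,4,6,1,2,3,2,3,5,1,6,4,3,2,3,1,2,3,2]) (.word [1,2,1,3,4,3,2,3,5,4,1,2,0,1,3,6,1,2,0,1,0,1,5,2,3,1])) .none))) (.node (.node (.node (.node (.word [2,6,1,2,3,5,2,1,6,1,5,2,1,0,1,3,6,5,1,2,3,0,1,0,2,1,4,3,2,6,0,1,6,3,4,2,0]) (.word [0,3,5,1,2,3,2,1,0,1,5,2,3,4,2,3,0])) (.word [1,0,1,2,5,4,1,0,5,6,1,2,3,5,2,3,1,2,0,1,5,6,4,1,0])) (.node .none (.word [0,1,2,4,3,2,6,1,0,1,5,6,2,3,2,6,1,6,5,3,2,1,6,2,3,4,1,2,1]))) (.node (.node .none (.word [0,1,2,1,4,3,2,5,6,1,5,0,1,2,4,3,2,6,1,5,1,0,1,2,3,2,1,6,1,5,4])) (.node (.node (.word [4,3,2,3,2,1,0,1,6,1,2,0,4,3,2,1,6,0,1,6,5,4,3,2,1,6,3]) (.word [2,3,2,1,5,1,2,3,4,3,6,1,0,1,5,2,0,1,0,1,6,3,4,2])) (.word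 [0,1,0,2,1,6,5,1,6,2,3,2,4,3,2,1,0,1,5,6,3,1,2,1,0]))))) (.node (.node (.node (.node (.node .none (.word [1,0,3,2,1,0,1,3,2,3,4,3,1,2,1,0,6,1,0,2,3,2,1,6,5,1,6,5,2,1,6])) (.word [0,3,5,1,2,6,1,5,3,4,6,1,0,2,1,3,2,0,1,6,5,2,3,2,1])) .none) (.node (.word [1,3,2,1,0,1,6,3,1,0,1,0,1,2,3,4,2,1,0,3,5,2,1,0,1,5,3,0]) (.node (.word [2,1,0,4,3,2,6,1,6,3,4,2,1,2,3,4,3,2,3,2,1,5,6,1,0,1]) (.word [3,2,3,4,5,1,2,3,1,2,3,1,2,0,1,5,2])))) (.node (.node (.node (.node (.word [4,3,2,1,0,3,2,3,4,5,1,0,5,6,3,2,3,4,1,2,3,2,1,6,0,1]) (.word [1,2,1,0,1,4,2,3,2,6,5,1,2,3,6,0,1,5,6,4,2,1,0,1,2])) (.node (.word [1,2,3,2,1,5,3,4,2,3,1,2,3,2,1,2,4,3,5,1,2,1,6,0,1,5,2,3,4,2]) (.word [5,1,0,2,6,1,5,6,3,4,1,2,3,5,6,1,0,4,2,3,1,2,0,1,6,4,0]))) (.node (.node (.word [0,1,0,4,3,2,1,5,0,3,2,1,4,3,2,0,1,5,4,1,2,1]) (.word [2,1,3,2,5,1,6,1,2,3,0,4,6,1,0,1,2,1,5,6,1,2,3,2,1,6,5,1]))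 (.word [1,2,1,3,0,1,2,1,3,4,2,3,2,1,0,1,2,3,4,1,0]))) (.node (.node (.node .none (.word [1,3,5,4,0,1,2,3,2,1,5,3,0,1,3,2,3,2,3,4,3,2,6,1,2,3,2,1,0,1,6,4,3,2,0])) .none) (.node .none (.word [0,5,1,0,2,1,3,2,5,4,3,5,1,0,1,2,3,0,1,2,3,2,1,5])))))) (.node (.node (.node (.node (.node (.word [1,0,2,3,4,5,3,2,1,4,3,2,3,4,6,1,2,3,2,1,5,1,6,3,1,2,3]) (.word [0,2,6,1,5,6,1,2,1,4,3,2,6,1,5,6,1,5,2,1,6,4,1,2,3,2,1])) (.node .none (.word [0,1,2,3,2,3,5,1,0,1,2,0,1,5,1,0,1,3,2,3,6,4,2,3,2,3,1,2,0,1,5,1,2]))) (.node (.node .none (.node .none (.word [2,4,3,5,1,2,1,6,0,1,5,2,3,4,3,2,6,1,2,3,5,1,0,1,5,2,1,6,3,2]))) (.node (.node .none (.word [1,0,1,5,6,1,2,3,2,3,5,4,0,1,2,3,2,1,5,4,0])) .none))) (.node (.node (.node (.node (.word [2,1,5,1,2,3,2,3,4,0,4,3,6,1,2,3,2,6,4,1,2,3,2,1,6,3,4,1,0]) (.word [3,2,3,2,1,5,1,2,1,0,1,3,4,3,2,3,2,1,5,4,2,0,1,0,1]))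 (.node .none (.word [3,6,1,2,5,1,5,6,3,0,1,2,0,1,5,6,1,5,4,3,2,1,6,3]))) (.word [1,2,3,2,1,4,0,1,3,5,1,2,3,4,1,0,1,2,3,2,1,5,1])) (.node (.node (.word [2,1,5,1,2,3,2,3,4,3,5,6,1,2,1,6,3,2,1,5,3,2,3,4]) (.word [1,0,1,2,5,4,1,0,2,6,5,1,0,3,2,1,0,1,6,3,4,1,2,1])) .none))) (.node (.node (.node (.node (.word [3,2,1,3,2,4,3,5,6,2,1,5,6,1,5,1,3,2,3,1,0,1,0,2,1,5,1,4,2,3,2,1,0,1,2]) (.node (.word [1,0,4,3,2,5,1,3,2,3,4,3,2,1,5,6,3,1,2,0,1,5,6,4,1]) (.word [0,1,0,3,2,1,6,3,1,2,4,6,5,3,2,1,6,4,3,2,3,0,1,0]))) (.node (.node (.word [0,1,2,3,2,4,1,0,3,4,3,2,3,4,5,2,3,1,2,0,1,0,1,5,4]) (.word [0,1,2,4,3,2,1,0,2,6,1,5,1,2,3,2,1,0,1,6,1,5,4,2])) (.word [0,2,1,4,3,2,3,6,1,2,3,1,6,1,2,1,5,3,2,1,6,3,0,1,2,3,4]))) (.node (.node (.node .none (.word [0,2,1,4,5,0,1,2,1,4,3,6,2,1,0,1,5,3,2,1,6,2,3])) .none) (.node (.node .none (.word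 [0,2,1,0,4,5,1,2,3,2,3,4,6,1,2,3,2,1,5,4,3,2,1,6,5,1,6,4,0])) (.word [1,2,3,2,1,4,0,1,2,1,5,1,2,3,2,0,1,5,4,2,1,0])))) (.node (.node (.node (.word [2,1,6,5,1,6,2,1,2,3,5,2,1,5,6,4,3,2,1,5,2,3]) (.node (.word [5,6,1,0,1,2,1,5,1,6,2,3,4,1,0,1,6,1,2,3,2,1,5,4,1,2,1,0]) (.word [0,2,1,0,3,2,1,5,2,3,1,2,4,3,2,1,3,4,6,5,1,6,2,3,1,2,3,4,2]))) (.node (.node (.word [0,2,4,3,5,1,2,1,5,3,4,6,5,1,2,3,2,0,1,5,6,4,3,2,3,2]) (.word [1,2,1,5,1,6,1,0,3,2,1,5,6,3,2,4,3,5,1,2,3,2,1,5,1,0,1,2,3])) (.word [0,5,1,2,6,1,5,3,2,4,3,5,1,2,3,1,2,1,0,1,5,3]))) (.node .none (.node (.node (.word [0,1,2,3,5,6,1,0,2,1,5,6,2,4,3,5,1,0,2,1,5,3,0,1,2,0,1,5,3,4]) (.word [1,2,1,3,4,3,2,3,5,4,1,2,1,6,5,1,2,5,0,1,6,5,1,2,3,1,2,0,1])) .none))))))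

/-- A subtree. -/
def sub47 : WTree :=
  (.node (.node (.node (.node (.node (.node (.node .none (.word [3,2,1,3,2,4,3,5,6,1,0,1,6,5,4,2,3,1,2,3])) (.node (.word [0,2,5,1,2,3,2,5,3,4,5,1,0,2,1,3,2,3,4,1,2,3,2,0,1,5,2]) (.word [2,3,2,1,4,3,5,2,3,6,1,0,1,5,2,0,1,6,3,4,0,1,2,3,2]))) (.node (.node (.word [6,5,1,6,5,6,1,2,3,4,0,1,5,2,1,6,3,2,3,0,1]) (.word [1,2,3,4,3,2,1,0,5,3,2,1,6,4,3,2,3,1,0,1])) .none)) (.node (.node (.word [1,2,1,4,5,1,6,3,2,1,0,1,6,0,2,3,4,3,2,1,5,1,6,3,1,0,1,2,0,1,5,4,3,2]) (.word [3,2,1,5,6,1,2,6,5,4,3,2,3,6,1,5,0,1,6,2,0,1,5,3])) (.node (.word [4,6,1,0,1,5,1,2,3,2,1,6,1,5,3,2,1,0,1,6,4,1,2,1,0]) (.word [1,3,5,6,1,2,5,1,6,5,3,1,2,5,1,6,5,1,6,4,2,3,2,1,0,1,5,2,1,6])))) (.node (.node (.node (.node (.word [3,4,3,2,3,2,1,0,1,2,3,0,4,5,1,2,6,3,2,1,5,6,4,1,2,3,1,0]) (.word [4,3,2,3,5,6,1,2,3,6,4,3,2,0,1,0,1,5,6,4]))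 (.node .none (.word [3,2,6,1,5,6,1,2,1,6,3,2,4,3,6,1,5,2,0,1,6,2,1,5,3,1,2]))) (.node (.node (.word [0,1,4,3,2,1,6,1,0,1,2,1,3,5,1,2,3,2,1,0,1,5,1,2,3,4]) (.word [1,0,1,5,6,1,2,3,2,4,3,0,1,4,2,3,2,1,0,1,0,1,6,5,1,2,3,4,1,0])) .none)) (.node (.node (.word [0,1,2,3,2,4,1,0,3,2,3,4,1,2,3,2,1,0]) (.node .none (.word [0,2,4,3,6,1,0,6,2,3,4,3,6,1,0,2,3,1,2,0,1,6,3,2]))) (.node (.node (.word [1,2,3,5,1,2,3,4,0,1,2,0,1,6,1,2,3,2,0,1,6,5,1,2,3,2,1,6,4]) (.word [1,3,2,4,3,2,1,6,2,0,1,6,3,4,2,1,0,3,2,1,5,6,1,5,6,3])) (.word [3,2,5,1,0,1,5,3,4,3,2,1,2,3,4,2,3,2,1,0,1,5,3,1]))))) (.node (.node (.node (.node (.node (.word [2,3,2,1,5,1,2,3,4,2,0,1,0,2,3,6,1,2,3,2,1,6,5,1,6,5,4,1,2,1]) (.word [2,1,0,5,1,2,3,6,0,1,2,1,3,4,3,2,3,6,1,6,0,1,2,0,1,5,3,1])) (.node (.word [1,3,5,6,1,2,5,1,6,5,3,2,4,6,1,0,1,2,6,3,0,1,2,0,1,5,1,6,1])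 (.word [4,3,2,3,5,1,0,2,1,0,1,5,0,1,2,3,4,2,1,0,2,5,1,6,1,2,3,2,1,5,6,1,5,6,2]))) (.node .none (.word [0,2,3,2,5,1,2,5,3,2,6,1,2,3,4,5,6,1,2,3,2,1,6,5,4,3,2,1]))) (.node (.node (.node (.word [2,1,3,2,1,3,2,3,1,3,4,3,2,6,1,5,3,2,1,6,5,3,4,3,1,2]) (.word [0,2,1,0,3,2,6,1,2,4,6,1,0,1,6,2,3,4,2,3,1,0,1,2,0])) (.node (.word [0,2,1,0,4,6,1,2,3,5,1,2,4,3,5,1,2,6,5,1,6,3,2,1,0,1,5,3,4]) (.word [1,0,1,2,3,2,5,3,4,3,1,0,1,2,3,4,3,2,6,1,2,0,1,6,3,0,1,2,3,4,2,3,2]))) (.node (.node .none (.word [1,2,3,2,1,4,0,6,1,2,3,4,1,0,1,6,2,1,5,6,3,4,2,1])) (.word [2,1,5,1,2,3,2,3,4,6,1,0,2,1,5,6,3,2,1,6,4,3,0,1,2,1])))) (.node (.node (.node (.node (.word [3,2,3,5,1,2,6,1,5,4,6,5,1,2,3,1,2,1,0,1,6,5,4,3,2,3]) (.word [3,5,1,2,6,3,4,2,3,2,1,5,6])) (.node .none (.word [3,2,3,0,6,1,2,3,4,5,3,2,3,1,2,3,2,1,5,1,6,1]))) (.node (.node (.word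 [0,4,5,1,2,6,1,0,1,5,2,3,4,2,3,5,2,3,1,2,0,1,5,3,2,3,4,0]) (.word [0,1,0,3,2,1,6,3,1,5,1,2,3,4,2,3,1,2,3,4])) .none)) (.node (.node (.node .none (.word [0,1,3,5,6,1,2,6,5,3,0,1,4,3,6,2,3,0,1,2,0,1,6,2,3,1])) (.word [6,5,1,6,2,3,4,2,3,2,1,5,3,2,4,3,5,1,2,1,6,0,1,5,2,3,4,2])) .none)))) (.node (.node (.node (.node (.node (.node (.word [2,5,6,1,2,3,2,0,1,6,5,2,3,2,3,1,2,3,4,2,3,1,2,3]) (.word [2,3,2,1,4,3,5,2,3,4,2,0,1,6,0,1,5,3,2,3,1,2,0])) (.word [2,1,0,4,3,2,6,1,6,3,4,2,1,3,4,3,2,3,4,1,2,3,0,1,2,3,4,0])) .none) (.node (.node (.word [1,2,6,1,5,1,2,3,2,1,5,1,2,3,4,1,2,3,2,1,6,4,3,2,3,0]) (.node (.word [1,3,5,2,3,1,2,1,3,4,5,6,1,3,2,1,0,1,6,3,4,2,3,2]) (.word [0,4,3,2,6,1,5,6,1,2,3,4,5,1,0,2,1,6,5,1,2,0,1,5]))) (.node (.node (.word [3,2,1,3,2,3,2,4,1,0,1,2,3,2,3,4,3,1,0,1,2,3,2,1]) (.word [4,6,5,1,2,6,1,5,3,2,0,5,1,0,4,2,3,1,2,0,1,5,4,3,2,3]))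 .none))) (.node (.node (.node (.word [1,2,1,3,0,1,2,1,0,2,4,6,1,2,3,5,6,2,1,5,4,2,0,1,0,1,0]) (.node (.word [1,0,1,2,3,4,2,3,2,1,0,1,0,4,3,5,1,2,3,2,1,5,4,0]) (.word [3,2,3,2,1,5,1,2,1,3,2,4,3,2,1,5,4,2,3,0,1,2,0,1]))) (.node (.word [0,1,2,4,3,2,1,3,2,6,5,1,6,3,2,1,5,4,3,2,1,0]) (.word [3,2,4,3,2,1,6,0,1,0,1,5,1,2,3,2,1,6,4,2,3,2,1,5,6,4,3]))) (.node (.node (.word [1,0,1,4,5,6,1,2,3,4,0,2,3,4,6,1,0,2,3,4,1,2,3,2,0,1,6,4,2,3,2]) (.node .none (.word [0,2,5,1,2,3,2,5,3,4,3,2,5,1,0,1,6,3,2,1,5,3,4,0]))) (.node .none (.word [1,0,4,6,1,2,3,2,1,0,5,1,6,5,4,3,0,1,3,2,1,5,3,1,2,4,3,6,1,5,2,0,1,6,5,3,4,2]))))) (.node (.node (.node (.node (.node (.word [0,3,2,1,6,1,5,1,2,1,6,3,2,1,4,5,1,0,3,1,2,3,4,3,2,3,2]) (.word [1,3,6,1,5,1,2,1,6,3,4,5,1,2,6,1,0,1,5,3,0,1,2,0,1,5,6,4,3])) .none) .none) (.node (.node (.node .none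 (.word [1,4,5,1,0,2,1,3,2,3,5,1,6,5,1,6,2,1,5,3,2,3,4,0,1])) (.node .none (.word [3,4,3,2,1,0,3,1,2,3,0,4,3,5,1,2,1,6,3,0,1,2,0,1,5,1,6]))) (.node (.node (.word [0,1,5,6,1,5,6,0,2,3,4,3,2,3,1,0,1,6,2,1,5,4,2,3,1,2]) (.word [0,2,1,6,1,0,1,2,3,2,3,4,1,0,1,3,2,3,6,5,1,2,3,4,1,2,3,2,3,1,0])) (.word [4,3,2,1,0,1,2,3,4,2,1,6,1,0,1,2,5,1,6,3,2,0,1,0,1,6,5,2])))) (.node (.node (.node (.node .none (.word [3,2,3,5,1,0,2,1,5,3,4,6,1,2,3,2,5,4,1,0,1,2,3,2,1,6,2,1])) (.node (.word [1,3,6,1,5,1,2,1,6,5,1,5,2,3,4,2,3,2,3,1,2,3]) (.word [1,3,5,2,3,1,2,1,4,3,6,1,2,3,2,1,0,1,5,2,1,6,2,1]))) (.word [4,5,1,0,6,1,2,0,1,6,0,1,5,4,3,2,6,5,1,2,3,4,2,3,2,1,6,0,1,5,3])) (.node (.node .none (.word [1,2,1,3,4,3,2,3,5,4,1,5,1,6,1,2,3,1,2,3,1,2,0,1,6,5,1])) (.node (.word [3,2,3,6,1,2,3,2,4,1,2,3,2,1,0,1,6,3,4,2]) (.word [1,3,5,2,3,1,0,2,1,3,2,4,3,2,1,0,1,2,0,1,5,3,4,2,3,1,2])))))))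

/-- A subtree. -/
def sub48 : WTree :=
  (.node (.node (.node (.node (.node (.node (.node .none (.word [1,0,2,3,4,5,3,2,1,3,4,2,3,2,1,6,0,1,0,1])) (.node (.word [3,2,1,3,2,3,2,4,1,0,2,3,5,6,1,0,2,1,3,2,1,5,1,6,3,4,3,2,3,2]) (.word [3,2,1,3,2,3,2,4,1,0,1,2,3,5,1,2,0,1,6,2,1,5,1,6]))) (.node (.node .none (.word [0,3,6,1,2,3,5,1,6,1,5,6,1,2,3,2,1,5,4,3,2,1,6,3,1,2,3,2])) (.word [0,3,2,1,6,1,2,5,1,6,3,0,4,3,2,1,3,4,5,2,3,4,1,2,3,0,1,2,3,0]))) (.node (.node (.node (.word [3,4,3,5,1,2,3,4,1,5,2,3,6,5,1,6,2,0,1,0,1,5,3,0]) (.word [3,4,3,2,1,0,3,1,2,3,0,1,2,1,0,6,1,5,6,4,3,2,1,5,6,3,1,0,1,2])) (.node (.word [0,4,3,2,6,1,5,6,1,2,3,4,0,1,0,2,1,3,2,0,1,5,2,3,2,1]) (.word [2,4,3,6,1,0,1,2,0,1,6,5,1,6,2,3,4,2]))) (.node (.word [1,2,3,4,5,1,0,2,3,1,2,0,1,3,2,3,6,1,0,2,1,5,4,2,3,2,1,6,4]) (.word [2,4,3,5,1,2,1,6,0,1,5,2,3,4,2,3,5,1,2,6,3,4,2,3,2,1,5,6]))))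 (.node (.node (.node (.node .none (.word [1,2,1,4,3,2,1,5,1,2,0,1,3,4,3,6,1,2,5,3,2,1,6,2,0,1,0,1,2,3,4])) (.node (.word [0,1,0,2,3,5,1,2,1,5,3,4,0,1,3,2,4,3,6,1,2,4,3,2,1,0,1,6,3,4,0,1,0]) (.word [3,2,5,1,0,6,1,2,1,5,3,2,1,0,1,2,3,4,2,3,2,1,5,6,1,2,0]))) (.word [1,0,1,2,3,6,1,2,0,1,5,1,3,4,3,2,6,1,2,3,2,1,0,1,6,4,3,2])) (.node (.node (.node .none (.word [2,3,2,1,6,5,1,6,3,2,1,4,2,3,2,1,0,3,5,1,6,2,1,5,6,3])) (.node (.word [4,3,5,1,2,3,1,5,2,0,1,0,4,5,1,2,6,1,3,2,3,2,1,6,2,0,1,5,3]) (.word [0,1,2,3,4,6,1,5,1,2,3,1,2,0,1,0,1,6,4,1,2]))) (.node .none (.word [4,3,2,3,4,6,1,2,3,2,0,1,6,2,3,4,3]))))) (.node (.node (.node (.node (.node (.word [5,1,0,2,6,1,5,6,2,3,4,2,1,0,1,6,0,1,2,3,2,3]) (.word [0,1,2,4,3,5,1,6,2,1,5,6,1,3,2,4,3,5,1,0,1,2,0,1,5,4,1])) .none) (.node (.node (.word [0,1,2,3,5,6,2,1,5,6,4,2,1,3,2,4,3,6,1,5,2,1,6,3,4,3,2,3,1,2])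 (.word [3,2,3,5,1,2,6,1,5,4,2,3,2,1,0,2,1,4,3,2,6,0,1,6,3,4,2,0])) (.word [2,3,4,3,2,3,1,2,3,4,3,1,3,6,1,0,2,3,1,2,0,1,5,6,1,5,3,2,0]))) (.node (.node (.node .none (.word [1,2,3,4,2,3,6,1,2,3,4,2,3,2,1,6,5,1,6,2,1,5])) (.word [1,3,5,4,0,1,2,3,2,1,5,3,0,4,3,6,5,1,2,0,1,5,0,1,2,3,2,1,5,1,6,4,1])) (.node (.node (.word [1,3,6,1,2,5,1,6,3,0,2,4,3,2,1,5,1,2,1,0,1,5,3,2]) (.word [0,1,3,4,6,5,1,2,5,3,1,2,1,0,1,6,2,3,0])) (.word [1,2,1,4,5,1,6,3,2,1,0,1,6,0,3,4,6,1,2,3,1,0,1,6,2,1,5,4,2,1])))) (.node (.node (.node (.node (.word [0,1,0,1,4,5,1,2,3,4,2,1,3,2,1,0,1,6,2,3,4,1,2,3,2,3]) (.word [0,1,4,3,2,1,6,1,5,1,2,3,2,3,1,2,3,2,1,5,4,1,2])) (.word [2,6,1,2,3,5,2,1,6,1,5,4,3,2,1,0,1,2,3,2,1,5,3,4,2,0,1])) (.node (.node (.word [0,2,1,4,6,1,0,1,2,3,2,4,3,2,6,1,2,5,3,2,1,6,4,2,3,1,2,3,1,0]) (.word [0,1,2,4,5,1,5,3,2,0,1,3,2,5,0,1,6,2,3,1,2,3,4,1,0]))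 (.word [0,2,1,0,3,2,6,1,2,3,0,1,2,1,4,3,5,1,2,1,0,1,6,3,4,3,1,2,1,0]))) (.node (.node .none (.node (.word [0,3,5,1,2,1,4,3,2,0,1,5,4,3,2,3,0]) (.word [1,3,2,1,0,5,1,0,2,6,1,5,6,4,3,2,3,4,0,1,2,3,2,0,1,0,1,2,3,1]))) (.node (.node .none (.word [0,1,2,1,6,1,0,2,1,2,3,4,2,3,0,2,5,1,2,4,3,2,1,6,0,1,2,0])) (.word [2,3,2,1,4,3,5,2,3,4,3,5,6,1,2,5,6,1,2,3,2,1,6,3,0,1,2,1])))))) (.node (.node (.node (.node (.node (.node .none (.word [1,3,2,6,1,5,6,1,2,5,6,3,2,1,3,4,3,2,6,1,3,2,0,1,6,1,2,3,4,3,2])) (.node .none (.word [1,0,2,3,2,5,1,0,1,2,1,3,4,5,6,1,0,1,2,6,3,2,1,5,1,6,3,2,3,4,3]))) (.node (.node .none (.word [1,2,1,3,5,1,0,1,2,3,4,2,3,0,1,4,3,6,2,3,4,1,0,1,2,3,1])) .none)) (.node (.node (.node (.word [1,0,2,1,3,2,1,3,2,4,1,5,3,2,1,0,3,6,1,2,1,5,0,1,6,2,1,5,3,1]) (.word [1,3,5,4,0,1,2,3,2,1,5,3,0,2,3,4,3,2,1,0,5,3,2,1,6,4,3,2,3,1,0,1]))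 (.node (.word [4,3,2,5,1,0,1,2,1,5,4,3,2,4,3,5,4,1,2,3,0,1,2,0,1,5,2]) (.word [1,2,3,4,6,1,2,5,1,6,3,5,1,2,6,4,3,2,1,6,4,2,0]))) (.node (.node (.word [6,5,1,6,2,3,4,2,3,2,1,5,3,2,1,4,3,2,5,1,6,5,3,2,1,6,5,4,1,0]) (.word [0,1,0,2,1,3,2,3,2,4,1,0,1,0,3,4,5,2,1,5,6,3,2,1,5,3,4,3,0])) (.word [1,3,5,2,3,1,4,3,2,3,4,2,1,0,1,2,3,2,1,5,0,1,2])))) (.node (.node (.node (.word [4,3,5,1,2,3,1,5,2,3,4,6,5,1,6,2,3,4,2,3,2,1,5,2]) (.word [1,3,5,4,0,1,2,3,2,1,5,3,2,3,4,5,3,2,1,3,4,2,3,2,1,6,0,1,0,1])) (.node (.node (.word [1,2,1,0,1,4,2,3,2,1,0,1,0,3,5,1,4,2,3,2,1,5,4,2]) (.word [2,4,3,2,1,3,0,1,5,4,1,6,1,0,1,2,1,6,3,2,1,0,1,6,1])) (.word [3,2,6,1,5,6,1,2,1,6,3,0,1,2,4,5,1,2,3,2,1,5,6,3,2,3,1,0,1]))) (.node (.word [0,1,2,3,5,6,2,1,5,6,4,1,0,5,1,2,3,0,1,5,2,3,1,2,3,4,0,1]) (.node (.node .none (.word [4,3,2,1,6,5,1,6,2,3,4,0,2,4,5,1,0,1,5,6,2,3,2,1,5,2,3,4,2]))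 (.word [2,3,6,1,0,2,1,5,2,0,1,6,5,3,2,1,2,3,2,4,3,2,1,4,5,1,2,3,2,1,0,1,5,4,3]))))) (.node (.node (.node (.node .none (.node (.word [3,5,1,2,6,1,5,6,3,1,0,2,1,5,1,4,3,2,0,1,5,6,1,2,0]) (.word [3,6,5,1,6,5,1,2,3,4,3,5,1,0,2,6,1,5,6,2,3,4,1,2,3,1]))) (.word [3,2,3,0,2,3,4,3,2,6,1,2,6,5,1,6,5,3,4,1,2,3,2])) (.node (.word [2,1,0,1,3,5,2,3,1,0,1,2,1,2,4,5,1,3,2,1,6,5,1,2,3,4,2,3]) (.node (.node (.word [0,4,3,2,3,6,1,0,6,2,1,5,3,6,0,1,2,3,0,1,2,0,1,6,4,0]) (.word [5,1,6,1,0,2,1,6,5,3,2,1,6,4,1,3,2,4,3,2,1,0,1,5,3,4,0,1,2,3,1,2])) (.word [5,1,0,1,2,1,0,6,1,5,3,4,2,3,4,5,2,3,1,2,1,0,1,5,4,3,2,0])))) (.node (.node .none (.node (.node (.word [0,1,0,1,0,3,2,3,6,1,2,0,1,6,5,1,6,4,3]) (.word [0,2,1,0,4,5,1,2,3,2,3,4,3,2,6,1,2,3,2,5,1,6,5,1,6,4,3,2,0,1,0])) .none)) (.node (.node .none (.word [4,3,5,1,2,3,1,5,2,0,1,0,2,4,5,1,2,3,2,1,6,0,1,5,6,4,3]))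 (.node (.node (.word [3,6,1,2,5,1,0,6,1,2,3,1,0,4,3,2,1,3,4,5,2,3,2,0,1,0,1,0]) (.word [0,2,1,0,4,6,1,2,3,5,1,6,5,1,0,6,2,3,2,1,0,1,6,4,1])) (.word [0,1,0,1,3,2,3,2,4,3,1,0,2,1,0,6,1,2,3,4,1,2,3,2,1,0,1,2])))))))

/-- A subtree. -/
def sub49 : WTree :=
  (.node (.node sub45 sub46) (.node sub47 sub48))

/-- A subtree. -/
def sub50 : WTree :=
  (.node (.node (.node (.node (.node (.node (.node (.word [0,3,5,1,0,1,2,5,3,2,4,6,5,1,0,1,5,6,3,2,3,2]) (.word [0,1,2,4,5,1,5,3,2,1,4,3,6,1,2,5,1,2,3,2,1,6,3,2,3,4,1])) (.word [0,2,1,4,3,2,6,1,2,4,5,1,6,1,2,3,2,1,5,4,3,1,2])) (.node (.node .none (.word [0,1,3,5,6,1,2,6,5,3,4,5,6,1,2,3,2,1,6,0,1,5,6,2,3,2,1,0])) (.word [1,0,1,2,3,6,1,2,0,1,5,4,6,1,2,3,1,5,6,2,1,5,3,2,1,6,1]))) (.node (.node (.word [1,2,3,4,2,3,2,1,0,1,3,2,4,3,1,0,1,5,1,2,3,2,1,0,1]) (.node (.word [0,1,2,4,3,2,1,0,3,4,5,1,2,1,5,6,3,1,2,0,1,5,4])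 (.word [6,5,1,6,2,3,4,2,3,2,1,5,3,0,6,1,2,3,5,1,2,0,1,6,3,4,3,2,0,1,0,1,0]))) (.node .none (.word [0,2,4,3,5,1,2,1,5,3,2,1,0,3,4,3,2,3,1,0,1,5,4,1,2,1,0,1,0])))) (.node (.node (.node (.node .none (.word [3,2,1,3,2,4,3,2,1,0,3,4,3,2,3,4,6,1,2,3,2,1,6,5,1,2,0,1,5,3])) (.word [4,3,2,1,3,2,3,1,5,0,1,2,1,0,2,1,3,2,4,3,2,1,6,1,5,3,2,3,4,2,3,1,2,0])) (.word [1,0,2,3,4,5,3,2,1,2,5,1,0,1,2,3,2,1,0,1,5,3,4,2])) (.node (.node (.node .none (.word [2,3,2,6,1,2,3,2,1,6,3,2,4,3,5,1,0,1,2,0,1,5,3,2,3,0,1,2,3])) (.word [3,2,1,0,1,0,5,1,2,3,2,1,0,1,6,3,4,2,3,1,2,0,1,6,3,0])) (.word [5,1,0,1,2,1,3,2,6,1,5,4,0,5,1,2,3,2,4,3,1,2,0,1,0,1,5,3,4])))) (.node (.node (.node (.node (.node (.word [1,5,1,0,2,3,4,6,5,1,2,3,6,4,2,3,1,2,3,2,1,6,5,4]) (.word [1,0,1,3,2,4,3,2,3,1,0,4,3,5,1,2,1,6,0,1,5,6,2,3,2,1,5])) (.node .none (.word [0,3,5,1,0,2,1,5,3,2,6,1,0,1,5,6,4,3,2,3,1,2,0,1,6,2,1])))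 (.node (.word [2,3,6,5,1,0,6,1,2,6,1,5,3,1,4,3,2,3,4,2,3,2,1,6,1,2,0]) (.word [0,2,5,1,2,3,2,5,3,1,4,6,1,2,3,2,1,4,2,3,2,1,0,1,5,6,4,1,2]))) (.node (.node (.node (.word [0,1,5,1,2,6,1,5,2,3,4,3,6,1,2,3,2,1,6,5,4,3,2,3,1,2]) (.word [1,3,2,1,0,5,1,0,2,6,1,5,6,3,1,2,4,3,6,2,1,0,1,5,6,3,2,1,5])) (.word [0,5,1,6,5,1,2,3,2,1,5,3,2,0,1,2,1,0,5,3,4,2,3,1,0,1,2,3,4,2])) (.node (.word [0,1,3,2,6,1,2,0,1,6,2,4,3,2,3,1,5,4,0,1,2,3,2,3,1]) (.word [3,6,1,5,1,2,1,6,3,0,2,4,5,6,1,3,2,1,6,3,2,1,5,4,3,1])))) (.node (.node (.node (.word [1,3,6,5,1,0,2,1,0,1,6,2,3,1,0,2,4,3,1,5,6,2,1,0,1,2,3,1,2]) (.word [1,0,1,2,1,3,4,2,3,2,1,2,1,5,1,0,3,4,3,2,3,1,0,1,2,3,4,0])) (.node (.word [0,1,4,3,2,1,5,6,1,0,1,2,3,2,3,4,1,0,1,2,3,1,2,1]) (.word [3,2,3,2,6,1,5,6,1,2,1,0,2,6,1,5,2,3,4,2,3,1,2,1,0,1,6,2]))) (.node (.node (.node (.word [3,2,1,3,2,3,2,4,1,0,6,1,2,3,2,4,3,5,1,6,1,2,3,4,3,1,2,1])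 (.word [0,1,2,3,2,4,1,0,2,3,6,5,2,1,6,3,2,3,2,1,5,6,4,2])) (.node .none (.word [0,1,2,4,3,5,6,2,1,5,6,4,3,2,1,0,1,2,3,4,2,1]))) (.node (.word [0,3,2,1,6,1,2,5,1,6,3,0,1,2,1,4,3,2,0,1,5,2,0,1,0,1,0]) (.word [1,2,1,0,4,3,2,1,5,0,1,2,3,4,1,2,0,1,0])))))) (.node (.node (.node (.node (.node (.node (.word [1,5,1,0,2,3,4,1,0,2,1,0,6,1,2,5,3,2,3,4,1,2,3,2,1,6,0]) (.word [1,3,2,6,5,1,0,6,2,3,2,1,0,3,4,3,1,2,3,1,2,3])) (.node (.word [4,3,2,5,1,0,1,2,6,1,5,6,1,2,5,3,2,1,6,3,4,3,1,2,1]) (.word [3,4,3,2,3,2,1,0,1,2,3,0,1,2,1,3,4,3,2,6,3,2,1,6,4,3,2,3,0,1,2]))) (.node (.word [0,3,5,1,0,2,1,5,3,0,2,1,0,4,3,1,2,3,1,2,0,1]) (.word [0,3,2,1,6,1,5,1,2,1,6,3,0,1,4,5,2,3,2,1,0,1,5,1,0]))) (.node (.node (.node .none (.word [0,2,1,3,2,1,3,5,2,3,1,2,3,4,3,6,1,0,1,6,5,2,3,2,1,0,1,0])) (.node (.word [1,2,3,2,1,4,0,1,2,1,6,5,1,2,6,5,1,6,3,2,1,5,4,0,1,2])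 (.word [0,1,3,5,1,0,1,2,1,5,3,4,6,1,2,3,2,1,5,6,1,5,3,2,1,6,1]))) (.node (.node (.word [1,0,1,2,3,4,2,3,2,3,2,6,1,5,0,1,2,3,1,0,1]) (.word [0,1,0,1,3,2,3,2,4,3,1,0,1,0,6,1,0,1,5,1,2,3,2,1,5,3,2,1,6,1,2])) (.word [6,1,0,2,1,5,6,3,2,1,6,0,1,2,3,2,1])))) (.node (.node (.node (.node .none (.word [3,4,3,2,6,1,2,3,2,0,1,6,4,3,2,3,4])) (.node .none (.word [0,5,1,6,5,1,2,3,2,1,5,3,2,0,2,1,4,3,2,1,6,5,1,6,5,4,3,1,2,3,4,3,2]))) (.node (.node (.word [2,1,0,3,2,5,1,6,0,1,5,3,2,3,0,1,2]) (.word [1,0,1,5,6,1,2,3,2,4,3,2,4,3,6,1,2,1,0,1,6,2,3,4,2,0])) .none)) .none)) (.node (.node (.node (.node (.node .none (.word [3,2,3,0,4,5,1,0,2,1,3,2,1,5,4,3,0])) (.node (.word [2,3,4,3,2,3,1,2,3,4,3,2,0,1,6,5,1,2,3,6,2,1,0,1,6,1,5,3,4,3]) (.word [3,2,1,4,3,2,1,5,6,4,1,0,1,3,4,3,2,3,2,1,0,1,5,0,1,2,3,0]))) (.node (.word [0,2,3,2,5,1,2,5,3,2,3,4,3,5,6,1,5,6,1,2,3,4,1,2,0,1])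 (.word [0,2,4,3,5,1,2,1,5,3,1,4,3,2,0,1,6,2,1,5,3,2,3,1,2]))) (.node (.node (.word [1,2,1,3,0,1,2,1,0,1,2,3,5,4,2,3,1,2,0,1,5,3,0]) (.word [3,2,1,0,6,1,2,1,5,6,3,1,2,3,4,3,2,1,0,1,2,3,4,1,2,3,2])) (.node (.word [2,3,2,1,4,3,5,6,1,5,2,1,6,1,2,3,4,2,3,2]) (.word [5,1,2,3,6,1,0,5,1,6,2,3,4,3,5,2,3,1,2,3,2,1,5,1,2,3])))) (.node (.node (.node (.node (.word [1,3,2,6,1,5,1,6,1,5,3,2,3,4,3,2,5,1,6,5,2,1,0,1,5,3,4,2,3,2]) (.word [2,3,4,3,2,3,1,2,3,4,3,5,1,2,6,1,2,3,2,1,6,3,2,1,5,1,6,2])) .none) .none) (.node (.node .none (.word [6,5,1,6,5,1,4,3,2,3,6,1,5,2,3,2,1,6,4,3,2,1,0])) (.node .none (.word [2,3,4,3,2,3,1,2,3,4,6,5,1,0,2,6,1,5,2,0,1,6,2,3,2])))))))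

/-- A subtree. -/
def sub51 : WTree :=
  (.node (.node (.node (.node (.node (.node (.word [0,5,1,0,2,1,3,2,5,3,4,3,2,6,5,1,3,2,0,1,6,0,1,5,3,4,3]) (.word [0,1,2,4,3,2,1,3,2,6,1,2,3,4,2,3,2,1,6,3,2,3,2,1])) (.node .none (.word [1,2,3,4,2,3,2,1,6,1,0,1,2,1,6,3,4,2,3,2,1,6,0]))) (.node (.node (.node (.word [1,0,1,0,4,6,1,2,3,4,0,2,3,5,1,2,3,1,2,1,0,1,5,4,0]) (.word [3,2,3,5,1,2,6,1,5,1,2,3,4,6,1,2,5,6,1,5,2,3,2,3,4,3,1,2])) (.node .none (.word [0,3,2,1,5,6,1,2,5,1,6,5,3,1,0,2,1,3,5,4,1,0,1,2,3,1,2,3,4]))) (.node (.node (.word [0,1,4,3,2,1,5,6,1,0,1,4,3,2,3,4,5,1,2,0,1,5,2,3,4,1,2,3]) (.word [0,1,0,1,4,5,1,2,3,4,3,6,1,0,1,6,2,3,1,2,1,0,1,6,4,3])) (.word [0,2,1,4,3,5,6,1,0,2,3,4,1,2,1,3,2,5,3,1,2,1,4,3,2,0,1,6,5,3,4,1,2,0])))) (.node (.node (.node (.node (.word [0,5,1,0,2,1,3,2,0,1,6,2,3,2,0,1,5,0]) (.word []))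 (.node (.word [4,3,2,3,5,1,0,2,1,2,5,6,1,0,1,6,3,2,3,4,2,1]) (.word [3,2,1,3,2,4,3,2,0,2,1,5,1,6,2,3,2,1,0,1,6,4,2,3,0,1]))) (.node (.node (.word [0,2,4,3,5,1,2,1,5,3,4,3,2,1,0,1,0,1,6,2,1,5,2,3,1,2]) (.word [3,4,3,5,1,2,3,4,1,5,2,0,5,1,6,2,1,0,1,6,3,2,1,5,6,3])) (.word [3,2,1,0,4,3,2,1,5,4,1,2,3,4,3,6,1,2,0,1,6,5,1,2,3,2,3,4,3,2]))) (.node (.node (.node .none (.word [2,3,2,1,5,1,2,3,4,2,6,1,2,3,2,4,1,5,0,1,2,3,2,1,6,0])) (.node (.word [0,4,3,2,6,1,5,6,1,2,3,4,1,2,3,6,1,0,1,2,1,5,3,2,0,1,6,4,3,2,3]) (.word [2,1,5,1,2,3,2,3,4,0,1,0,2,1,3,6,1,2,3,2,1,5,1,6,4,1,0]))) (.node (.node .none (.word [2,1,3,2,1,3,2,3,0,3,2,4,5,1,6,1,2,3,4,2,1,0,1,2,3,2])) .none)))) (.node (.node (.node (.node (.node .none (.word [0,2,1,5,6,1,2,3,5,1,2,1,0,3,4,3,2,3,1,0,1,6,5,2,1,6,5,2,3])) (.node .none (.word [2,3,2,1,4,3,2,3,5,1,2,4,3,4,6,5,1,0,1,5,6,2,1,5,3,2,3,1])))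 .none) (.node .none (.node (.node .none (.word [6,1,2,3,2,1,0,6,1,4,2,3,2,1,6,2,1,0,6,1,0,2,1,6,3,4,2,3,2,1,5,2,1])) .none))) (.node (.node (.node (.node .none (.word [1,4,3,2,1,0,1,3,5,1,4,3,2,1,3,6,1,2,1,5,1,6,1,2,3,0])) (.word [3,6,1,0,2,1,0,1,6,3,2,3,4,3,1,0,1,2,5,6,1,2,3,2,1,5,4,3,1])) (.node (.node .none (.word [3,5,6,1,0,5,1,6,2,3,0,2,1,6,1,5,4,3,1,2,0,1,5,6])) (.word [3,6,5,1,6,5,1,2,3,1,0,2,1,4,3,2,0,1,5,4,3,2,0,1,0,1]))) (.node (.node .none (.node (.word [1,0,1,2,1,4,3,5,1,2,3,2,1,4,6,3,2,1,6,5,1,6,3,4,3]) (.word [0,1,2,3,2,4,0,1,2,3,2,6,1,5,6,1,2,0,1,0,1,5,4]))) (.node (.word [2,1,6,5,1,6,2,1,3,4,6,5,1,2,6,1,6,5,3,1,2,1,0,1,6,3]) (.word [4,3,6,1,5,1,0,2,1,6,0,1,4,3,5,1,0,2,1,6,5,4,3,1,2,0,1,5,3,4])))))) (.node (.node (.node (.node (.node (.word [0,2,1,0,3,2,5,1,5,2,3,5,2,3,2,1,6,4,0,1,2,3,2,3])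 (.word [2,6,1,2,3,5,2,1,6,1,5,4,6,5,1,2,0,1,6,3,2,1,0,1,5,4,1,0])) .none) (.node (.node (.word [3,2,5,1,2,3,2,1,5,1,0,2,3,4,3,2,1,5,6,3,2,1,5,2,0,1,6,3,4,3,2]) (.node .none (.word [2,3,2,1,6,5,1,6,3,2,4,3,2,1,3,2,5,6,4,1,0,1,2,3,1,2,3,1]))) (.node (.node (.word [0,3,5,1,2,1,5,3,1,0,1,0,2,1,3,2,4,3,2,1,5,2,1,0,1,2,1]) (.word [0,4,3,5,1,0,6,1,2,0,1,5,0,1,4,2,3,2,0,1,2,3,2,4,3,1,2,1,0,1])) (.word [1,0,1,3,2,3,2,4,2,1,5,0,1,6,2,3,4,2,0,1,0,1])))) (.node (.node (.node (.node (.word [3,6,1,5,1,2,1,6,3,0,2,4,3,6,1,2,1,5,4,3,0,1,2,1,0,1,6,2]) (.word [1,0,2,3,4,5,3,5,1,6,5,1,2,1,5,3,2,1,6,4,3,1,2,1])) (.word [1,2,3,4,2,3,2,1,0,2,1,3,2,6,0,1,0,1,5,1,2,3,4,1,2,0])) (.node .none (.word [2,1,6,5,1,6,2,0,1,6,1,2,3,2,4,3,5,1,6,5,1,6,4,2,1,0,1,2]))) (.node (.node (.node (.word [1,0,1,5,6,1,2,3,2,4,3,2,5,1,0,1,6,1,5,4,3,2,3,4,2])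 (.word [0,1,2,4,3,2,0,1,2,3,4,3,2,3,2,1,0,1,2,0,1])) (.node (.word [2,4,3,5,1,2,1,6,0,1,5,2,3,4,1,3,2,1,3,2,3,4,3,2,6,1,0,1,5,2,1,6,5,3,1,2]) (.word [0,2,6,1,5,6,1,2,1,0,1,3,4,3,6,2,1,5,0,1,2,3,2,1,5,2]))) (.node .none (.word [2,6,1,2,3,2,0,1,6,2,1,2,5,6,1,5,3,4,2,3,1,2,1,0,1,6,1,0]))))) (.node (.node (.node (.node (.node (.word [3,2,1,0,1,2,3,2,4,3,1,2,1,3,6,2,1,5,4,3,1,2,3,2,1,6]) (.word [0,1,2,3,5,6,2,1,5,6,4,2,3,2,3,1,2,0,1,5,4,3,2,0,1])) (.word [3,4,3,2,1,3,5,1,0,1,2,4,5,1,0,6,1,2,1,5,3,2,0,1,6,3,2,3,4,3])) (.word [2,6,1,2,3,2,0,1,6,2,1,0,1,0,3,4,6,5,2,3,1,2,0,1,0,1,5,3,1])) (.node (.node (.node .none (.word [0,1,2,4,3,5,6,2,1,5,6,0,2,4,3,6,1,5,6,2,1,0,1,2,3,4,2])) (.word [0,3,2,5,1,0,1,2,5,3,0,1,0,2,4,6,1,2,3,5,6,1,2,0,1,5,6,2,3,4,1,0])) (.node (.node .none (.word [0,2,1,5,1,2,0,1,0,2,3,6,1,2,1,0,1,6,4,3,2,1,5,6,4,1]))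 (.word [2,6,1,2,3,2,0,1,6,2,1,4,5,1,6,1,2,3,2,1,6,5,4,1])))) (.node (.node (.node (.node (.word [0,1,0,4,3,2,3,5,1,2,5,3,1,4,3,2,3,2,1,5,0,1,2,3,0,1]) (.word [0,2,1,5,1,2,0,4,6,1,0,2,1,3,6,2,3,1,2,0,1,6,4,1,2,1])) (.node .none (.word [2,1,6,5,1,6,2,0,1,0,4,5,1,2,3,2,1,5,6,3,4,1,2,1,0]))) .none) (.node (.node .none (.word [3,2,5,1,0,6,1,2,1,5,3,1,0,1,4,3,6,2,3,1,2,3,2,1,5,4,1])) (.node .none (.word [3,2,1,3,2,4,3,2,1,0,1,3,2,5,3,0,1,4,6,2,3,0,1,0,1,2,3,1])))))))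

/-- A subtree. -/
def sub52 : WTree :=
  (.node (.node (.node (.node (.node (.node (.word [1,4,5,1,0,2,1,3,2,4,3,2,1,4,3,2,1,6,0,1,6,5,3,1,2,3,2,1,6,2]) (.word [0,2,1,3,2,1,3,2,3,1,2,0,2,1,4,5,6,1,2,3,1,6,1,2,1,0,1,6])) (.node .none (.word [0,3,5,1,0,1,2,5,3,4,6,5,1,2,6,3,2,0,1,5,2,3,4,3]))) (.node (.node .none (.node .none (.word [2,1,0,1,3,5,2,3,1,0,1,2,4,3,6,1,5,1,2,0,1,6,3,0,1,2,3,0]))) (.node (.node (.word [1,0,3,2,6,1,2,5,1,6,3,0,1,0,2,1,3,5,6,4,2,3,2,1,0,1,6,3,4,0]) (.word [0,3,4,6,1,2,3,2,0,1,2,3,2,1,6,3,4,3,0])) (.word [1,0,1,3,6,1,2,3,0,1,0,1,0,4,3,2,3,5,1,2,3,4,0,1,2,3,0])))) (.node (.node (.node (.node .none (.word [2,4,3,5,1,2,1,6,0,1,5,2,3,4,5,6,1,2,3,2,0,1,6,5,2,1,2,3,2,4,3,2,3,1,2,3,0])) (.node .none (.word [0,1,2,1,6,1,0,1,2,3,4,2,3,6,5,1,2,3,6,5,1,6,0,1,2,0,1,6,3,4]))) (.node (.node .none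 (.word [2,3,2,6,1,2,3,2,1,6,3,2,0,3,4,3,6,1,0,1,6,2,3,1,2,3,4,1,2,3,0])) (.word [1,2,3,2,4,3,2,1,3,2,3,6,1,2,3,5,1,2,0,1,6,4,3,1,2,0,1]))) (.node (.node .none (.node .none (.word [1,2,4,6,1,2,3,5,1,2,0,1,6,1,0,2,1,3,5,2,1,6,4,1,2,1,0]))) (.node (.node (.word [1,4,5,1,0,1,6,5,2,1,0,6,1,2,3,2,4,3,1,2,1,0,1,5,6,4,2,3,2,1]) (.word [0,1,0,2,1,5,1,2,3,4,2,3,1,0,1,0,2,1,3,2,0,1,6,3,2,1,5,1,6])) (.word [0,1,3,5,1,0,1,2,1,5,3,2,1,3,4,3,2,6,1,3,2,3,2,1,6,2,3,4,3,2,0]))))) (.node (.node (.node .none (.node .none (.word [6,5,1,2,3,6,5,1,0,1,2,1,3,4,3,2,3,1,0,1,6,2,1,5,1,6,3]))) (.node (.node (.node (.word [0,2,6,1,2,3,6,5,1,2,1,2,1,4,5,6,1,3,2,3,4,1,2,3,2,1,6,2]) (.word [1,0,6,1,2,3,2,1,5,6,3,1,2,3,2,4,3,2,1,5,0,1,2,3,2,1,5])) .none) (.word [6,5,1,6,5,1,0,6,1,0,2,1,0,1,3,4,2,3,2,0,1,6,4,0,1,0]))) (.node (.node (.node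 (.node (.word [2,3,4,3,2,3,1,2,3,4,6,5,1,2,6,1,0,1,5,3,2,0,1,6,3,2]) (.word [0,1,5,6,1,5,6,2,1,3,2,4,3,1,6,2,1,5,6,3,4,2,3,1,2])) (.node (.word [1,2,3,4,2,3,2,1,0,1,0,2,1,3,6,5,1,2,1,0,1,6,2,3,4,2,1]) (.word [0,2,5,1,2,3,2,5,3,6,1,0,1,2,3,2,1,6,4,3,1,2,3,4]))) (.node (.word [0,5,1,6,5,1,2,3,2,1,5,3,2,0,2,4,3,6,1,0,1,2,1,5,6,3,2,1,5,3,2,0,1]) (.word [3,2,3,5,1,2,6,1,5,1,0,2,1,0,3,4,6,1,0,2,1,5,3,2,1,6,5,4,3,1,2]))) (.node (.node (.word [0,3,5,1,0,2,1,5,3,2,1,0,4,3,1,2,3,2,1,5,6,1,0,1]) (.word [5,1,0,1,2,1,0,3,2,1,5,4,0,2,3,6,1,4,3,2,3,2,1,0,1,6,4])) (.node (.word [1,0,4,5,1,0,1,2,3,4,5,1,0,6,1,6,2,3,1,2,0,1,5,0,1,6,2]) (.word [0,1,5,6,1,5,6,2,1,4,3,2,5,3,4,1,2])))))) (.node (.node (.node (.node (.node (.node .none (.word [2,3,2,1,4,3,5,2,3,6,1,0,1,0,1,6,1,2,3,4,1,2,3,2])) (.node .none (.word [0,1,2,3,2,4,1,0,1,2,6,1,2,3,5,4,1,0,1,2,3,2,1,6,4,1,2])))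 (.node (.node (.word [5,1,0,1,2,1,0,3,2,1,5,6,1,2,3,1,2,1,0,1,6,4,3,2,3]) (.word [2,4,3,5,1,2,1,6,0,1,5,2,3,4,6,5,1,0,2,1,6,3,2,3,1,2,3,2,1,5,0])) (.word [0,2,5,1,2,3,2,5,4,3,6,1,0,1,2,3,2,1,6,1,2,3,4,3]))) (.node (.node (.node (.word [4,3,5,1,2,3,1,5,2,0,1,4,3,2,3,4,5,1,2,3,2,1,5,3,4,2]) (.word [1,0,1,0,4,6,1,2,3,4,1,0,3,2,1,6,3,4,2,0,1,0,1])) (.node (.word [3,2,5,1,2,3,2,1,5,0,1,3,2,5,1,5,4,2,3,2,3,4,1,2,0,1]) (.word [3,2,1,0,1,2,3,2,4,3,1,0,1,0,2,1,0,3,4,6,1,2,3,2,1,0,1,6,3,4,3,2]))) (.node (.node .none (.word [4,3,2,1,6,5,1,6,2,3,4,1,0,2,1,3,6,1,2,3,2,1,5,1,6,2,3,2,1,0])) (.word [5,1,0,2,1,0,6,1,5,3,6,1,2,5,1,6,3,4,2,3,2,0,1,5,6,4,1])))) (.node (.node (.node (.node .none (.word [0,5,1,2,6,1,5,1,2,1,3,2,4,3,1,6,0,1,5,2,3,4,2,3,1,2])) (.node (.word [2,6,5,1,0,2,1,6,3,2,3,1,2,3,2,1,5,0]) (.word [0,2,1,4,3,2,5,6,1,2,3,0,1,2,0,3,4,5,1,6,2,1,5,3,2,1,6,0,1,0,1])))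 (.node (.word [0,2,1,4,5,0,1,2,0,1,3,2,4,3,6,1,2,6,4,3,2,1,5,0,1,6,3,4]) (.word [0,3,6,1,2,3,5,1,6,2,4,5,1,6,1,3,2,3,2,1,6,5,1,6,4,2,3]))) (.node (.node (.node .none (.word [2,1,3,2,5,1,2,3,0,1,2,3,4,2,3,2,1,0,1,5,0,1])) (.node (.word [4,5,1,6,1,0,2,3,2,1,6,1,0,6,1,5,1,2,3,2,1,6,1,5,4]) (.word [1,0,1,2,1,3,4,2,3,2,0,3,2,1,5,6,1,2,3,0,1,0,1]))) (.node (.node .none (.word [0,1,0,5,1,2,3,2,5,4,6,1,0,1,2,6,3,4,2,3,1,2,3,4,3,2,1])) .none)))) (.node (.node (.node (.node (.node .none (.word [1,0,1,2,5,4,1,0,3,4,3,2,3,1,6,2,1,0,1,6,3,4,3,0])) (.word [3,6,1,5,1,2,1,6,3,0,1,2,4,3,6,5,1,0,1,2,0,1,5,1,6,3,1,2])) (.node (.node .none (.word [0,1,4,5,1,2,3,2,1,2,0,1,5,2,3,4,6,1,5,1,2,3,2,3,1,2,3,2,1,5,1,6,4,3,2])) .none)) (.node (.node .none (.word [0,2,1,0,4,3,5,1,2,3,2,4,6,1,0,1,6,1,2,3,4,2,1])) (.node (.node (.word [1,2,3,4,2,3,2,1,0,4,6,1,0,2,1,2,3,2,1,5,6,3,2,1,5])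 (.word [1,0,1,2,3,2,5,3,4,3,1,2,6,1,5,2,1,0,1,6,3,2,3,4])) (.word [2,3,4,6,1,2,3,5,1,2,1,5,3,2,1,6,4,2,3,2])))) (.node (.node (.node (.node (.word [1,0,4,3,2,6,1,2,3,4,2,3,2,1,0,1,6,2,0,1]) (.word [3,2,3,2,6,1,5,6,1,2,1,0,1,3,4,6,1,2,3,4,2,3,1,2,3,1])) (.node .none (.word [0,6,1,0,2,1,0,3,5,1,6,4,1,6,1,2,3,4,1,5,2,1,6,5,1,6,2]))) (.node (.node (.word [0,1,2,6,5,1,2,3,2,1,6,4,0,1,2,3,2,1,5,6,1,0]) (.word [0,1,0,1,4,5,1,2,3,4,1,0,1,2,3,6,5,1,2,0,1,5,1,2])) .none)) (.node (.node (.node .none (.word [0,3,5,1,2,1,5,3,6,5,1,2,3,6,4,3,2,1,6,3,2,1,5,3,4])) (.node (.word [0,1,0,4,3,2,1,5,0,3,4,6,1,2,3,2,1,5,0,1,6,5,4]) (.word [2,1,3,2,3,6,5,1,2,1,6,4,3,2,3,6,1,5,1,6,4,2,3,1,0,1,2,0]))) (.node (.node .none (.word [1,0,3,2,1,4,3,6,4,2,3,0,1,2,0,1,5,6,1])) (.word [3,6,1,0,2,1,0,1,6,3,2,3,4,3,5,1,6,1,2,3,5,4,2,3,2,1,6,5,1])))))))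

/-- A subtree. -/
def sub53 : WTree :=
  (.node (.node (.node (.node (.node (.node (.node (.word [3,5,6,1,0,5,1,6,2,3,2,1,6,3,4,3,2,3,1,2,3,4,0,1,2]) (.word [4,6,1,2,3,2,4,5,1,2,0,1,6,0,1,2,1,5,6,3,2,1,5,4,2,3,1,2,1])) .none) (.word [1,2,4,6,1,2,3,5,0,1,2,0,1,5,1,6,3,4,2,1])) (.node (.node (.node .none (.word [4,5,1,0,2,3,6,1,2,6,5,4,3,0,1,0,1,2,6,3,2,1,5,6,2,1,5,4,2])) (.node .none (.word [2,1,3,2,5,1,2,3,0,1,2,0,4,3,2,1,3,4,6,5,1,6,2,1,0,1,5,1,2]))) (.node (.node .none (.word [0,3,2,1,6,1,2,5,1,5,6,4,3,2,1,5,3,0,1,2,3])) .none))) (.node (.node (.node (.node (.word [3,2,3,2,1,5,3,2,4,6,1,2,3,0,1,2,3,4,3,2,3,1,2]) (.word [1,3,2,1,3,2,6,1,5,1,6,3,4,1,0,2,1,0,1,5,3,4,0,1,2,3,2,1,0,1,2])) (.word [0,1,2,3,2,4,1,0,1,6,5,1,2,3,0,1,6,4,3,2,3,1,2,3,0,1])) (.node (.node (.word [1,2,1,3,4,5,1,0,3,1,2,3,4,0,2,1,3,6,5,1,2,3,2,1,0,1,6,4,2,1])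 (.word [2,3,6,1,0,1,5,1,6,2,3,4,1,0,3,6,1,5,2,0,1,6,5,3,4,1,2])) (.word [0,5,1,2,6,1,5,1,3,4,3,2,3,6,1,5,6,1,2,1,0,1,5,3,0,1]))) (.node (.node (.node (.word [1,0,1,3,4,3,5,2,3,2,1,0,3,2,4,3,2,1,5,2,3,4,1,2,0,1,0]) (.word [1,3,2,1,0,1,6,3,1,4,3,2,3,1,2,1,0,1,5,1,2,1])) (.node (.word [1,2,3,5,6,1,2,5,1,6,3,2,1,2,4,6,5,1,2,6,3,2,1,5,6,2]) (.word [2,1,0,4,3,5,2,3,1,0,1,2,5,6,1,2,3,5,1,4,2,3,2,1,6,3,4,1,0,1,0]))) (.word [2,3,2,1,4,3,2,3,5,1,2,3,2,5,1,6,2,1,5,3,1,2,3,4,3,2])))) (.node (.node (.node (.node (.word [6,5,1,6,2,3,4,2,3,2,1,5,3,0,1,5,6,1,5,6,0,2,3,4,3,2,3,1,0,1,6,2,1,5,4,2,3,1,2]) (.node (.word [3,6,5,1,2,6,1,5,3,0,2,3,4,3,6,1,5,2,3,2,1,6,4,2,3,0,1,2]) (.word [2,4,3,2,6,1,5,6,1,2,0,1,0,1,6,3,4,2]))) (.word [2,3,6,1,5,6,1,2,5,1,6,3,4,1,3,5,6,1,0,6,2,1,5,6,1,5,3,2])) (.node (.node (.word [1,3,5,2,3,1,4,3,2,6,1,2,3,2,5,1,6,2,1,5,2,1,6,2])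 (.node (.word [6,5,1,6,5,1,2,3,4,6,1,2,3,1,6,2,3,4,3,1,2,3,1,2]) (.word [1,2,3,2,1,4,0,1,3,2,6,1,0,1,2,3,4,1,2,3,2,1,6,1]))) .none)) (.node (.node (.node (.node .none (.word [1,0,1,3,6,1,2,3,0,1,0,4,3,2,1,3,6,2,3,1,2,1,0,1,5,1,6])) (.node .none (.word [2,5,6,1,2,3,2,0,1,6,5,2,1,2,3,2,4,3,2,3,1,2,3,0]))) .none) (.node (.node (.node (.word [3,2,1,0,1,0,5,1,2,3,2,4,3,2,1,5,0,1,0,1,5,4]) (.word [3,6,1,2,5,1,0,6,1,2,3,2,3,6,1,4,3,2,3,2,1,0,1,6,4,0])) (.node (.word [2,6,1,2,3,2,0,1,6,2,1,4,3,6,1,2,3,5,1,0,1,2,3,2,1,6,4,2]) (.word [2,3,2,1,5,1,2,3,4,2,0,1,2,3,2,6,1,0,1,5,2,1,0,1,6,4,2,3,2,1]))) (.node (.node (.word [5,1,0,2,6,1,5,6,3,4,3,6,1,2,3,4,2,3,1,2,0,1,6,1,0]) (.word [3,6,1,0,2,1,0,1,6,3,2,3,4,3,1,0,1,2,5,1,6,4,3,2,1,5,2,1,6,3])) .none))))) (.node (.node (.node (.node (.node (.node .none (.word [0,2,1,0,4,5,1,2,3,2,3,1,6,1,2,3,4,3,1,2,3,2,1,6,4]))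 (.word [1,2,3,2,1,4,0,1,2,0,3,2,1,4,3,5,0,1,2,0,1,5,6,4,1,0,1])) (.word [3,5,1,6,1,5,1,6,2,3,1,4,3,2,3,4,2,3,1,2,3,0,1,0,1,2])) (.node (.node (.node .none (.word [0,1,2,3,2,4,3,2,3,1,5,1,0,1,0,1,2,3,2,1,6,2,3,1,2,3,4,0])) (.node (.word [2,3,2,1,5,1,2,3,4,3,5,0,1,0,1,6,2,1,5,2,3,4,2]) (.word [0,2,6,1,5,6,3,4,5,6,1,2,3,2,1,6,2,3,4,2,3,2,0]))) (.node (.node (.word [0,4,3,2,6,1,5,6,1,2,3,4,1,2,1,0,3,1,2,1,4,3,2,1,0,1,5,4,0,1]) (.word [3,5,6,1,0,5,1,6,2,3,1,0,1,2,1,4,3,6,1,2,1,5,1,6,3,1,2,3,2,1])) (.word [2,1,0,1,3,5,2,3,1,0,1,4,3,6,1,0,1,2,1,5,6,3,1,0,1,2])))) (.node (.node (.node (.node (.word [2,3,6,1,0,1,5,1,6,2,3,4,1,5,6,1,2,3,2,1,6,0,1,5,3,4,2,1]) (.word [1,0,1,6,1,2,3,2,1,0,1,2,0,3,2,4,3,1,5,2,1,0,1,5,3,4,1])) (.word [0,6,1,0,2,1,0,3,5,1,6,4,2,3,4,6,5,1,2,1,6,3,2,1,5,4,1])) (.node (.word [3,2,1,0,1,2,3,2,4,3,1,4,6,2,3,2,3,1,2,0,1,6,1,2,3])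 (.word [3,2,1,0,6,1,2,1,5,6,3,1,2,1,0,5,1,6,4,2,3,1,2,3,1,2,3]))) (.node (.node (.node .none (.word [4,6,1,2,3,2,4,5,1,2,0,1,6,0,1,2,3,6,1,2,5,3,2,1,6,5,1,6,4])) (.node (.word [0,3,2,1,6,1,5,1,2,1,6,3,0,2,1,0,1,5,2,1,6,4,3,2,1,5,3,0]) (.word [4,3,2,1,3,2,3,1,5,0,1,2,1,6,1,0,1,2,3,5,2,1,6,2,1,5,4,2]))) (.node (.word [2,1,3,2,1,3,2,3,1,2,0,2,4,6,1,2,3,6,1,5,1,2,3,0,1,2,3,0]) (.word [0,1,0,3,2,1,6,3,1,0,1,0,4,3,2,1,3,2,3,0,1,2,3,4,2,3,2,3,1,0]))))) (.node (.node (.node (.node (.word [1,3,2,4,3,2,1,0,1,5,0,1,2,6,1,2,3,4,5,2,0,1,6,2,3,2,3,4,1,2]) (.node (.word [0,4,3,2,1,5,1,2,3,4,1,2,3,6,1,2,5,4,3,1,2,0,1,6,1,0,1,2]) (.word [3,2,3,2,1,0,1,2,4,3,2,3,2,4,3,6,1,2,1,0,1,6,1,5,1,2,3,2]))) (.node (.node (.word [0,1,0,1,4,5,1,2,3,4,2,1,3,2,5,6,1,5,6,1,2,3,4,1,2,3,2,3]) (.word [2,4,3,2,1,0,1,2,3,4,1,3,5,2,3,2,1,0,1,5,2,3,4,1,0]))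 (.word [0,1,2,4,3,2,1,3,2,6,1,0,1,6,5,1,2,3,2,1,5,6,3,4]))) (.node (.node .none (.node (.word [3,2,5,1,2,3,2,1,5,1,2,4,6,1,2,3,5,6,1,5,4,2,3,0,1,2,3,0]) (.word [0,1,0,2,3,5,1,2,1,5,3,4,0,2,3,6,1,2,0,1,6,2,3,0,1,2]))) (.node (.node (.word [0,1,0,1,0,2,3,6,1,0,4,3,2,1,5,3,2,1,6,0]) (.word [2,3,2,6,1,2,3,2,1,6,3,2,1,3,2,4,3,2,1,5,6,1,5,3,2,1,0,1,6,2])) .none))) (.node (.node (.word [3,5,6,1,5,6,1,0,2,1,5,6,3,1,2,1,3,2,4,3,6,5,1,6,2,3,4,1,2,3,1,2]) (.node (.word [0,4,3,2,6,1,5,6,1,2,3,4,2,3,2,1,6,5,1,6,2,3,2,0]) (.word [0,2,6,1,2,3,6,5,1,2,4,6,1,5,0,1,6,2,3,4,1,2,1,0,1,0]))) (.node (.node (.node .none (.word [0,1,0,4,3,2,3,5,1,2,5,3,4,3,2,1,3,2,6,4,3,2,1,0,1])) .none) (.node (.node .none (.word [0,1,2,1,0,3,2,6,1,5,0,1,3,4,3,2,5,1,6,2,3,2,1,5,2,3,4,2,3,2])) (.word [2,3,2,1,4,3,2,3,5,1,2,3,6,1,0,6,1,5,2,1,0,1,6,4,2,3,2])))))))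

/-- A subtree. -/
def sub54 : WTree :=
  (.node (.node sub50 sub51) (.node sub52 sub53))

/-- A subtree. -/
def sub55 : WTree :=
  (.node (.node (.node (.node (.node (.node (.node (.word [3,6,5,1,2,6,1,5,3,2,1,0,1,5,1,6,4,1,2,3,2,3]) (.word [2,1,3,2,5,1,6,1,2,3,0,4,5,1,6,3,0,1,2,0,1,6,5,3,1,2])) (.node .none (.word [4,6,1,2,3,2,4,5,1,2,0,1,6,0,2,1,3,2,5,1,2,3,4,0,1,2,0]))) (.node (.node (.word [0,3,2,1,6,1,5,1,2,1,6,3,1,4,5,1,6,1,2,3,2,1,6,5,4,3,1,2,3,0]) (.word [0,1,2,3,2,4,1,2,5,1,6,1,2,3,2,1,5,6,4,2])) (.word [0,1,0,1,2,4,3,2,3,1,2,0,1,3,4,6,1,2,3,2,1,5,0,1,2,0,1,6,1,5,1]))) (.node (.node (.node (.word [0,1,2,1,6,5,1,0,2,3,1,2,3,4,0,5,1,2,3,1,2,0,1,5,6,1,2,0]) (.word [5,1,0,1,2,3,5,4,3,2,6,1,5,2,3,4,2,3,2,1,6,5,4])) (.word [3,5,6,1,0,5,1,6,2,3,0,1,5,0,1,2,3,4,3,2,3,1,2,3,0])) (.node (.node .none (.word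 [1,2,3,4,2,3,2,0,1,3,2,6,1,5,0,1,2,3,4,2,0,1,0,1])) .none))) (.node (.node (.node (.word [1,2,3,5,1,2,3,4,0,1,2,0,3,2,6,1,2,0,1,6,3,2,3,4,3,2,0,1]) (.node .none (.word [0,2,1,0,1,2,4,3,2,3,0,4,6,1,2,3,2,1,5,1,6,2,3,4,3,1,2,1]))) (.node (.node (.word [3,5,6,1,2,1,6,1,5,3,2,4,6,1,2,3,5,2,3,4,1,2,3,2,1,6,1,5,3]) (.word [1,3,2,1,4,3,2,3,4,1,5,6,1,0,2,1,5,3,2,1,6,5,2,1])) (.word [5,1,0,2,6,1,5,6,3,4,2,1,0,3,2,4,3,6,2,1,6,5,2,3,4,1,2,3,1,2]))) (.node (.node (.node .none (.word [0,1,0,1,4,5,1,2,3,4,2,6,1,5,1,2,6,3,2,1,0,1,6,1,5,2])) (.node (.word [3,6,1,2,5,1,5,6,3,0,1,4,6,0,1,2,3,2,1,5,0,1,2,0]) (.word [1,2,6,5,1,2,3,2,4,3,2,1,6,4,2,3,1,0,1,2,3,4,1,2,0,1]))) (.node (.word [5,1,0,1,2,3,5,4,2,3,6,5,1,2,4,3,1,2,0,1,6,2,1,5,4]) (.word [0,2,1,4,5,0,1,3,4,6,1,2,3,1,2,1,0,1,6,3,4,2,3,1,2]))))) (.node (.node (.node (.node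 (.node .none (.word [0,1,2,3,2,4,1,4,6,1,2,3,2,1,5,4,3,2,0,1,6,0,1,2,3,4])) (.node (.word [1,3,6,1,0,1,2,0,1,6,3,1,0,4,3,2,1,6,2,3,1,0,1,2,3,0]) (.word [1,2,3,4,6,1,5,1,2,1,6,5,3,2,1,2,4,6,1,2,5,1,0,3,2,1,6,5,2,3,4]))) (.node (.node (.word [0,1,5,6,1,5,6,1,4,6,1,0,2,1,3,4,2,3,1,2,0,1,5,2,0,1,6]) (.word [2,1,6,5,1,6,2,1,0,1,3,2,6,1,5,4,3,1,2,1,0,1,6,3,0])) .none)) (.node (.node (.word [1,5,1,0,2,3,4,1,5,1,6,1,2,3,2,1,0,1,5,4,1,0]) (.node (.word [6,5,1,6,2,3,4,2,3,2,1,5,2,3,4,5,1,2,3,1,2,3,1,2,0,1,5,2]) (.word [3,6,5,1,6,5,1,2,3,2,4,3,6,1,0,1,5,2,0,1,6,5,3,1,2]))) .none)) (.node (.node (.node (.node .none (.word [1,2,1,3,2,5,6,1,2,3,2,6,3,2,1,0,1,3,2,4,5,3,2,1,6,1,5,4,2,3,1,2])) (.node .none (.word [1,0,2,3,4,5,3,6,1,0,2,1,5,4,3,1,2,0,1,6,4,2,1]))) (.node (.node .none (.word [1,0,1,3,2,4,3,2,3,1,0,1,4,3,6,1,0,1,2,0,1,5,3,2,1,6]))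 (.word [0,5,1,2,3,2,1,6,3,2,3,1,2,0,1,5,6,2]))) (.node (.node (.node .none (.word [1,5,1,0,2,3,4,1,0,5,6,1,0,2,1,3,6,5,2,1,6,4,2,0,1,0])) (.node .none (.word [3,2,3,0,1,0,4,6,1,2,3,2,0,1,6,4,0,1,2,3,0]))) (.node .none (.word [1,4,5,1,0,2,1,3,2,4,3,5,1,0,2,1,0,1,5,3,4,1,0])))))) (.node (.node (.node (.node (.node (.node (.word [3,2,1,5,6,1,2,6,5,3,4,5,1,0,2,1,6,3,2,1,5,4,1,2,3]) (.word [0,1,2,3,2,4,0,1,2,3,2,1,6,4,3,2,3,1,2,3,0,1,0])) (.node (.word [2,3,4,3,2,3,1,2,3,4,3,2,0,3,4,6,1,2,3,0,1,6,2,3,4,1,2,0,1]) (.word [1,2,4,3,2,1,6,1,0,1,6,4,2,1,3,2,1,5,2,3,4,0,1,2,0]))) (.node (.word [0,2,1,0,3,2,6,1,2,3,0,6,5,1,6,2,1,0,1,3,4,3,2,3,4,1,2,0,1]) (.word [3,2,1,5,6,1,2,6,5,3,2,5,1,2,6,3,4,2,3,2,1,6,5,4,1,2,3]))) (.node (.node .none (.node (.word [4,3,2,3,4,5,2,3,1,2,0,1,5,3,2,0,3,4,6,1,2,3,2,0,1,2,3,2,1,6,3,4,3,0])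 (.word [1,3,2,3,5,1,2,6,5,1,0,1,5,6,4,3,4,3,2,1,5,2,3,2,1,5,3,4,3,2,0]))) .none)) (.node (.node (.node (.word [3,2,3,2,6,1,5,6,1,2,0,1,2,3,6,2,1,0,1,6,4,3,2,3,0,1]) (.node (.word [1,0,1,5,6,1,2,3,2,4,3,2,3,6,5,1,0,1,6,2,1,5,2,3,2]) (.word [3,5,1,6,1,5,1,6,2,3,0,4,3,5,1,5,2,3,1,2,1,0,1,0]))) (.node (.node .none (.word [1,2,6,5,1,2,3,6,5,2,1,6,4,0,3,4,3,6,1,2,5,1,6,3,2,1,0,1,6,4,0,1])) .none)) (.node (.node (.word [4,3,2,5,1,0,1,2,6,1,5,4,0,1,2,3,2,4,3,2,1,2,1,5,1,0,2,1,6,3,2,1,0,1]) (.node (.word [4,3,6,5,1,0,6,2,1,5,0,2,1,0,3,6,1,2,3,2,1,5,4,2,3,2,0,1]) (.word [1,0,1,0,4,6,1,2,3,4,0,2,4,6,1,2,3,5,4,2,3,2,1,0,1,6,5,2]))) (.word [1,3,5,2,3,1,2,1,0,3,2,4,5,1,6,0,1,2,3,4,2,3,1,0,1,2])))) (.node (.node (.node (.node (.node .none (.word [0,1,2,1,6,1,0,2,1,2,3,4,2,3,1,2,1,6,5,1,6,2,1,0,2,1,3,2,3,4,2,1,0,1,0])) (.word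 [1,0,1,2,3,2,5,3,4,3,1,2,4,6,1,5,1,2,3,2,1,6,3,4,3])) (.node (.word [3,6,5,1,6,5,1,2,3,2,1,0,1,3,2,5,3,4,2,3,2,3,1,2,3,2]) (.word [0,3,5,1,2,6,1,5,3,0,4,3,2,5,6,1,0,1,2,3,2,1,5,6,4,3,2,3]))) (.node (.node (.node .none (.word [3,5,1,2,6,3,4,2,3,2,1,5,6,1,0,1,2,1,3,4,2,3,2,1,4,6,5,1,6,5,1,2,3,2,3,1,2,3])) (.node (.word [1,3,5,2,3,1,2,4,3,6,1,0,1,6,5,2,1,6,2,3,4,2,3,2,3]) (.word [3,2,1,3,2,4,3,2,1,3,4,3,5,1,6,2,3,2,1,5,4,3,0]))) (.node (.node (.word [4,3,2,1,0,1,2,3,4,2,1,3,4,6,5,1,0,1,2,3,2,1,5,6,1,2,3]) (.word [4,3,5,1,2,3,1,5,2,0,1,0,2,3,5,1,0,2,1,0,1,6,1,5,2,3,4,2])) (.word [0,1,2,1,6,5,1,0,2,3,1,2,3,4,1,2,1,3,2,4,3,6,1,0,1,5,6,2,3,4,1,2,3,1,2])))) (.node (.node (.word [2,4,6,1,2,5,6,1,2,3,2,1,6,5,1,0,3,2,1,4,3,5,1,2,0,1,5,3,2,3,4,2,1]) (.node (.node (.word [3,2,3,2,1,4,5,0,1,2,0,2,1,4,3,2,1,3,2,0,1,6,4,3,2,1,0,1])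 (.word [0,1,0,2,1,3,2,3,2,4,1,0,1,2,1,3,2,6,1,5,3,2,1,6,1,2,3,1,2,0])) .none)) (.node (.node (.node .none (.word [3,4,6,1,2,3,2,1,0,1,6,1,2,0,3,2,4,3,5,1,6,2,1,0,1,5,3,4,1])) .none) (.node (.node (.word [3,5,1,0,1,2,5,3,0,1,6,1,2,3,5,1,2,5,4,3,2,1,0,1,6,3,4,1]) (.word [2,3,2,6,1,2,3,5,1,0,1,5,2,1,6,3,2])) (.word [1,0,1,3,5,1,0,2,1,6,2,3,1,2,1,3,2,3,4,3,1,2,3,1,2,0,1])))))))

/-- A subtree. -/
def sub56 : WTree :=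
  (.node (.node (.node (.node (.node (.node (.node (.word [3,2,6,1,5,6,1,2,1,6,3,0,1,2,1,0,4,5,3,1,0,1,2,3,4,3,1,2,3,0]) (.word [2,3,2,1,4,3,2,3,5,1,2,4,3,2,1,0,1,2,3,2,6,5,4,3,2,3,1,0,1,2,3,1])) (.node (.word [0,2,1,0,1,2,4,3,2,3,1,4,5,1,2,3,2,1,6,3,2,3,4,1,0,1]) (.word [0,1,2,3,2,4,1,0,1,6,5,1,2,3,0,1,5,1,2,0,1,6,4,0,1,2]))) (.node (.node (.word [3,2,6,5,1,6,5,1,6,2,3,2,3,2,4,3,2,1,0,5,1,6,2,1,5,3,1,2,3]) (.word [1,0,2,5,1,2,6,5,1,2,3,4,2,3,2,1,6,3,1])) .none)) (.node (.node .none (.word [0,1,0,2,1,5,1,2,3,4,2,3,1,0,1,4,5,1,2,6,3,2,1,5,6,4,2,3,1])) (.node (.node (.word [0,2,1,3,6,5,1,0,2,3,4,1,2,1,0,2,1,3,5,2,1,6,4,3,0,1,2,1,0]) (.word [3,4,3,2,1,3,5,1,0,1,2,3,0,1,5,6,1,5,6,2,3,4,2,1,5,3,2,3,4,1,2,3,2])) (.word [2,6,1,2,3,2,0,1,6,2,0,4,5,1,2,3,1,2,1,0,1,5,4,0,1,0])))) (.node (.node (.node (.node (.word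 [3,2,1,3,5,1,2,6,1,5,1,2,3,5,2,1,6,3,2,1,5,3,4,3,2,3]) (.word [3,5,1,0,1,0,5,1,2,3,2,4,5,1,6,5,2,3,2,1,6,3,2,3,1,0,1,0])) (.node .none (.word [2,3,6,5,1,0,1,2,6,1,5,3,2,4,3,5,1,2,6,1,4,3,2,3,2,1,6,5,2,3,4]))) (.node (.node .none (.word [1,0,2,3,4,6,1,2,5,1,6,3,2,1,6,5,1,2,6,3,2,0,1,0,1,5,2,3,4,0])) .none)) (.node (.node (.node (.word [0,2,3,6,1,5,6,1,2,3,2,0,6,1,2,3,4,5,3,1,2,3,2,1,6,4,0]) (.word [0,2,5,1,2,3,2,5,3,0,1,0,1,2,1,6,5,4,3,2,1,0,1,6,4,0])) (.word [0,2,5,1,2,3,2,5,3,1,2,1,4,5,6,1,5,6,3,2,1,5,6,4,2,1])) (.node (.node (.word [0,3,2,1,0,1,3,2,5,4,3,2,1,6,5,4,3,1,2,1,0,1,6,3,0]) (.word [0,6,1,2,3,5,1,2,0,1,6,3,4,3,2,0,1,0,1,0])) (.word [1,3,5,1,2,3,1,2,1,3,2,4,3,2,6,3,2,1,5,1,2,3,4,2,3,1,2]))))) (.node (.node (.node (.node (.node (.word [3,5,1,2,6,1,5,6,3,0,1,2,1,6,4,3,2,1,5,0,1,2]) (.word [0,1,5,6,1,5,6,2,1,4,3,2,5,3,4,1,2,3,5,1,2,6,3,4,2,3,2,1,5,6]))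 (.node (.word [1,0,2,3,2,5,1,0,1,2,1,0,1,3,4,6,5,1,2,3,2,1,6,2,0,1,5,3]) (.word [0,3,5,1,0,6,1,2,1,5,3,0,1,2,3,6,4,3,2,3,2,1,6,0,1]))) (.node (.node (.word [1,0,1,3,2,3,2,4,3,1,0,2,3,6,1,5,6,2,1,5,2,0,1,6,3,4,2,1,0]) (.word [1,3,2,1,0,1,0,3,2,6,4,1,2,1,3,2,1,0,1,6,4,3,2,1,5,1,6])) (.word [0,2,1,4,3,2,5,6,1,2,3,0,3,2,4,3,5,2,1,6,5,3,2,3,4,3,1,2,0]))) (.node (.node (.node (.word [2,1,0,1,2,5,1,0,3,1,2,3,4,1,3,6,5,1,6,2,1,0,1,6,3,2,1,5,1,0]) (.word [0,1,2,1,4,3,2,6,1,5,1,6,2,1,5,6,3,1,2,0,1,6,4,0])) (.node (.word [2,1,3,2,4,3,2,1,3,4,2,3,1,0,1,2,3,0,1,2]) (.word [2,3,2,6,1,2,3,2,1,6,4,3,2,1,3,2,0,1,5,4,3,0,1,2,0]))) (.word [0,3,5,1,0,2,6,1,5,3,0,4,5,1,0,2,1,3,4,2,3,2,1,5,0]))) (.node (.node (.node (.node (.word [1,3,5,1,2,3,1,2,4,3,6,5,1,2,0,1,6,1,5,1,6,3,2]) (.word [2,3,2,1,6,5,1,6,3,2,1,3,2,4,3,1,0,1,5,2,3,2,1,0,1,0]))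 (.node (.word [1,2,1,0,4,3,1,5,2,0,6,1,2,3,2,4,3,2,1,5,0,1,6,3,2,0,1]) (.word [0,3,2,1,0,1,3,2,5,4,3,2,1,3,5,2,1,6,4,3,1,2,3,4,3,0]))) (.node (.node (.word [0,4,3,2,1,5,1,2,3,4,1,0,1,3,2,3,6,2,1,6,5,1,6,4,3]) (.word [5,6,1,0,1,2,1,5,1,6,2,3,4,0,2,1,3,6,5,1,2,3,4,2,3,1,2,1])) .none)) (.node (.node .none (.node .none (.word [0,1,2,3,2,4,1,0,2,3,5,1,6,1,2,3,1,0,1,2,0,1,5,6,3,4,2]))) .none)))) (.node (.node (.node (.node (.node (.word [6,5,1,6,2,3,4,2,3,2,1,5,3]) (.node (.word [1,0,1,3,2,3,2,4,3,1,0,1,2,3,6,5,2,3,1,2,0,1,6,5,4,2,1,0]) (.word [2,1,0,4,3,2,6,1,6,3,4,2,0,1,2,5,1,2,0,1,6,3,2,3,1,2,3,0,1,0]))) (.node (.word [1,2,6,5,1,2,3,2,4,3,2,1,6,3,1,2,4,3,2,1,5,3,4,1,2,3,2,1,0,1]) (.word [2,3,4,3,2,3,1,2,3,4,3,2,0,1,6,1,2,3,4,2,3,1,2,1,0,1,6]))) (.node (.node .none (.node (.word [2,6,1,2,3,5,2,1,6,1,5,3,4,3,2,1,6,3,1,2,1,0,1,6,3,4,3,1,2])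 (.word [3,6,5,1,2,6,1,5,3,2,3,4,3,2,1,3,4,2,3,2,1,5,4,3,2,3,1]))) .none)) (.node (.node (.node (.word [2,3,2,1,6,5,1,6,3,2,3,4,3,2,3,6,1,5,6,2,1,5,2,1,0,1,2,3]) (.node (.word [1,0,1,0,4,6,1,2,3,4,0,1,2,3,6,1,0,1,5,2,1,0,1,5,6,4,2,3,2,1]) (.word [0,2,6,1,2,3,4,5,6,1,2,3,2,1,5,1,6,1,0,2,1,5,4,2,3,2,1,6,4,2]))) (.word [0,4,3,2,3,5,1,2,0,1,5,2,0,3,4,3,5,1,2,1,5,3,4,2,3])) (.node (.node (.node (.word [0,5,1,2,6,1,5,1,0,1,3,4,3,2,3,1,5,2,1,6,4,3,1,2,3,4,0]) (.word [0,2,6,1,2,3,6,5,1,2,0,4,3,6,1,2,5,6,3,4,1,2,3,2,1,5])) (.node .none (.word [0,2,1,4,3,2,3,6,1,2,3,0,5,6,1,0,1,6,2,1,5,4,3,2,1,6,1,0]))) (.node (.node .none (.word [3,5,1,2,6,3,4,2,3,2,1,5,6,3,2,1,0,4,3,2,1,2,3,4,2,3,0,1,2,3,0])) .none)))) (.node (.node (.node (.node .none (.node (.word [2,1,5,1,2,3,6,1,0,2,1,4,3,2,1,6,3,0,1,2,3,4,2]) (.word [1,0,4,5,1,0,1,2,3,4,1,0,1,2,1,3,2,0,1,5,2,1])))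 (.node (.node .none (.word [2,1,3,2,1,3,2,3,1,4,5,1,2,3,2,1,5,4,3,0,1,0])) (.word [1,0,1,0,4,6,2,1,0,1,5,2,3,4,2,3,2,1]))) (.node (.node (.node (.word [1,4,3,6,5,1,2,0,1,6,3,6,5,2,3,1,2,0,1,5,6,3,4,1]) (.word [1,3,2,1,0,1,0,3,2,6,4,3,5,1,2,0,1,6,2,3,1,0,1])) (.node (.word [0,1,3,2,3,5,1,0,1,2,1,5,0,3,4,5,1,6,1,0,2,1,5,2,3,2,1,6,0,1,5,3]) (.word [3,4,6,1,0,1,0,2,6,3,1,2,0,1,5,1,6,1,2,3]))) (.word [3,2,3,2,1,5,1,2,0,2,1,4,3,2,3,2,1,5,4,1,2,3,2,3,1]))) (.node (.node (.node .none (.node .none (.word [0,4,3,2,6,1,5,6,1,2,3,4,0,2,3,6,1,2,5,3,0,1,2,0,1,6,3,2,0]))) (.node (.node (.word [1,0,3,4,6,1,2,3,6,2,1,5,4,1,0,2,3,5,2,1,5,0,1,2,3,2,3,1,2]) (.word [1,0,1,2,1,3,4,2,3,2,1,0,1,0,1,2,3,2,4,3,2,1,3,6,1,0,1,6,1,2,0,1,6,3])) .none)) (.node (.node (.node (.word [0,1,6,5,1,2,6,1,5,4,3,2,1,6,5,3,4,1]) (.word [1,0,1,3,6,1,2,3,0,1,0,1,3,2,5,3,4,2,3,2,1,0,1,2,3,4]))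 (.word [2,4,3,5,6,1,0,2,5,1,6,3,4,6,1,2,5,1,6,2,3,4,2,3,2,1,6,2,1,5])) (.node (.node .none (.word [1,0,2,1,5,6,3,2,1,5,6,2,3,2,0,2,1,0,6,4,3,2,3,1,2,0,1,5,4])) (.word [0,5,1,0,2,1,3,2,1,0,6,1,2,6,4,3,1,2,1,0,1,5,6,3])))))))

/-- A subtree. -/
def sub57 : WTree :=
  (.node (.node (.node (.node (.node .none (.node (.node (.word [1,3,6,1,2,5,1,6,3,0,2,3,4,3,2,1,3,2,3,4,2,3,2]) (.word [6,5,1,6,2,3,4,2,3,2,1,5,3,0,2,4,3,5,1,2,1,5,3,1,4,3,2,0,1,6,2,1,5,3,2,3,1,2])) .none)) (.node (.node (.node (.word [4,3,6,5,1,2,6,1,0,2,3,1,2,3,4,3,2,3,2,1,5,2,0]) (.word [1,0,2,1,3,2,1,3,2,4,1,5,3,2,1,2,3,6,1,5,1,2,0,1,6,5,2,1,6,2,3,2])) (.node .none (.word [0,4,6,1,0,1,2,1,3,2,1,6,4,3,2,1,5,3,4,3,2,1,3,0,1,5,2,1,0,1,2]))) (.node .none (.word [2,1,5,6,1,2,3,1,6,5,2,1,6,0,4,3,2,1,5,6,2,3,1,0,1,2,3,0])))) (.node (.node (.node (.node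 .none (.word [0,1,2,1,4,6,1,0,2,3,1,2,3,4,1,0,2,1,3,2,1,6,3,2,0,1,5,3,4,0,1,2])) .none) (.node (.node (.word [1,2,3,4,2,3,2,1,2,4,5,1,0,2,3,2,1,5,1,6,3,2,3,2,1,0,1]) (.word [1,0,1,2,3,6,1,2,0,1,5,6,1,0,1,2,3,4,2,3,0,1,2,0,1,5,6,2,1])) .none)) (.node (.node (.word [0,2,1,0,3,2,5,1,5,2,3,1,4,3,2,1,5,3,1,2,0,1,5,4,3,2,3,4,2]) (.node (.word [2,3,4,6,5,1,2,3,2,1,0,1,2,3,2,1,5,6,4,2,3,2]) (.word [0,1,2,3,2,4,1,0,5,1,0,2,1,6,3,2,1,5,4,0]))) (.node (.node (.word [0,5,1,0,1,5,0,4,3,2,1,3,4,5,2,3,4,1,2,0,1]) (.word [3,4,3,2,3,2,1,0,1,2,3,0,1,2,1,3,2,4,3,6,2,1,5,6,3,4,1,2,3,1,2])) (.word [1,2,4,6,1,2,3,5,1,2,0,1,6,2,4,5,1,0,1,6,3,2,1,0,1,5,3,4,2]))))) (.node (.node (.node (.node (.word [6,1,0,2,3,2,1,5,6,1,2,3,2,1,6,4,3,2,3]) (.word [1,0,2,3,4,6,1,2,5,1,6,3,2,1,3,4,3,5,6,1,2,3,6,1,2,0,1,6,2,1,5,2])) (.node .none (.word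 [3,6,1,5,1,2,1,6,4,5,1,6,2,3,2,1,0,1,6,3,0]))) (.node (.node (.node .none (.word [0,2,3,6,1,5,6,1,2,3,2,1,5,6,1,0,2,1,2,3,4,2,3,2,1,6,2,3])) (.word [3,2,1,3,5,1,2,3,6,1,2,5,4,6,1,0,1,6,5,3,2,3,1,2,0,1,6,5,4])) (.node (.node .none (.word [1,0,2,1,4,3,2,3,4,3,1,0,2,3,6,5,1,0,1,2,3,2,1,6,2,1,5])) (.word [4,3,2,5,1,0,1,2,6,1,5,4,1,0,3,2,4,3,1,6,2,3,4,1,0,1])))) (.node (.node (.node (.node .none (.word [0,5,1,2,3,2,1,5,4,6,5,1,2,3,2,1,0,1,6,5,2,3])) .none) (.node (.node (.word [0,1,3,5,1,0,1,2,1,5,3,2,4,5,6,1,0,1,5,3,1,2,1,0,1,6,3,2]) (.word [1,2,1,3,4,3,2,3,5,4,1,2,1,0,1,2,3,5,2,1,5,6,4,3,2,1,5,3,0])) (.word [3,2,5,1,0,2,1,5,3,4,5,2,3,2,3,1,2,0,1,5,2,3]))) (.node (.node (.node .none (.word [2,4,3,2,1,5,6,1,2,3,2,0,1,6,5,4,1,0])) (.node (.word [1,3,5,1,6,1,2,3,0,1,6,1,2,1,5,3,4,3,0,1,2,3,0,1]) (.word [0,1,2,3,2,4,3,5,1,6,2,0,1,5,3,4,2,3,2,1,0])))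 .none)))) (.node (.node (.node (.node (.node .none (.node (.word [1,0,2,1,5,6,3,2,1,5,6,2,3,2,1,5,2,1,4,3,2,5,1,6,5,3,2,1,6,5,4,1,0]) (.word [4,3,2,1,0,1,2,3,4,2,1,0,1,4,5,1,6,3,2,1,5,3,4,0]))) (.node (.node (.word [2,3,6,5,1,0,1,2,6,1,5,3,2,0,1,2,3,5,2,1,6,1,5,4,3,2,3]) (.word [1,0,1,4,5,6,1,2,3,4,0,5,1,2,3,2,1,6,3,2,3,2,1,5,6,4,3])) (.word [5,1,2,3,2,6,5,1,6,5,2,3,1,2,0,1,2,3,5,1,0,2,1,5,3,4,2,3,2,3,4]))) (.node (.node (.word [0,4,3,5,1,0,6,1,2,0,1,5,4,3,2,6,5,1,6,3,2,1,5,6,4,3,2,3,4]) (.word [1,0,2,3,2,5,1,0,1,2,3,4,6,5,1,5,0,1,2,3,1,2,1,0,1,6,3])) (.node (.word [2,3,5,1,0,2,1,5,3,4,2,3,2,3,4]) (.word [4,3,2,3,5,1,0,2,1,0,1,5,4,3,5,1,2,3,1,2,0,1,6,0,1,5,0])))) (.node (.node (.node (.node (.word [0,2,5,1,2,3,2,5,3,2,1,4,3,2,6,1,3,2,1,6,5,4,3,2,1,6]) (.word [1,4,3,6,5,1,2,0,1,5,0,1,2,3,2,1,5,1,6,4,1])) .none)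 (.node (.node (.word [1,2,3,2,1,4,0,1,2,1,0,1,2,1,0,6,1,3,2,1,5,3,4,0,1,2,3,2,1]) (.word [3,5,1,2,6,1,5,6,3,2,1,5,6,1,2,3,4,1,0,1,2,3,2,1,5,6,1])) (.word [0,2,1,0,3,2,6,1,0,1,2,3,1,2,0,1,3,4,6,5,1,3,2,3,1,2,0,1,6,5,4]))) (.node (.node (.node (.word [3,2,5,1,2,3,2,6,1,5,2,3,4,3,2,3,1,6,5,2,1,6,3,4,3,2,0]) (.word [1,3,5,2,3,4,6,1,0,2,1,3,6,4,2,3,2,1,5,2,0,1,6,4,0])) .none) (.node (.node (.word [0,3,6,1,0,2,5,1,2,0,1,5,2,1,6,3,2,3,4,3,1,2,3]) (.word [0,2,3,6,1,5,6,1,2,3,4,5,1,6,1,2,5,1,2,3,2,0,1,5,6,4,2,1])) .none)))) (.node (.node (.node (.node (.node (.word [0,3,5,1,0,2,6,1,5,3,0,4,5,1,2,6,1,3,2,3,2,1,0,1,6,5,2,3]) (.word [2,1,0,1,3,5,2,3,1,0,3,4,3,2,6,1,2,3,2,1,5,0,1,6,5,4,3,2])) (.node .none (.word [0,3,5,1,0,6,1,2,1,5,3,0,1,6,1,2,3,4,1,5,6,1,5,2,3,0,1,2,3,4]))) (.node (.node .none (.word [1,0,1,3,2,3,2,4,3,1,0,1,0,2,3,2,1,6,0,1,2,3,4,0,1,2]))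 (.word [1,3,2,6,1,5,1,6,1,5,3,2,3,4,3,2,1,5,0,1,5,3,4,2,3,2]))) (.node (.node (.node (.word [3,6,1,5,1,2,1,6,3,4,3,2,1,0,1,5,2,3,1,0,1,2,3]) (.word [0,1,0,2,1,3,2,3,2,4,3,5,0,1,6,2,1,5,6,1,5,3])) (.node (.word [2,4,3,2,5,1,0,1,2,5,3,4,2,1,3,2,4,3,2,4,3,1,2,3,2,1,5,1,2,1]) (.word [6,5,1,6,5,1,2,1,3,2,4,3,6,1,5,1,2,3,4,3,2,3,1,2]))) (.node (.node (.word [1,3,2,6,5,1,0,6,1,2,3,2,3,2,4,3,2,1,0,1,0,2,1,3,2,3,4,2,1,0,1,0]) (.word [0,1,2,6,1,5,6,1,2,0,1,0,5,6,1,2,3,2,4,3,2,1,0,1,6,5,3,1,2,3])) (.word [3,6,5,1,2,6,1,5,4,3,5,6,1,0,2,3,4,1,2,3,2,0,1,5,6,4,2,3])))) (.node (.node (.node (.word [6,1,2,3,2,1,0,6,1,4,2,3,2,1,6,0,2,1,3,2,4,3,2,5,1,6,1,2,3,4,2,3,1,2,0]) (.word [3,2,3,0,2,4,6,5,1,0,1,6,3,2,3,2,1,0,1,5,0])) (.node (.word [1,0,2,3,5,1,4,5,1,6,2,3,1,2,0,1,5,1,6,4]) (.word [1,0,2,3,5,1,4,0,1,2,1,0,2,3,6,2,1,6,5,3,4,1,2,3,1,2,1])))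 (.node (.node (.word [3,2,1,3,2,4,3,2,1,0,4,5,1,6,1,2,3,2,0,1,5,6,4,3,2,3]) (.word [0,6,1,0,2,3,5,1,0,1,6,2,3,4,2,5,1,0,6,1,2,3,2,0,1,6,2,3,4,2,0])) (.word [2,1,0,1,0,2,3,2,1,5,4,3,2,3,2,1,6,4,2,3,1,0,1]))))))

/-- A subtree. -/
def sub58 : WTree :=
  (.node (.node (.node (.node (.node .none (.word [4,3,2,1,3,2,3,1,5,0,1,2,1,2,3,4,3,6,5,2,3,2,1,6,5,2,3,4,3,2])) (.node (.node (.node (.word [0,1,0,4,3,2,1,5,2,4,3,6,4,2,3,2,1,6,0,1,2,3,1]) (.word [0,1,2,4,3,5,6,2,1,5,1,0,1,2,5,1,5,3,2,0,1,6,4,2])) (.word [1,0,1,3,2,4,3,2,3,1,0,1,4,3,2,1,3,5,1,2,0,1,5,6,1,0,1])) (.node (.node (.word [0,4,3,5,1,0,2,1,5,3,4,0,4,5,1,2,3,2,1,6,4,3,2,1,5,6,3,4]) (.word [3,2,6,1,5,6,1,2,1,6,3,6,1,2,3,4,1,6,2,3,1,0,1,2,3,4,2])) .none))) (.node (.node (.word [0,1,2,3,2,4,1,3,5,1,2,3,4,2,3,1,2,0,1,5]) (.node (.node .none (.word [2,6,1,2,3,2,0,1,6,2,1,3,2,4,3,6,1,0,2,5,1,2,3,2,1,5,6,3,4,2,3]))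 .none)) (.node (.node .none (.word [6,5,1,6,2,3,4,2,3,2,1,5,3,0,6,1,0,2,1,0,3,5,1,6,4,1,6,1,2,3,4,1,5,2,1,6,5,1,6,2])) (.node (.node (.word [0,5,1,0,2,1,3,2,5,3,2,3,4,3,2,6,1,2,3,2,1,5,1,6,1,5,4,3,2]) (.word [0,2,1,3,2,6,5,1,2,3,0,3,2,4,3,2,1,5,1,6,3,4,2,3,1,2,0])) .none)))) (.node (.node (.node (.node (.node .none (.word [4,3,2,3,5,1,0,2,1,0,1,5,4,6,5,1,2,3,2,1,6,1,0,1,5,3,2,3])) (.node (.word [3,2,1,0,1,2,3,2,4,3,1,0,1,0,1,2,4,5,1,6,1,3,2,1,6,3,4,2,3]) (.word [0,1,0,5,1,2,3,2,5,4,3,2,4,3,2,1,5,2,3,1,2,3,1,2]))) (.node (.node .none (.word [1,3,2,1,0,1,6,3,1,0,2,6,1,5,1,2,3,4,2,3,2,1,5,6,2,1,5,3])) (.word [3,2,3,4,6,1,2,3,2,1,6,5,1,2,3,2,0,1,6]))) (.node (.node (.node (.word [5,1,0,2,1,0,6,4,3,2,3,1,2,0,1,5,4]) (.word [3,2,1,5,1,0,1,2,1,5,3,1,2,4,5,1,6,3,2,0,1,6,5,1,6])) (.node (.word [1,2,1,3,0,1,2,0,4,3,5,1,5,2,3,4,1,2,3,2,1,5,2,1])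 (.word [1,4,5,1,0,2,1,3,2,4,3,2,3,4,3,5,1,6,2,1,5,6,3,1,2,3,4,3,1,2]))) (.node (.node (.word [1,0,2,4,5,1,0,1,5,2,0,3,2,4,3,2,6,1,0,1,6,5,2,3,2,1,6,2,0,1]) (.word [3,4,3,2,1,0,3,1,2,3,2,1,0,1,6,1,3,4,2,3,2,1,0,1,6,2,0])) (.word [0,4,3,5,1,2,3,2,1,5,4,0,6,1,0,2,3,5,1,2,0,1,6,3,2,1,5,2,1])))) (.node (.node (.node (.word [0,1,2,1,0,3,2,6,1,5,0,1,3,4,3,2,5,1,6,3,2,0,1,0,1,5,3,4,3,2]) (.word [0,1,0,5,1,2,3,2,5,4,3,1,2,3,6,5,1,0,4,1,2,3,2,0,1,5,6,4,1,0])) (.node .none (.word [2,1,3,2,5,1,6,1,4,5,1,6,5,2,3,1,2,3,4,2,3,1,2]))) (.node (.node (.node .none (.word [2,1,3,2,1,3,2,3,1,3,4,3,6,1,0,1,5,6,2,3,2,1,0,1,6,4,3,2])) (.node (.word [2,3,2,1,4,3,5,2,3,4,3,1,2,0,1,0,1,3,2,6,1,6,0,1,2,3,1,2,3,4,3]) (.word [1,5,1,0,2,3,4,1,0,1,2,1,5,3,2,1,0,1,5,4,0,1,2]))) .none)))) (.node (.node (.node (.node (.node (.node .none (.word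 [5,1,0,2,6,1,5,6,3,4,1,0,2,1,4,6,3,2,0,1,6,4,3,2,3,4,0])) (.node (.word [1,0,2,3,4,5,3,2,1,3,4,3,5,6,1,2,3,1,0,1,6,2,0,1,0,1,6,5,2]) (.word [3,2,1,3,5,1,2,6,1,5,1,3,4,3,6,1,2,3,1,2,0,1,0,1,6,4,1,0]))) (.node (.node (.word [1,2,6,5,1,2,3,6,5,2,1,6,4,0,2,1,0,3,2,1,6,1,5,1,2,3,1,2]) (.word [0,1,4,3,2,1,6,1,0,1,2,3,4,3,2,1,6,3,2,3,4,1,2,3,2,1,6,3,2])) .none)) (.node (.node (.node .none (.word [0,1,0,2,1,3,2,3,2,4,1,0,2,1,0,1,6,3,2,1,5,3,2,0,1,6,3])) .none) (.node (.word [3,6,1,2,5,1,5,6,3,1,2,3,4,3,2,1,5,1,6,2,1,5,3,2,3,4,3,2]) (.word [3,2,5,1,2,3,2,1,5,0,1,0,3,2,1,3,6,4,3,2,3,1,2,3,0,1,0,1])))) (.node (.node (.node (.node (.word [1,0,1,2,1,3,4,2,3,2,1,4,6,5,1,6,5,1,2,3,2,3,1,2,3]) (.word [1,3,5,6,1,2,5,1,6,5,3,0,2,4,3,2,1,0,1,6,1,2,3,2,0])) (.node (.word [3,2,1,5,6,1,5,6,3,6,1,2,3,2,4,1,5,1,6,1,2,3,1,2,1,0,1])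 (.word [1,0,2,3,4,6,1,2,5,1,6,3,2,3,4,6,1,5,2,3,2,1,6,2,0,1,0,1,0]))) (.node (.word [4,3,2,3,4,5,2,3,1,2,0,1,5,3,2,3,2,3,4,6,1,2,3,2,1,6,5,1,2,3,2,0,1,6]) (.word [0,1,5,6,1,5,1,0,1,2,3,5,2,1,6,5,4,3,2,3,4]))) (.node (.node (.word [1,3,6,1,0,1,2,0,1,6,3,1,4,3,6,1,2,3,5,4,1,2,3,2,1,6,1,5,1]) (.word [6,5,1,6,2,3,4,2,3,2,1,5,2,3,0,6,1,2,3,4,5,3,2,3,1,2,3,2,1,5,1,6,1])) (.node (.word [0,1,0,2,1,6,5,1,6,2,1,3,2,3,1,4,3,2,1,3,2,0,1,5,6,1,2,1,0]) (.word [0,1,0,5,1,2,3,2,5,4,3,5,1,2,0,1,0,1,5,3,1,2,3,1]))))) (.node (.node (.node (.node (.word [3,5,1,2,6,1,5,6,3,4,5,1,0,2,1,6,0,1,5,3,4,2,3]) (.node (.word [3,2,4,3,2,1,6,0,1,0,1,3,4,3,2,3,5,1,2,0,1,5,3]) (.word [2,1,0,4,5,1,2,3,6,1,2,0,1,4,6,1,2,0,1,5,3,2,0,1,6]))) (.node (.node (.word [1,2,3,4,2,3,2,1,0,4,6,1,0,2,3,5,1,2,1,0,1,5,6,2,3,2,1]) (.word [1,5,1,0,2,3,4,1,0,2,6,1,0,2,3,2,1,5,6,4,3,2,1,5,3,2]))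 (.word [2,4,3,2,1,0,1,2,3,4,1,2,0,1,2,3,6,1,0,1,2,6,3,1,2,0,1,6,5,3,4,1]))) (.node (.node (.node (.word [4,5,1,0,2,3,6,1,2,6,5,4,3,5,1,2,3,2,4,3,2,0,1,6,2,0,1,5,4,0]) (.word [3,2,4,3,5,2,0,1,0,1,2,3,2,1,5,3,0])) (.node .none (.word [2,3,4,6,1,2,3,5,1,2,0,1,5,4,3,2,1,6,4,3,2]))) .none)) (.node (.node (.node (.node .none (.word [6,5,1,2,3,6,5,1,6,1,5,4,3,2,3,1,2,0,1])) (.node (.word [1,2,3,2,1,4,0,1,2,0,3,2,1,5,3,4,2,3,0,1,0,1,2,0,1]) (.word [0,5,1,2,6,1,5,1,0,2,1,3,4,5,6,1,0,2,1,6,3,2,3,4,3,2]))) (.node (.node (.word [1,0,3,2,1,6,1,0,1,2,6,3,2,1,5,4,3,2,0,1,0,1,2,3,2]) (.word [1,5,1,0,2,3,4,1,0,1,2,3,2,6,1,5,2,3,2,1,6,3,4,1,0])) (.word [0,1,2,3,2,4,3,2,3,1,5,1,2,4,3,2,1,6,5,2,1,6,5,2,3,4,2]))) (.node (.node (.node (.word [1,0,1,3,4,3,5,2,3,2,1,0,4,3,5,1,2,1,6,3,0,1,2,1,0,1,5,6,1]) (.word [1,0,3,2,6,1,2,5,1,6,3,2,1,4,3,2,6,0,1,6,3,4,2,3,2,3]))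 (.word [3,2,3,2,1,4,0,1,2,0,2,1,3,2,4,3,6,2,1,5,6,3,4,3,1,2,3,1,2])) (.node (.node .none (.word [3,2,1,3,2,4,3,2,1,3,4,6,1,0,1,2,3,2,1,0,1,6,3,0])) (.word [1,4,3,2,6,1,0,1,2,3,2,1,6,1,0,1,2,3,4,2,1,0,3,5,1,2,1,6,0,1,5,2,3])))))))

/-- A subtree. -/
def sub59 : WTree :=
  (.node (.node sub55 sub56) (.node sub57 sub58))

/-- Points. -/
def levX2pts0 : List ℕ := [1,2,3,4,5,8,9,11,13,16,17,18,19,20,22,25,26,27,28,32,33,36,38,39,40,43,45,46,50,54,55,56,57,58,60,61,63,64,66,67,68,70,72,73,74,75,77,79,82,83,84,86,87,88,89,90,91,93,94,95,96,97,100,101,102,104,106,107,108,110,111,113,114,115,116,117,119,120,121,122,124,125,128,129,130,131,134,135,137,138,140,142,143,148,149,150,151,153,156,158,161,162,163,164,165,166,168,170,171,172,173,175,176,177,180,183,184,187,188,190,191,194,196,198,199,203,204,205,210,211,214,215,216,217,218,219,220,222,223,224,225,228,229,237,240,244,247,248,251,255,259,260,262,263,266,267,268,269,271,273,274,275,277,279,283,284,285,287,288,289,290,291,299,300,301,302,304,305,307,313,314,316,317,318,319,321,322,323,326,327,328,329,332,333,334,337,338,340,341,342]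

/-- Points. -/
def levX2pts1 : List ℕ := [343,344,346,347,349,350,351,353,356,357,358,359,360,362,363,364,366,368,371,372,373,374,375,378,379,381,382,383,384,388,389,390,393,394,395,398,399,401,402,404,406,407,408,409,412,413,414,415,416,417,418,420,421,426,427,428,430,431,433,435,436,437,438,439,440,443,444,445,446,449,450,451,452,453,454,455,458,459,460,461,463,467,471,472,477,479,480,481,482,485,488,489,492,493,498,499,500,502,503,504,506,508,510,513,514,517,518,521,522,523,526,528,529,530,531,532,534,535,536,537,538,539,540,541,543,547,548,550,551,554,555,557,559,560,561,563,564,565,568,569,570,571,572,573,574,575,576,577,584,585,586,589,590,592,595,596,597,598,601,603,604,605,606,607,608,609,610,613,617,618,619,620,622,623,626,628,630,631,632,634,636,639,641,643,644,646,648,651,654,655,656,657,658,659,660,661,662,663,664,667]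

/-- Points. -/
def levX2pts2 : List ℕ := [669,670,673,674,675,676,678,679,683,685,686,687,689,690,691,693,695,696,697,699,700,701,705,706,707,711,712,713,714,715,716,717,718,719,722,723,725,729,730,732,733,735,738,740,741,742,743,745,748,749,750,751,752,753,757,758,759,761,763,766,767,769,770,771,772,773,777,778,780,782,784,785,787,788,789,791,794,795,801,804,805,806,807,811,812,814,815,817,818,819,820,823,824,826,827,828,829,831,832,835,836,837,841,842,845,850,853,854,855,856,857,860,861,862,863,865,867,868,869,871,873,874,876,878,879,880,884,887,890,893,895,897,898,900,901,902,903,905,907,910,912,913,916,917,919,920,921,925,926,927,929,932,934,935,936,938,942,943,944,945,946,947,949,950,951,952,953,954,956,958,963,964,965,966,967,970,971,974,978,980,982,984,985,989,990,991,992,993,995,997,1001,1002,1004,1006,1008,1009,1011,1013,1014,1016]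

/-- Points. -/
def levX2pts3 : List ℕ := [1017,1019,1020,1021,1022,1023,1024,1025,1026,1027,1028,1030,1034,1035,1036,1037,1038,1040,1041,1042,1043,1044,1045,1046,1052,1053,1054,1055,1057,1058,1059,1060,1062,1065,1066,1067,1068,1070,1071,1072,1073,1075,1077,1078,1079,1080,1081,1089,1090,1092,1093,1094,1095,1096,1097,1098,1099,1100,1101,1102,1104,1105,1106,1108,1109,1111,1113,1114,1117,1119,1120,1123,1125,1126,1127,1128,1129,1130,1131,1133,1134,1136,1137,1141,1142,1145,1151,1155,1156,1159,1160,1161,1162,1165,1166,1167,1168,1169,1170,1172,1173,1180,1181,1182,1183,1184,1185,1186,1188,1189,1190,1191,1195,1196,1198,1199,1200,1202,1203,1206,1207,1208,1209,1210,1211,1215,1217,1219,1220,1225,1227,1228,1229,1230,1232,1234,1237,1239,1240,1241,1243,1244,1245,1249,1250,1251,1252,1254,1255,1258,1261,1263,1264,1266,1267,1268,1269,1275,1276,1277,1279,1280,1281,1282,1283,1286,1287,1288,1290,1291,1292,1294,1298,1300,1301,1303,1310,1311,1312,1314,1315,1316,1323,1324,1326,1327,1330,1332,1333,1335,1338,1339,1341,1343,1347,1349,1350,1351,1352,1353]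

/-- Points. -/
def levX2pts4 : List ℕ := [1355,1356,1357,1359,1361,1362,1363,1367,1368,1374,1376,1378,1379,1380,1382,1383,1385,1386,1387,1390,1392,1394,1395,1396,1397,1400,1402,1403,1404,1406,1407,1408,1411,1412,1413,1417,1418,1419,1420,1421,1423,1425,1426,1428,1429,1430,1432,1433,1434,1436,1437,1438,1440,1446,1447,1448,1449,1452,1454,1455,1458,1459,1461,1462,1463,1464,1465,1466,1468,1469,1470,1472,1474,1476,1477,1478,1479,1480,1481,1482,1483,1484,1487,1493,1495,1499,1502,1504,1508,1512,1517,1518,1523,1525,1528,1530,1531,1532,1533,1534,1535,1536,1539,1542,1544,1546,1547,1548,1550,1552,1553,1554,1555,1556,1557,1559,1560,1563,1566,1567,1568,1569,1571,1574,1576,1577,1579,1580,1581,1583,1584,1585,1586,1588,1591,1592,1594,1595,1596,1597,1598,1599,1602,1603,1604,1605,1606,1608,1609,1611,1612,1614,1617,1618,1619,1620,1621,1622,1626,1627,1628,1631,1632,1634,1635,1636,1637,1638,1640,1642,1643,1645,1648,1650,1652,1653,1654,1657,1658,1659,1660,1663,1664,1665,1666,1668,1669,1671,1673,1674,1677,1678,1681,1683,1685,1686,1689,1690,1691,1692]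

/-- Points. -/
def levX2pts5 : List ℕ := [1693,1694,1699,1702,1704,1707,1709,1711,1714,1715,1716,1718,1719,1723,1724,1725,1727,1728,1731,1732,1733,1734,1735,1736,1737,1740,1741,1742,1746,1747,1749,1750,1752,1753,1755,1756,1757,1761,1763,1764,1767,1768,1769,1771,1772,1773,1774,1775,1776,1781]

/-- A level. -/
def levX2 : Level :=
  ⟨1097, (.node (.node sub44 sub49) (.node sub54 sub59)), levX2pts0 ++ levX2pts1 ++ levX2pts2 ++ levX2pts3 ++ levX2pts4 ++ levX2pts5⟩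

/-- A subtree. -/
def sub60 : WTree :=
  (.node (.node (.node (.node (.node (.node .none (.word [1,4,3,2,1,3,5,1,0,1,2,0,4,3,5,6,1,0,2,1,6,5,3,1,2,0,1,6,5,2,1])) .none) .none) (.node .none (.node .none (.node .none (.word [1,0,1,2,3,4,2,3,2,1,0,1,3,4,2,3,2,1,6,5,1,0,1,0,1,0,2,1,3,2,3,2,4,3,2,5,0,1,6,2,1,0,1,5,3,1]))))) (.node (.node (.node .none (.node .none (.word [1,0,1,3,2,3,4,6,1,2,3,5,0,1,2,3,4,3,2,1,2,4,6,1,2,5,6,1,2,3,5,1,6,4,2,3,1,2,0,1,6,0]))) (.node (.node (.word [0,3,4,5,1,2,3,2,6,1,5,3,4,3,1,2,3,4,2,3,1,2,3,1,0,1,2,1,3,4,2,3,2,4,6,1,2,3,0,1,2,0,1,6,0,1,0]) (.node (.word [4,3,2,3,2,4,3,5,1,2,0,1,5,3,2,1,0,4,3,2,5,1,3,2,3,4,3,2,3,4,1,2,3,2,1,5,2,3,2,1]) (.word [1,0,1,2,1,3,4,3,2,1,5,6,3,1,2,3,0,1,0,1,3,2,1,3,2,4,3,2,1,4,3,5,1,6,1,2,1,0,1,5,3,2,3,0]))) .none)) (.node (.node .none (.node (.word [3,5,6,1,0,1,2,3,2,1,0,1,6,5,4,3])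 (.word [1,0,1,3,2,6,1,0,2,1,5,3,4,6,2,3,0,1,0,1,2,3,2,3,5,1,2,3,4,0,1,2,0,2,1,6,1,5,1,2,3,2,1,6,1,2,3,4,0]))) (.node (.node .none (.node .none (.word [0,3,2,3,4,5,1,0,2,3,4,1,2,1,5,3,0,4,5,1,0,2,3,6,1,2,6,5,3,2,0,1,6,0,1,5,2,3,4,3,2,1]))) .none)))) (.node (.node (.node .none (.node (.node .none (.node .none (.word [2,1,0,4,3,2,1,6,5,1,3,4,2,0,3,5,1,2,3,2,1,5,2,1,2,1,4,5,0,1,2,0,1,2,3,6,1,0,1,5,2,1,0,1,6,4,3,2,1]))) .none)) (.node (.node .none (.node (.node .none (.word [6,5,1,2,3,2,4,3,6,2,1,5,3,2,1,5,1,2,3,2,3,4,1,5,6,1,0,2,1,2,3,2,0,1,6,5,1,2,3,4])) .none)) (.node (.word [5,1,0,2,1,3,2,4,3,2,1,5,3,1,4,2,3,2,1,4,3,2,6,1,5,6,1,2,3,5,1,2,3,4,2,3,2,1,0,1,5,3,4,1,0]) (.node .none (.word [0,1,4,6,5,1,2,3,6,1,5,2,1,6,5,3,4,0,1,2,3,2,5,3,4,3,1,0,1,2,1,5,1,6,1,2,3,2,1,6,4,2,3,1,2,0,1,0]))))) .none))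

/-- A subtree. -/
def sub61 : WTree :=
  (.node (.node (.node (.node (.node .none (.node .none (.word [0,4,5,1,6,5,1,2,3,2,1,5,3,2,3,2,3,2,1,5,4,3,2,6,1,2,3,0,1,4,6,1,2,3,4,1,2,3,2,1,6,4,2,1]))) (.node (.node .none (.node .none (.word [1,4,3,5,1,2,6,1,2,3,0,1,2,0,1,6,3,2,4,3,2,3,5,1,6,1,2,3,0,1,6,5,0,3,4,3,2,1,5,3,1,2,3,4,3,0,1]))) (.node (.word [6,5,1,2,3,2,4,3,6,2,1,5,2,3,2,1,0,1,2,4,3,2,3,0,4,6,1,2,3,2,1,5,3,4,2,3,2,1,6,1,0,1,0]) (.word [2,3,4,3,2,6,1,2,3,5,2,1,6,1,3,2,3,4,3,1,0,4,5,1,2,3,6,1,2,1,0,1,0,4,3,2,6,1,2,0,1,6,3,4,3,2,3,1,2,0,1])))) (.node .none (.node .none (.node .none (.word [0,1,2,4,3,2,1,3,5,6,1,2,6,1,5,3,0,1,4,3,2,0,1,5,3,5,2,3,1,2,1,4,6,1,2,3,2,0,1,0,1,5,3,2,1,6,2,1]))))) (.node (.node (.node .none (.node (.node (.word [2,4,6,5,1,2,3,2,1,6,1,5,2,1,4,2,3,2,1,3,6,1,5,6,1,2,1,6,3,0,4,3,2,6,1,0,1,5,3,2,1,6,5,3,2,3,2,1])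 (.word [2,1,0,3,2,3,6,1,0,2,1,2,1,5,6,1,2,6,1,0,1,5,1,6,2,3,4,2,1,2,5,6,1,0,2,1,3,2,3,1,2,0,1,6,4,2,1])) .none)) (.node (.node .none (.word [0,1,0,3,4,5,1,2,3,2,1,5,4,1,3,2,3,1,2,3,1,2,1,0,1,3,6,1,2,3,1,0,1,6,5,4,2,3,1,0,1,2,3,1])) .none)) .none)) (.node (.node (.node (.node (.word [5,1,0,6,1,2,3,2,4,3,2,1,6,0,1,5,0,3,5,1,0,1,2,5,3,0,1,2,3,6,5,1,2,5,6,4,1,2,3,2,1,5,6,3,1]) (.node .none (.word [1,3,6,1,2,5,1,6,5,1,2,1,5,3,4,2,3,2,3,5,6,1,2,6,5,3,4,3,2,6,1,5,0,1,2,3,2,0,1,5,6]))) (.node (.node (.node .none (.word [1,4,3,2,1,0,1,3,5,1,2,3,2,1,0,1,2,3,4,2,1,0,1,2,3,2,1,5,3,1,0,1,2,3,4,1])) .none) .none)) (.node (.node (.node .none (.word [2,3,2,4,6,1,2,3,5,1,2,1,5,3,2,1,6,4,3,2,0,5,1,0,2,1,3,2,5,3,4,5,6,1,2,3,2,1,0,1,6,3,2,1,5,2])) .none) (.node .none (.node (.node .none (.word [1,0,1,0,2,4,3,2,6,1,0,5,1,2,4,2,3,2,3,1,0,2,1,0,1,4,2,3,2,4,6,1,0,1,6,2,3,0,1,2,0,1,6,1,0]))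 .none)))) (.node (.node (.node .none (.node (.node .none (.word [2,1,0,1,0,4,3,2,5,1,0,2,6,5,1,2,3,4,0,1,2,0,2,1,3,6,5,1,0,2,3,4,6,1,0,1,2,3,4,1,5,2,1,6,3,2,1,5,1,0,1])) .none)) .none) (.node (.node (.node (.node .none (.word [0,1,2,3,2,4,3,2,6,1,2,3,0,1,6,1,3,2,3,4,2,3,2,1,2,1,5,6,1,2,3,5,1,2,1,6,1,5,1,2,3,4,2,3,2,1,6,3,0,1])) .none) .none) .none))))

/-- A subtree. -/
def sub62 : WTree :=
  (.node (.node (.node (.node (.node (.node .none (.node .none (.word [1,2,1,3,4,3,6,1,2,3,5,2,1,6,5,1,6,2,1,0,1,5,2,3,4,3,5,1,0,1,0,5,1,2,3,4,6,5,1,2,3,2,1,5,1,6,3,1,0,1,2,1]))) .none) .none) (.node (.node (.node .none (.word [4,3,2,3,4,6,1,0,2,3,2,1,6,2,3,4,3,1,3,5,4,0,1,2,3,2,1,5,3,1,4,5,6,1,2,3,4,6,1,2,3,1,2,0,1,6,2,0])) .none) .none)) (.node (.node (.node (.node .none (.node .none (.word [2,4,6,1,0,1,2,3,6,1,5,1,2,0,1,6,3,4,0,1,4,5,1,0,2,1,3,2,4,3,1,0,2,6,1,0,1,5,3,4,1,2,3,2,0,1,6,4,0])))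 (.word [1,0,2,6,1,0,1,2,3,2,4,3,2,1,6,2,3,4,0,1,2,4,3,2,1,0,1,2,3,4,3,2,6,3,2,1,5,6,1,5,6,2,3,4,2])) (.node .none (.node (.node .none (.word [5,1,2,6,5,1,2,3,2,1,5,2,6,1,5,6,1,2,3,2,1,6])) .none))) (.node .none (.node .none (.node (.word [2,4,3,6,1,0,1,0,2,1,6,5,1,6,2,3,4,1,0,1,2,5,1,0,3,1,2,3,4,6,1,2,3,2,4,1,5,6,1,5,2,1,6,3,4,2,3]) (.word [0,2,6,1,5,6,1,2,0,1,3,6,1,2,0,1,5,6,1,2,3,2,1,5,0])))))) (.node .none (.node (.node (.word [1,2,1,3,2,1,0,1,4,3,2,3,2,1,5,1,2,3,2,3,4,1,2,3,0,1,2,0,1]) (.node (.node (.node .none (.word [3,2,3,2,1,0,1,2,4,3,2,3,1,2,3,5,1,4,2,3,1,0,1,2,3,2,1,5,1])) .none) (.node (.node .none (.word [0,1,4,6,5,1,2,3,6,1,5,2,1,6,5,3,4,1,2,3,6,5,1,0,1,2,6,1,5,3,1,4,6,1,2,3,5,2,1,6,5,2,1,6,2,3,4])) .none))) .none)))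

/-- A subtree. -/
def sub63 : WTree :=
  (.node (.node (.node (.node (.node (.node .none (.word [4,3,2,3,4,5,6,1,2,5,3,2,1,0,1,5,1,6,5,4,3,2,1,6,1,0,1,2,3,4,3,5,1,2,0,1,5,2,3,1,2,3,4,3,2])) .none) (.node (.node .none (.word [1,0,3,2,3,6,1,2,5,1,0,4,3,2,1,6,5,6,1,5,6,5,1,0,1,2,1,3,2,6,1,5,4,3,2,3,0,4,5,1,6,2,3,1,2,1,0,1,5])) (.node (.word [3,5,1,6,1,5,1,6,2,4,3,2,6,1,6,5,1,2,3,2,1,6,4,3,1]) (.word [1,2,4,3,6,1,5,1,0,2,1,0,5,3,2,1,6,4,2,3,5,2,3,6,1,2,3,2,4,3,1,2,1,0,1,6,4,3,2,1])))) .none) (.node (.node .none (.node (.node .none (.node (.word [3,5,1,6,5,1,2,6,1,0,5,3,4,2,3,2,3,1,2,0,1,0,2,6,5,1,0,1,5,1,2,3,4,2,3,2,1,0,1,6,1,5,1,2]) (.word [0,2,1,4,3,2,1,0,5,1,0,6,2,3,1,2,0,1,3,2,4,3,2,6,1,5,6,4,3,2,3,1,2,0,1,6,1]))) .none)) (.node (.node (.node .none (.node .none (.word [2,4,3,2,6,1,5,6,1,0,2,1,0,1,6,3,4,2,0,1,5,1,0,2,1,3,2,1,5,3,1,2,4,3,2,1,5,1,6,1,2,3,4,3,2,3])))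 .none) (.node (.node (.node .none (.word [5,1,2,3,2,6,5,1,2,3,6,5,3,2,1,3,2,4,1,5,3,2,3,2,4,3,6,1,0,5,1,6,2,3,2,1,5,6,1,0])) .none) .none)))) (.node (.node .none (.node .none (.node .none (.word [2,4,3,6,1,0,1,2,3,2,1,4,2,3,2,1,6,3,5,1,6,1,5,3,1,0,2,1,3,4,5,6,1,5,3,2,1,5,6,1,5,3,4,2,3,2])))) (.node (.node (.node (.node (.node .none (.word [0,3,4,5,1,2,3,1,2,0,1,5,4,0,3,2,3,0,2,3,6,1,5,6,1,2,3,2,4,3,2,1,3,6,0,1,2,0,1,5,6,1,2,3,4,1])) .none) .none) .none) (.node (.node .none (.word [0,1,2,3,2,4,3,6,1,0,1,0,6,2,3,1,5,1,0,2,1,6,2,1,5,3,4,2,1,0,3,6,5,1,2,3,2,1,6,1,2,3,2,0])) .none))))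

/-- A subtree. -/
def sub64 : WTree :=
  (.node (.node sub60 sub61) (.node sub62 sub63))

/-- A subtree. -/
def sub65 : WTree :=
  (.node (.node (.node (.node (.node (.node .none (.node .none (.word [6,5,1,2,3,2,4,3,6,2,1,5,3,2,3,2,1,5,1,2,3,4,2,0,1,3,4,3,6,1,0,2,1,3,4,2,3,2,1,0,1,6,5,1,2]))) .none) (.node .none (.node (.node .none (.word [1,2,4,3,2,3,6,1,0,1,5,6,2,1,5,4,3,2,0,1,6,1,0,1,2,3,2,0,1,0])) .none))) (.node (.node .none (.node (.node .none (.word [6,1,5,6,1,0,2,3,6,1,5,4,2,1,3,5,1,2,1,0,1,5,1,2,5,6,1,0,5,1,6,2,3,1,4,3,2,1,5,1,2,3,2,1,0,1,2,0])) .none)) .none)) (.node (.node (.node .none (.node .none (.word [1,0,2,4,5,1,2,6,5,1,0,2,3,4,2,3,2,1,6,1,3,2,1,3,2,3,2,1,4,3,2,6,1,0,1,0,1,6,5,4,2,3,2,1,0,1,2,3]))) .none) (.node (.node (.node (.node .none (.word [3,2,3,4,5,1,2,3,2,1,0,5,2,3,2,1,5,0,1,3,5,2,3,1,0,1,2,3,5,6,1,0,1,0,2,1,6,4,3,1,2,0,1,5,6,3,1,0]))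 .none) (.node (.word [0,1,2,3,4,6,1,2,3,2,5,1,6,3,2,3,4,1,5,6,1,5,6,0,5,1,0,1,5,0,4,6,1,2,3,2,3,4,1,2,3,2,1,0,1,6,1]) (.word [4,3,2,5,1,0,2,3,6,2,1,5,6,2,3,5,1,2,1,5,3,4,2,1,0,5,1,2,3,2,5,4,3,0,4,3,2,3,6,1,2,3,2,1,5,1,6,2,1,0]))) (.node (.node .none (.node .none (.word [1,0,1,3,2,3,4,6,1,2,3,5,0,1,2,3,4,3,2,1,3,2,6,1,5,6,1,2,1,6,3,1,4,3,6,2,1,0,1,5,3,2,1,6,3,0]))) .none)))) (.node (.node (.node (.node .none (.node .none (.word [3,5,1,0,2,1,5,3,2,3,4,3,2,4,3,5,1,2,0,1,0,1,5,3,4,2,3,2,3]))) (.word [0,1,2,3,4,6,1,2,3,2,5,1,6,3,2,3,4,1,5,6,1,5,6,3,4,3,2,1,5,1,0,3,2,4,3,5,2,1,6,4,3,2,0,1,5,6])) .none) (.node (.node (.node (.node (.node .none (.word [1,4,3,2,1,0,1,3,5,1,2,3,2,1,0,1,4,2,3,2,1,0,1,2,3,2,1,5,3,1,0,1,2,3,4,1])) (.word [0,4,3,6,1,0,2,1,3,5,1,6,2,1,0,1,6,4,6,1,2,3,2,0,1,6,2,1,0,2,1,0,1,3,4,2,3,2,1,6,2,3,1,0,1]))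 .none) .none) (.node (.node (.node (.node .none (.word [6,5,1,0,2,3,2,1,0,5,1,6,2,3,4,3,5,6,2,1,6,5,3,2,3,2,4,1,0,1,5,6,1,3,2,1,6,5,1,6,2,3,0,1])) .none) (.node .none (.word [3,6,5,1,6,5,1,2,4,3,2,6,1,2,5,6,1,2,3,2,1,6,5,1,6,2]))) .none))))

/-- A subtree. -/
def sub66 : WTree :=
  (.node (.node (.node .none (.node (.node .none (.word [1,2,3,4,2,3,2,1,4,5,6,1,2,3,2,0,1,6,5,4,3,1,2,3,1])) .none)) (.node (.node (.node .none (.node (.node .none (.word [0,1,0,3,2,1,6,5,1,2,3,2,4,3,0,5,1,2,3,4,3,0,2,4,3,6,1,0,6,2,3,4,1,2,1,2,5,6,1,5,3,2,1,6,3,2,1])) (.word [1,4,3,2,1,3,2,4,1,0,1,2,3,2,3,4,3,1,0]))) (.node (.node .none (.node .none (.word [3,5,1,2,3,2,4,3,2,6,1,5,6,3,2,1,3,2,3,2,1,4,3,2,3,6,1,0,2,1,0,5,1,0,4,1,2,3,2,1,6,5,3,4,3,1]))) .none)) (.node .none (.node (.node (.word [1,2,4,5,1,0,3,2,1,0,2,3,5,1,5,4,6,1,5,6,1,2,0,1,2,1,3,2,4,3,6,1,5,6,1,2,3,4,1,2,3,1,2])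 (.node .none (.word [0,1,4,6,5,1,2,3,6,1,5,2,1,6,5,3,4,0,1,3,2,3,2,4,3,1,0,1,5,1,2,6,1,5,0,1,2,3,2,1,5,6,3,4,1,2]))) .none)))) (.node (.node (.node (.node .none (.word [0,3,2,6,1,0,1,2,1,3,5,2,1,5,6,4,3,0,1,3,2,3,2,4,3,1,0,2,3,6,1,0,1,2,3,2,1,5,1,0,1,2,0,1,6])) (.node (.node (.word [1,0,1,5,6,1,2,3,2,4,3,2,3,5,1,6,1,2,3,1,2,0,1,5,6,2,3,2]) (.word [2,4,3,2,6,1,5,6,1,0,2,1,0,1,6,3,4,2,1,3,5,2,3,4,6,5,1,2,5,3,1,2,0,1,0,1,5,1,6])) .none)) (.node (.node (.node .none (.word [1,2,1,3,4,6,1,2,3,5,1,2,1,5,6,1,5,3,5,4,3,2,1,2,5,4,1,0,1,2,3,4,3,2,1,5,6,1,5,6,3,1,2,3,4,1,2,3,2])) (.node .none (.word [5,1,0,1,2,1,3,2,1,5,4,0,2,1,3,5,4,3,2,3,1,2,3,4,1]))) (.node (.node (.node .none (.word [0,3,4,3,6,1,0,2,1,3,6,5,1,6,2,3,4,2,3,0,1,0,3,2,3,6,4,3,2,3,1,2,1,0,1,5,1,2])) .none) (.word [2,4,3,2,5,1,0,6,1,2,1,5,3,4,2,3,6,1,2,5,1,0,6,1,2,3,1,0,2,4,5,1,6,5,3,1,2,0,1,0,1,6,3,2,0]))))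 (.node (.node .none (.node (.node (.word [1,0,2,1,3,2,5,6,1,5,6,2,3,2,1,5,1,0,1,4,6,1,2,3,2,5,1,5,4,3,0,3,2,3,2,4,6,1,2,5,6,1,2,3,2,1,6,5]) (.word [1,2,6,1,2,5,1,0,1,2,3,2,1,6,3,4,1,2,1,3,2,5,2,6,1,5,6,1,2,5,6,3,2,1,6,1,5,4,1,0,1,2,3,2,1,5,6,2])) .none)) (.node (.node (.node (.node .none (.word [3,4,3,2,1,6,1,2,3,2,1,0,1,6,3,4,5,2,3,2,1,5,4,3,6,1,0,2,5,1,6,3,4,1,0,4,2,3,1,2,0,1,5,1,2,3,4])) .none) .none) (.node (.node (.node (.word [0,2,1,0,4,6,1,2,3,5,1,2,1,0,6,1,0,2,1,0,6,1,4,2,3,2,1,6,3,2,3,4,0,1]) (.word [0,3,4,3,6,1,2,3,2,1,0,2,3,2,1,6,4,3,0,1,2,3,4,2,3,6,1,0,2,1,0,3,2,1,6,2,1,5,3,4,1])) .none) .none)))))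

/-- A subtree. -/
def sub67 : WTree :=
  (.node (.node (.node (.word [0,3,4,3,6,1,2,3,2,1,0,2,3,2,1,6,4,3,0,1,0,2,3,5,1,4,0,1,2,1,3,5,2,1,6,1,5,3,4,2,3,2,1,0]) (.node (.node (.node .none (.word [4,3,2,3,2,4,3,5,1,2,0,1,5,3,2,1,5,1,0,2,3,4,1,5,1,2,3,2,1,5,3,4,2,3,2,1,0])) .none) (.node (.node .none (.word [0,1,0,1,2,1,4,3,2,1,0,1,3,2,1,6,5,4,1,0,1,0,1,0,2,1,3,2,3,2,4,3,6,2,1,5,6,3,4,2,3,1,0,1,0])) .none))) (.node (.node (.node .none (.node (.node .none (.word [1,2,4,3,2,1,3,2,4,5,3,2,1,3,2,1,6,3,1,0,1,0,2,3,6,1,5,6,1,2,3,4,5,1,0,1,6,1,2,0,1,5,3,4,0,1,0])) .none)) .none) (.node (.node (.node .none (.word [3,4,3,2,6,1,0,2,3,2,1,6,4,3,2,3,4,0,1,2,1,3,2,6,1,5,1,0,4,6,1,2,1,5,3,1,2,0,1,6,5,4,1])) (.node .none (.word [3,4,5,6,1,0,1,2,3,2,1,0,1,6,5,3]))) (.node (.word [2,1,0,5,1,2,3,2,1,0,1,2,4,3,2,3,4,1,3,2,5,2,1,0,5,1,0,1,5,3,0,2,6,1,5,6,1,3,4,2,1,5,3,2,3,4,1,2,3,2])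 (.word [2,5,1,0,2,1,3,2,1,3,2,1,5,4,3,2,3,2,4,3,2,1,3,0,1,5,4,1,2,3,4,1,2,3,2,1,5,1,2,1,0,1,0]))))) (.node (.node (.node (.node (.node .none (.node .none (.word [0,4,5,1,2,3,2,1,0,4,5,3,2,3,2,1,6,5,1,0,2,3,4,6,1,5,1,2,1,6,5,3,2,0,1,2,3,2,1,6,5,4,2,3,2,1,6,2,1,0]))) .none) .none) (.node .none (.node (.node .none (.word [3,4,3,2,6,1,0,2,3,2,1,6,4,3,2,3,4,1,0,1,2,3,2,5,3,4,3,1,0,1,6,1,2,3,2,4,3,2,1,5,0,1,6,5,2,3,4,1])) .none))) (.node (.node (.node .none (.word [0,4,5,1,2,3,2,1,0,4,5,3,2,3,2,1,6,5,1,0,2,3,4,2,3,2,0,1,0,3,2,1,3,5,6,2,3,1,2,3,4,2,1,0,1])) .none) (.node .none (.node .none (.node (.node .none (.word [3,6,1,5,1,0,1,0,2,1,6,3,0,2,1,0,3,1,2,5,6,1,5,6,2,1,4,3,2,5,3,4,0,6,1,0,2,1,5,6,3,2,3,1,2,3,0,1])) .none))))))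

/-- A subtree. -/
def sub68 : WTree :=
  (.node (.node .none (.node (.node .none (.word [0,1,2,3,2,1,4,3,2,3,0,1,4,2,3,2,0,1,4,3,2,3,5,1,5,0,1,2,1,0,4,6,1,2,3,2,3,4,1,2,3,2,1,5,0,1,6,0])) (.node .none (.node .none (.word [3,4,3,2,6,1,0,2,3,2,1,6,4,3,2,3,4,1,0,1,2,1,0,3,2,1,5,2,4,3,6,1,2,3,4,3,2,3,2,1,5,2,0,1,6,2,0]))))) (.node (.node (.node (.node .none (.node .none (.word [1,3,2,1,0,1,4,3,2,6,3,4,1,0,3,2,4,3,2,1,0,1,5,3,0,1,4,2,3,2,1,0,2,4,3,2,6,1,5,1,0,1,2,0,1,6,5,3,1,2]))) .none) (.node .none (.node (.node .none (.node (.word [0,1,4,5,6,1,0,2,3,2,1,6,5,1,2,3,4,2,1,2,6,5,1,2,3,2,4,3,2,1,6,3,1,0,1,6,2,3,4,2,3,1,2,3,4,3,2,3]) (.word [2,6,5,1,0,2,1,3,2,3,6,1,2,3,2,1,5,1,4,3,2,1,6,1,0,1,0,1,4,2,3,2,1,3,4,5,2,3,2,1,5,0,1,0]))) .none))) (.node (.node (.node (.node (.node .none (.word [3,2,4,3,5,1,0,6,1,2,0,1,5,4,3,6,5,1,6,2,1,5,3,0,1,2,1,3,2,6,1,5,1,0,4,3,2,0,1,5,6,3,4,2,3,1,2,1,0]))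 .none) (.node (.node .none (.word [1,3,6,1,2,5,1,6,5,1,2,1,5,3,4,2,3,2,3,5,6,1,2,6,5,3,2,4,6,1,0,1,2,5,3,1,2,0,1,6,2,3,4,3,0])) .none)) (.node (.node .none (.node .none (.word [1,4,3,5,6,1,2,3,4,5,1,6,2,1,5,6,5,1,2,6,1,5,6,1,2,3,4,5,3,1,2,3,2,1,6,4,3,2,3]))) .none)) (.node (.node (.node .none (.node (.word [4,3,2,1,3,2,4,3,2,1,5,1,3,6,1,2,3,0,1,0,3,4,3,5,1,2,3,4,1,5,2,1,0,3,2,3,6,1,5,6,4,2,3,1,2,3,4,3]) (.word [4,6,1,0,1,2,1,5,3,2,1,6,4,0,2,3,5,2,1,5,2,3,2,1,0,1,0,2,3,1,5,4,2,1,2,5,1,2,6,1,0,2,1,5,3,2,1,6,5,3,4,3,1]))) (.node .none (.word [3,5,1,2,3,2,4,3,2,6,1,5,6,0,2,4,3,6,1,0,6,2,3,4,1,6,5,1,2,6,3,2,1,5,6,4,3,2,3,2]))) (.node (.node (.node .none (.word [1,4,3,2,1,3,2,5,3,1,2,0,2,3,5,4,3,1,2,3,2,1,0,1,5])) .none) .none)))))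

/-- A subtree. -/
def sub69 : WTree :=
  (.node (.node sub65 sub66) (.node sub67 sub68))

/-- A subtree. -/
def sub70 : WTree :=
  (.node (.node (.node (.node (.node .none (.word [0,5,1,0,2,3,2,6,1,0,2,3,1,2,0,1,5,1,2,1,3,0,1,2,1,3,4,3,2,3,2,1,6,1,5,1,2,3,0,1])) (.node .none (.node (.node .none (.word [1,3,5,4,0,1,2,3,2,1,5,3,0,1])) .none))) (.node .none (.node .none (.node .none (.word [1,3,6,1,2,5,1,6,5,1,2,1,5,3,4,2,3,2,3,1,2,3,0,1,2,3,2,4,6,1,2,5,1,0,5,2,3,2,1,0,1,6,4,1,2]))))) (.node .none (.node (.node (.node .none (.node .none (.word [5,1,0,1,6,1,2,3,2,1,5,6,4,3,2,3,4,0,1,2,3,4,2,3,0,1,2,3,2,4,3,1,0,1,2,1,0,3,2,4,5,1,2,3,2,3,4,3,1,2]))) .none) .none))) (.node (.node (.node .none (.word [1,2,4,3,6,1,5,1,0,2,1,0,5,3,2,1,6,4,2,1,0,1,2,4,3,2,1,3,2,3,0,2,4,3,5,1,2,3,1,2,0,1,5,6,1,5,0])) (.node .none (.node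 (.node (.node .none (.word [4,3,2,3,5,1,0,2,1,0,1,5,0,1,3,2,4,3,5,2,1,0,1,5,3,4,2,1,0])) (.node (.word [4,3,2,3,4,6,1,0,2,3,2,1,6,2,3,4,3,5,1,0,2,1,0,6,1,5,3,4,0,2,1,0,1,3,2,5,3,4,2,3,1,2,1]) (.word [6,5,1,2,3,2,4,3,6,2,1,5,2,1,3,2,1,3,4,5,1,2,1,0,3,4,3,2,3,6,5,1,2,0,1,5,1,2,1,0,1,6,3]))) (.node (.node (.word [0,5,1,0,2,3,2,6,1,0,2,3,1,2,0,1,5,0,2,1,0,4,3,5,2,3,1,0,1,2,1,4,5,6,1,2,3,2,1,6,2,3,4,3,0,1,0]) (.word [3,5,1,0,1,6,1,2,3,4,2,1,6,0,6,2,1,5,6,3,1,2,1,0,1,4,2,3,2,3,4,6,1,0,1,5,2,1,6,3,2,1,5,4,2,1])) (.word [2,1,3,4,3,2,1,3,2,6,1,5,6,3,4,2,5,1,5,2,3,0,1,2,1,5,1,2,6,1,5,2,3,4,6,1,2,3,1,2,0,1,6,5,3,4,2,3,1,2]))))) (.node (.node .none (.node .none (.node (.node .none (.word [3,4,5,1,2,3,2,1,0,1,5,4,0,1,2,3,4,2,3,1,2,3,0,1,5,1,2,6,1,5,0,1,0,2,1,3,2,4,3,1,0,1,2,3,0,1,2,3])) .none))) (.node (.node (.node .none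 (.node .none (.word [0,1,4,3,2,1,6,3,4,3,6,2,1,0,1,2,3,2,3,4,1]))) (.node (.node .none (.word [4,5,6,1,0,5,1,2,3,2,1,6,4,3,0,5,1,2,3,4,0,1,5,1,0,1,5,1,2,3,4,2,1,0,3,6,1,2,1,5,1,6,1,2,3,0])) (.word [3,4,6,1,5,6,1,0,2,1,6,3,2,3,0,1,0,1,0,1,2,1,3,4,3,2,3,5,4,1,0,1,6,2,1,5,6,3,2,1,5,2]))) .none))))

/-- A subtree. -/
def sub71 : WTree :=
  (.node (.node (.node (.node (.node (.node .none (.node .none (.word [3,2,3,4,6,1,2,3,2,1,6,5,1,2,3,2,0,1,6,3,2,3,0,5,1,6,1,0,2,1,3,2,0,1,6,5,4,3,2,3,2]))) .none) .none) .none) (.node (.node (.node .none (.word [4,6,5,1,0,1,0,2,3,4,6,1,5,2,1,6,2,0,4,3,6,1,2,5,1,0,1,6,4,3,2,1,5,6,3,4,1])) (.word [0,1,0,1,4,5,1,2,3,4,6,1,2,5,1,6,1,2,3,2,1,5,6,1,5,2])) (.node .none (.node (.node (.node .none (.word [2,4,3,2,5,1,0,6,1,2,1,5,3,4,2,0,1,0,3,2,1,5,6,3,1,0,1,4,3,5,1,2,1,6,5,3,4,2,3,2,1,6,0,1]))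 .none) .none)))) (.node (.node (.node (.node (.node (.node .none (.word [2,4,6,1,2,5,6,1,2,3,2,1,6,5,1,2,3,2,6,1,0,6,4,3,1,2,3,2,1,6,4,3])) .none) (.word [3,2,6,1,2,3,5,1,0,1,2,6,3,4,1,2,1,0,5,4,0,4,5,1,2,3,2,3,6,5,1,2,6,1,5,3,4,3,1,0,1,2,1,0])) .none) (.node .none (.node .none (.word [2,1,4,5,1,2,3,2,1,3,2,3,2,1,5,1,6,1,2,3,4,1,0,3,2,3,5,1,2,6,1,5,1,4,3,2,3,2,1,5,1,6,2,1,0,1,5,2])))) (.node .none (.node (.node .none (.node (.node .none (.word [4,3,2,3,2,4,3,5,1,2,0,1,5,3,2,1,5,1,0,2,3,4,1,2,1,0,3,2,1,2,3,4,2,3,2,1,5,2,0,1])) (.word [0,5,1,0,2,3,2,6,1,0,2,3,1,2,0,1,5,0,2,1,0,4,3,2,6,1,6,3,4,2,0,3,6,1,0,1,2,5,3,2,1,5,0,1,6,4,2,3,1]))) (.node (.node (.node .none (.word [0,1,0,3,2,1,3,2,3,4,6,1,2,3,2,1,0,3,2,3,1,5,1,2,4,3,6,1,2,1,0,1,6,2,1,5,3,4,1,2,0])) .none) .none)))))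

/-- A subtree. -/
def sub72 : WTree :=
  (.node (.node (.node (.node (.node .none (.node (.node (.word [5,1,2,3,2,1,0,5,1,2,3,4,2,3,2,1,3,6,5,1,2,3,2,1,6,4,3,2,5,1,3,2,3,4,3,2,1,3,2,6,1,5,3,2,1,0,1,6,3,4,2,0,1]) (.word [1,0,3,2,1,3,2,3,6,5,1,2,0,1,6,4,3,2,6,1,6,3,4,2,0,1,2,6,1,0,1,2,3,2,1,5,3,2,3,2,1,6,5,4,3])) .none)) (.node (.node .none (.word [0,3,2,4,3,2,5,1,0,1,2,3,2,1,5,3,0,1,0,1,3,2,4,3,2,3,1,0,4,3,2,1,5,3,1,0,1,2,0,1])) .none)) (.node .none (.node (.node .none (.word [0,1,0,1,4,5,1,2,3,4,0,1,2,1,0,5,3,1,2,1,0])) .none))) (.node (.node (.node (.node (.word [0,4,3,2,1,3,2,6,1,2,3,2,3,2,3,2,4,3,1,0,2,1,0,6,1,2,3,4,1,2,3,2,1,0,1,2,0,1,2,1,6,3,2,1,5,4,0,1,2]) (.node .none (.word [0,1,4,6,5,1,2,3,6,1,5,2,1,6,5,3,4,1,3,2,5,1,2,3,2,1,5,1,0,1,3,4,3,2,3,1,5,6,1,5,2,1,0,1,6,4,2]))) .none) (.node .none (.node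 .none (.word [3,2,1,3,2,4,5,6,1,0,1,6,5,3,4,2,3,1,2,3,1,4,5,1,0,2,1,3,2,4,3,1,6,5,1,2,3,6,2,1,5,4,3,2,0,1,6,4])))) .none)) (.node (.node (.word [6,5,1,0,2,3,2,1,0,5,1,6,2,3,4,3,5,6,2,1,6,5,3,2,4,3,2,1,0,1,0,2,4,6,1,5,6,2,1,5,3,2,0,1,6,4,3,0]) (.node (.word [2,1,6,1,2,3,4,5,1,2,3,2,1,6,5,1,0,1,2,5,6,1,0,1,5,4,0,3,2,1,0,5,1,0,1,2,3,0,1,0,2,1,6,5,1,6,4,3,2,3,1,2,3]) (.node .none (.word [1,6,5,1,0,2,1,0,3,2,4,6,3,4,1,2,3,0,1,0,3,2,1,6,1,2,5,1,6,3,0,2,1,0,1,6,5,4,3,2,1,6,2,3,0,1,2])))) (.node (.node (.node (.word [2,4,3,2,5,1,0,6,1,2,1,5,3,4,2,1,3,2,3,5,1,0,2,6,1,5,6,1,2,0,2,3,4,3,2,3,2,1,0,1,5,4,2,3,2,3,1,2]) (.word [0,2,1,5,6,1,2,3,5,1,2,1,0,1,2,1,6,5,3,4,1,2,3,0,1,2,3,4,1])) (.word [1,6,5,1,0,2,1,0,3,2,6,1,5,3,4,0,3,2,5,3,1,0,1,0,2,1,3,2,5,3,1,2,3,4,5,6,1,2,3,4,2,3,2,1,6,5,1])) .none)))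

/-- A subtree. -/
def sub73 : WTree :=
  (.node (.node (.node (.node .none (.node (.node .none (.word [1,2,3,4,6,1,2,5,1,6,3,2,0,3,4,3,6,1,0,2,5,1,6,5,3,2,1,6,3,4,3])) .none)) .none) (.node (.node .none (.node .none (.word [0,1,0,1,2,3,6,1,2,0,1,6,0,3,2,5,1,5,2,3,4,5,1,2,3,2,3,4,6,5,1,2,6,1,5,3,4,1,0,1,2,1,0]))) (.node (.node (.node (.word [1,0,1,4,5,6,1,2,3,4,0,2,6,1,0,1,2,1,5,3,2,1,6,1,0]) (.word [6,1,0,2,3,2,1,5,6,1,2,3,2,1,6,4,3,2,3,0,2,1,5,6,1,2,3,2,4,3,2,3,4,1,2,4,5,1,6,1,5,2,3,2,1,6,4,3,2,3,1,0])) (.node (.word [4,3,2,3,2,4,3,5,1,2,0,1,5,3,2,1,0,1,2,5,4,1,0,1,2,1,3,2,4,3,2,1,6,1,2,3,4,1,2,3,1,2]) (.word [0,1,2,3,2,1,4,3,2,3,0,1,4,5,1,5,6,2,3,1,2,0,1,5,1,0,4,3,2,6,1,2,3,4,2,3,2,1,0,1,6,2,0,1]))) .none))) (.node (.node .none (.node .none (.node .none (.node (.node .none (.word [2,3,4,3,2,3,5,1,0,6,1,5,2,3,4,5,1,2,1,5,3,4,1,3,2,6,5,1,2,3,0,1,2,0,4,6,1,5,2,3,2,1,6,3,4,0,1,2,1]))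 .none)))) (.node .none (.node (.node (.node .none (.word [3,6,5,1,0,1,2,1,3,4,6,2,1,6,0,1,5,3,4,3,6,1,5,6,1,5,6,2,3,1,2,3,4,2,3,1])) .none) (.node .none (.word [4,3,2,3,4,6,1,0,2,3,2,1,6,2,3,4,3,5,1,0,2,1,0,6,1,5,3,4,0,1,2,3,5,1,2,3,4,1,2,3,1,2,0,1]))))))

/-- A subtree. -/
def sub74 : WTree :=
  (.node (.node sub70 sub71) (.node sub72 sub73))

/-- A subtree. -/
def sub75 : WTree :=
  (.node (.node (.node .none (.node (.node (.node (.node .none (.word [0,1,4,6,5,1,2,3,6,1,5,2,1,6,5,3,4,0,1,2,1,4,3,5,1,2,3,0,6,1,2,5,1,6,5,4,2,3,2,1,0,1,6,1])) (.word [5,1,0,2,1,3,2,6,5,1,5,2,3,2,1,0,4,5,1,6,1,0,2,3,2,1,6,5,4,0,1,3,2,6,1,3,4,2,3,2,1,6,4,3,2,3,1])) .none) .none)) (.node (.node .none (.node .none (.node (.node .none (.word [4,5,1,0,2,1,3,2,3,4,6,0,1,2,0,1,5,4,3,2,1,0,1,2,3,4,2,1,0,2,1,3,2,6,1,5,3,2,0,1,6,2,3,1,2,0]))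 (.word [1,2,3,4,6,1,0,1,2,5,1,0,1,6,3,2,1,0,2,1,0,5,4,1,2,1,2,5,1,2,3,2,1,5,3,0,2,1,0,6,5,4,3,1,2,3,4,0,1,2])))) (.node (.node (.word [0,1,0,2,1,5,1,2,3,4,2,3,1,0,2,5,6,1,0,2,1,5,2,3,2,0,1,6,5,1]) (.word [0,3,4,5,1,2,3,1,2,0,1,5,4,0,3,2,3,1,0,1,0,4,6,1,2,3,4,0,1,6,1,2,3,5,2,3,4,1,2,3,2,1,6,4,1,0])) (.node .none (.node (.node (.word [3,5,1,6,5,1,2,6,1,0,5,3,4,2,3,2,3,1,2,0,1,0,1,0,1,5,6,1,2,3,2,4,3,1,0,1,2,3,2,4,3,2,1,0,1]) (.word [6,1,5,1,0,1,2,1,3,2,6,3,1,2,3,4,0,1,0,3,2,0,1,2,3,2,4,6,1,5,0,1,2,3,2,0,1,6,1,0,1,0])) .none))))) (.node (.node (.node .none (.node (.node (.node .none (.word [6,5,1,0,2,3,6,1,2,1,5,3,4,1,2,3,2,4,3,2,1,2,4,6,5,1,2,0,1,6,5,2,1,0])) .none) .none)) .none) (.node (.node (.node .none (.node (.node .none (.word [0,6,1,2,3,5,1,2,3,4,0,1,6,3,2,0,1,0,1,2,4,3,6,1,0,6,2,3,4,1,2,1,4,3,2,6,5,1,6,4,3,2,1,0,1,6,4,2,0,1]))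 .none)) .none) (.node .none (.word [0,1,0,3,4,5,1,2,3,2,1,5,4,1,3,2,3,1,2,3,1,2,0,4,3,2,6,1,5,6,1,2,3,4,0,1,0,1,2,1,5,3,2,3,4,3,1,2,3,0,1])))))

/-- A subtree. -/
def sub76 : WTree :=
  (.node (.node (.node (.node (.node .none (.node .none (.word [3,2,6,1,2,3,5,1,0,1,2,6,3,4,1,2,1,0,5,3,2,3,6,1,5,1,2,0,1,5,6,3,2,3,4,1,2,0]))) .none) (.node (.node .none (.word [2,1,0,3,2,3,5,1,0,6,1,5,2,3,0,1,2,0,1,2,4,3,2,1,3,2,3,0,1,0,1,2,5,6,1,5,4,2,3,0,1,2,0,1,6,1])) .none)) .none) (.node (.node (.node (.node .none (.node (.node .none (.word [0,1,4,6,5,1,2,3,6,1,5,2,1,6,5,3,4,2,3,4,6,1,2,5,1,6,3,2,0,2,6,1,2,3,2,1,6,4,1,0,1,2,3,2,1,6,0])) .none)) .none) (.node (.node (.node (.node .none (.word [1,0,1,3,2,3,4,6,1,2,3,5,0,1,2,3,4,3,2,3,2,6,5,1,0,6,1,2,3,1,4,3,6,1,2,5,1,2,3,2,1,5,0,1,6,3])) .none) (.node (.node .none (.word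 [3,4,3,6,1,5,6,1,2,3,6,4,1,2,3,2,1,5,3,4,1,3,2,5,3,4,3,1,0,1,0,1,2,3,6,5,1,2,3,2,1,5,6,4,1,0])) .none)) (.node .none (.node (.word [1,6,5,1,0,2,1,0,3,2,4,6,3,4,1,2,3,1,3,6,1,0,1,2,3,1,0,1,2,1,0,6,3,4,3,2,1,0,1,2,3,2,3,4]) (.word [1,2,3,2,1,0,6,1,2,3,6,5,1,2,0,1,6,4,5,1,6,1,0,2,3,2,1,6,5,3,2,1,6,1,2,5,3,2,1,6,2,1,5,3,4]))))) (.node (.node (.node (.node (.node .none (.word [1,2,6,1,2,5,1,0,1,2,3,2,1,6,3,4,1,2,1,3,2,5,3,5,1,0,2,3,4,1,0,3,5,1,6,2,1,6,5,3,1,2,3,4,2,1,0])) .none) (.word [4,3,2,1,3,2,4,3,2,1,5,1,3,6,1,2,3,0,1,0,1,2,3,4,2,3,2,4,5,1,2,3,2,1,6,3,4,3,2,0,1,0,1])) .none) .none)))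

/-- A subtree. -/
def sub77 : WTree :=
  (.node (.node (.node (.node (.node (.node (.node .none (.word [6,1,5,1,2,6,1,0,2,1,5,3,2,1,0,1,4,2,3,2,3,1,2,3,0,1,2,3,2,4,1,0,3,5,1,6,2,1,6,5,3,4,1,2,3,2,1,0])) .none) .none) (.node .none (.word [2,5,1,0,2,1,3,2,1,3,2,1,5,4,3,2,3,4,6,5,1,2,6,1,5,3,2,1,0,5,6,1,2,3,2,4,3,2,1,6,1,5,3,2,3,1,0]))) (.node (.node .none (.node .none (.word [6,1,0,2,3,2,1,5,6,1,2,3,2,1,6,4,3,2,3,1,2,3,5,1,2,3,4,0,1,2,0,1,3,2,3,1,2,5,1,2,6,0,1,6,3,2,3,4,0]))) (.node (.node (.node .none (.word [2,1,4,6,1,0,1,0,2,1,3,2,1,5,1,6,4,3,2,1,0,3,2,1,5,6,1,2,6,5,3,4,3,2,3,6,1,5,0,1,2,3,2,1,5,6,3])) .none) .none))) (.node (.node (.node .none (.node (.node .none (.word [0,3,2,6,1,0,1,2,1,3,5,2,1,5,6,4,2,3,1,5,1,2,3,4,3,2,1,5,1,6,3,2,1,0,1,5,4,2,3,2])) .none)) (.node (.node .none (.node .none (.word [6,5,1,2,3,2,4,3,6,2,1,5,3,1,0,1,2,3,6,1,2,0,1,5,1,2,1,6,5,1,2,3,4,1,2,3,2,1,6,2,3,0])))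 .none)) .none)) (.node (.node (.node .none (.node (.node .none (.node .none (.word [6,1,0,2,3,2,1,5,6,1,2,3,2,1,6,4,3,2,3,0,2,1,4,6,1,5,1,0,1,2,0,1,3,2,4,3,6,1,5,1,2,0,1,0,1,6,2,1,5]))) .none)) (.node (.node (.node .none (.word [])) .none) .none)) (.node .none (.node (.node .none (.node (.node .none (.word [2,3,5,1,0,2,1,3,2,5,4,3,2,3,4,2,1,0,4,5,1,2,3,6,1,2,1,0,1,3,4,3,2,3,6,1,6,2,1,0,1,6,1,5,3,4,2,1])) .none)) .none))))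

/-- A subtree. -/
def sub78 : WTree :=
  (.node (.node (.node (.node (.node (.node (.node .none (.word [1,0,3,2,1,3,2,3,6,5,1,2,0,1,6,0,1,6,1,2,3,2,0,1,6,2,0,4,6,1,2,3,2,1,2,0,1,6,5,3,2,1,6,3,4,0])) .none) (.node (.node .none (.word [0,1,4,3,5,1,0,1,2,0,1,5,3,4,2,3,1,2,0,1,5,4,3,6,1,2,5,1,6,3,1,0,1,2,3,4,3,1,2,3,1,0,1,2,3])) .none)) .none) .none) (.node .none (.node (.node .none (.word [0,6,1,2,3,5,1,2,3,4,0,1,6,3,2,0,1,0,5,1,2,3,6,1,2,5,3,1,0,2,1,4,6,2,3,0,1,2,0,1,6,2,3])) (.node .none (.node (.word [2,1,4,3,5,2,3,4,1,2,6,5,1,6,5,1,0,5,1,0,1,2,3,5,4,1,0,2,1,3,2,4,3,5,2,1,6,3,2,3,4,1,2,3,2,0]) (.word [0,1,2,1,3,0,1,2,1,4,5,1,2,3,1,2,0,1,5,4,0,1,0])))))) (.node (.node (.node (.word [0,1,2,4,6,1,0,2,5,1,3,2,1,6,3,4,1,6,1,0,1,5,6,1,0,6,1,2,3,2,4,1,6,1,5,3,2,1,0,1,5,6]) (.node (.node (.word [1,0,1,0,2,4,3,2,6,1,0,5,1,2,4,2,3,2,3,2,5,4,1,0,2,6,1,0,1,2,3,2,0,1,6,1,5,4,3,2,1,6,2,1])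 (.word [0,1,2,3,2,1,4,3,2,3,0,1,4,2,3,2,1,5,1,2,3,2,1,5,3,1,0,1,2,3,2,4,3,2,1,0,5,1,2,0,1,5,3,2,3])) (.node (.node .none (.word [2,6,5,1,0,2,1,3,2,3,6,1,2,3,2,1,5,1,4,3,2,5,1,0,1,5,2,1,4,3,2,5,1,0,1,6,1,2,3,1,0,1,2])) .none))) (.node .none (.node .none (.node (.node .none (.word [1,0,5,1,3,2,3,2,1,5,4,3,0,1])) .none)))) (.node (.node .none (.node .none (.node (.node .none (.word [2,4,3,2,5,1,0,6,1,2,1,5,3,4,2,0,3,6,1,5,6,1,2,1,6,3,0,4,5,6,1,2,5,3,2,1,0,1,6,3,2,1,5,1])) .none))) .none)))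

/-- A subtree. -/
def sub79 : WTree :=
  (.node (.node sub75 sub76) (.node sub77 sub78))

/-- Points. -/
def levX3pts0 : List ℕ := [6,21,24,31,37,52,53,85,99,109,145,146,154,159,160,169,174,181,186,208,230,234,243,250,257,261,281,282,292,296,297,309,310,315,330,331,352,354,355,365,367,380,391,392,396,429,465,469,473,474,475,476,483,484,486,494,495,509,512,524,562,579,580,582,599,600,602,614,621,637,638,645,652,653,666,671,672,680,684,698,709,710,721,726,734,776,779,786,792,798,800,802,810,839,858,864,866,870,877,881,882,889,894,904,908,931,933,960,961,968,976,977,987,996,1007,1031,1039,1049,1074,1083,1084,1086,1091,1115,1122,1138,1144,1146,1171,1176,1204,1223,1233,1242,1257,1260,1273,1274,1278,1285,1295,1307,1318,1319,1320,1322,1331,1336,1342,1346,1360,1371,1393,1399,1401,1409,1410,1439,1443,1444,1457,1460,1471,1489,1496,1501,1503,1507,1526,1538,1540,1545,1558,1572,1573,1633,1644,1649,1662,1672,1680,1687,1696,1703,1706,1708,1726,1745,1758,1760,1762,1770]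

/-- A level. -/
def levX3 : Level :=
  ⟨599, (.node (.node sub64 sub69) (.node sub74 sub79)), levX3pts0⟩

/-- A subtree. -/
def sub80 : WTree :=
  (.node .none (.word [4,3,2,1,0,6,1,0,1,6,4,2,3,5,2,1,5,3,2,0,3,4,3,2,1,5,1,0,5,1,6,0,1,2,3,2,1,5,3,2,0]))

/-- A subtree. -/
def sub81 : WTree :=
  (.node .none (.node .none (.node (.node (.node (.node (.node .none (.word [])) .none) .none) .none) .none)))

/-- A subtree. -/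
def sub82 : WTree :=
  (.node (.node sub81 .none) .none)

/-- A subtree. -/
def sub83 : WTree :=
  (.node .none (.node .none (.node .none (.node .none (.node .none (.node .none (.word [6,5,1,0,2,3,4,6,1,2,5,3,4,2,3,0,1,5,1,2,5,1,2,3,4,1,5,2,5,1,0,2,1,6,2,3,2,0,1,5,4,3,0])))))))

/-- A subtree. -/
def sub84 : WTree :=
  (.node (.node .none sub83) .none)

/-- Points. -/
def levX4pts0 : List ℕ := [4,1019,1073]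

/-- A level. -/
def levX4 : Level :=
  ⟨1073, (.node (.node sub80 .none) (.node sub82 sub84)), levX4pts0⟩

/-- The levels. -/
def levX : List Level := [levX0,levX1,levX2,levX3,levX4]

/-- A subtree. -/
def sub85 : WTree :=
  (.node (.node (.node (.node (.node (.node (.node (.word [6,1,2,3,4,2,3,2,1,6,5,1]) (.word [5,1,0,1,6,1])) (.node (.word [0,1,5,0,1,2,0]) (.word [4,3,1,2,0,1,6,1]))) (.node (.node (.word [1,6,5,1,6,4,3,2]) (.word [2,1,6,4,3,1,2,1])) (.word [2,3,2,0,1,6,0,1]))) (.node (.node (.node (.word [3,1,2]) (.word [5,3,1,2,0,1,6,0,1])) (.node (.word [1,0,1,6,1,2]) (.word [0,1,6,5,3,2,1,6]))) (.node (.node (.word [1,6,5,1,6,3,2]) (.word [5,1,0,1,2,1,0,1,6,1,0])) (.word [5,1,0,1,2,1,0])))) (.node (.node (.node (.node (.word [1,5,6,4,3,1,2]) (.word [6,0,1,5,6,4,3,2,1])) (.node (.word [2,1,5,2,0,1,0])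 (.word [6,5,1,6,4,3,2,1]))) (.node (.node (.word [6,1]) (.word [3,2,0,1,6])) (.word [2,1,6,5,1,6,2]))) (.node (.node (.node (.word [5,1,2,1]) (.word [5,6,1,2,0,1,0])) (.node (.word [6,0,1,5,0,1]) (.word [2,3,0,1,2,0,1,6,1]))) (.node (.node (.word [1,6,2,0,1]) (.word [2,1,6,4,3,2,0,1,0])) (.word [4,3,2,0,1]))))) (.node (.node (.node (.node (.node (.word [3,2,0,1,6,4,3,1,0,1,2]) (.word [2,1,0,1,6,2,0,1,0])) (.node (.word [3,2,0,1,6,0,1,2,0]) (.word [3,2,0,1,6,1,2,1,0]))) (.node (.node (.word [0,1,6,3,1,2]) (.word [6,3,1,2,0,1])) (.word [5,4,3,2,1,6,2,1]))) (.node (.node (.node (.word [6,2,1,5,6,1,2]) (.word [2,0,1,6,1,2,1,0,1])) (.node (.word [5,0,1,6,3,2,1]) (.word [3,2,3,0,1,2,0,1]))) (.node (.node (.word [6,4,2,3,2,0]) (.word [6,3,0,1,2,0,1])) (.word [2,1,6,3,1,2,1])))) (.node (.node (.node (.node (.word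 [6,1,5,4,3,0,1,2,0]) (.word [1,2,3,2,1,0,1])) (.node (.word [5,1,6,2,0]) (.word [1,6,5,2,1,6]))) (.node (.node (.word [1,5,2,3,0,1,2,0]) (.word [6,1,2,0,1,0,1,6,1])) (.word [1,6,5,2,3,2,1,0]))) (.node (.node (.node (.word [6,0,1,5,0,1,2]) (.word [3,1,2,0,1,6,0])) (.node (.word [5,2,0,1,6,2,0,1,0]) (.word [6,3,1,2,3,1,2,0,1]))) (.node (.node (.word [2,1,6,0,1]) (.word [3,0,1,2,1,0,1,6,1])) (.word [1,5,2,1,6,2])))))) (.node (.node (.node (.node (.node (.node (.word [1,5,3,4,2,3,2,1,6,5,1]) (.word [0,1,2,0,1,6,1,0,1])) (.node (.word [2,3,2,1,6,0,1]) (.word [6,1,0,1,6,5,2,1,6]))) (.node (.node (.word [0,1,2,0]) (.word [2,1,5,6,4,3,2,1])) (.word [1,6,2,1,0,1]))) (.node (.node (.node (.word [5,6,2,3,1,2,0]) (.word [5,2,1,6,2,1,0])) (.node (.word [6,2,3,2,0,1]) (.word [5,2,0,1,6,3,2,1,0]))) (.node (.node (.word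 [5,2,1,0]) (.word [3,2,1,0,1,6,0,1,0])) (.word [0,1,6,5,2,3,2,1])))) (.node (.node (.node (.node (.word [1,6,4,3,0,1,2]) (.word [4,2,3,2,1,6])) (.node (.word [2,0,1,0]) (.word [0,1,2,3,2,0,1]))) (.node (.node (.word [5,2,1,6,0,1,0]) (.word [0,1,2,0,1,6,0,1])) (.word [1,6,3,1,2,1,0]))) (.node (.node (.node (.word [0,1,5,6,1,2,0]) (.word [4,3,2,1,0])) (.node (.word [0,1,2,1,0,1,6,1,0,1]) (.word [2,3,2,1,6,3,2,1,0]))) (.node (.node (.word [0,1,6,2]) (.word [3,2,0,1,6,2,1,0])) (.word [4,3,1,0,1,2,1]))))) (.node (.node (.node (.node (.node (.word [2,1,6,5,1]) (.word [0,1,6,5,1,6])) (.node (.word [2,1,6,2,1,0,1,2]) (.word [5,1,2,0,1,6]))) (.node (.node (.word [1,5,1,2,1]) (.word [4,1,2,3,2,1])) (.word [5,2,1,6,2,1]))) (.node (.node (.node (.word [5,1,2,0]) (.word [6,4,3,2,3,2,1])) (.node (.word [1,2,3,4,2,3,2])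 (.word [2,1,6,1,5,2,1,6]))) (.node (.node (.word [2,1,6,1,2]) (.word [5,2,1,6,3,2,1,0])) (.word [2,1,5,6,3,2,1])))) (.node (.node (.node (.node (.word [5,4,3,0,1,2,0]) (.word [1,2,1,0,1,6,1,2,0])) (.node (.word [1,6,5,2,3,2,1]) (.word [4,3,2,1,0,1,6,0,1]))) (.node (.node (.word [5,4,3,2,1,6,0,1]) (.word [5,1,6,5,3,2,1,6])) (.word [0,1,5,2,0,1]))) (.node (.node (.node (.word [2,3,1,2,0]) (.word [3,2,1,6,1,0])) (.node (.word [1,2,3,2,1,5,6,1]) (.word [5,3,2,3,0,1,2,0,1]))) (.node (.node (.word [5,1,0,1,6,1,2]) (.word [1,6,5,2,1,6,2,1])) (.word [2,1,0,1,6,0,1])))))))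

/-- A subtree. -/
def sub86 : WTree :=
  (.node (.node (.node (.node (.node (.node (.node (.word [4,2,3,2,1,6,5,1]) (.word [3,2,3,2,1,6,5,2,1,6])) (.node (.word [6,1,5,4,3,2,0,1]) (.word [6,5,1,6,5,1,2,1,0,1]))) (.node (.node (.word [1,6,3,1,2,0]) (.word [1,2,0,1,6,1,2,1])) (.word [1,5,1,2,0,1,0]))) (.node (.node (.node (.word [0,1,5,6,1,2]) (.word [2,1,0,1,6,1,2,1,0,1])) (.node (.word [1,5,1,6,2,1]) (.word [5,1,6,5,4,3,2,1,6]))) (.node (.node (.word [5,0,1,2,1,0]) (.word [2,0,1,6,3,1,2,0,1,0])) (.word [1,6,0])))) (.node (.node (.node (.node (.word [5,4,3,1,2,0]) (.word [6,4,3,0,1,2,0,1])) (.node (.word [5,6,3,2,1,0]) (.word [1,2,0,1,5,6,3,2,1]))) (.node (.node (.word [2,0,1,5,6,1,2,0]) (.word [1,2,1,0,1,6])) (.word [1,5,1,6,3,1,2,1,0]))) (.node (.node (.node (.word [0,1,6,4,3,2]) (.word [3,2,0,1,6,1,2,0]))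 (.node (.word [3,2,0,1,6,1,0,1,2,0]) (.word [6,1,2,0,1,6,0]))) (.node (.node (.word [1,5,3,1,2,1]) (.word [4,3,2,1,6,1,2,0,1,0])) (.word [2,1,6,1,2,0,1]))))) (.node (.node (.node (.node (.node (.word [2,1,5,6,4,3,1,2]) (.word [2,0,1,6,1,2,0,1,0])) (.node (.word [3,2,1,6,1,0,1]) (.word [5,1,6,5,2,1,6,2,0]))) (.node (.node (.word [6,5,3,2,1]) (.word [3,1,2,1,0,1])) (.word [3,2,0,1,6,2,0,1]))) (.node (.node (.node (.word [2,1,6,5,1,2,3,2,0]) (.word [0,1,2,0,1,6,1,0])) (.node (.word [0,1,6,1,2,0,1]) (.word [6,5,1,6,5,2,1,6,0]))) (.node (.node (.word [1,5,1,6,1,2,1]) (.word [6,5,4,3,2,1,6])) (.word [2,1,6,2,1])))) (.node (.node (.node (.node (.word [0,1,6,3,0,1,2]) (.word [5,1,6,3,2,1,5,6,2,1])) (.node (.word [2,1,5,6,1,0]) (.word [6,1,2,1,0,1,6]))) (.node (.node (.word [6,1,5,2,0,1,0]) (.word [4,3,0,1,2,1,0,1,6,1]))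 (.word [0,1,6,2,0,1,0]))) (.node (.node (.node (.word [0,1,6,5,1,6,4,3,2]) (.word [3,2,1,0,1,2,1,0])) (.node (.word [6,1,0,1,0]) (.word [6,1,0,1,2,0,1,6]))) (.node (.node (.word [2,0,1,6,1,0,1,2,0]) (.word [3,1,2,0,1,6,1,2,1])) (.word [2,0,1,6,1])))))) (.node (.node (.node (.node (.node (.node (.word [2,3,2,1,6,5,1,0]) (.word [1,2,0,1,6,0,1,0])) (.node (.word [2,1,0,1,6,2]) (.word [0,1,6,4,3,1,2,1,0]))) (.node (.node (.word [5,6,1,0]) (.word [1,6,4,2,3,2,0,1])) (.word [6,0,1,5,6,2,1]))) (.node (.node (.node (.word [5,2,3,1,2,0]) (.word [6,2,1,5,2,1,6,1,2,1])) (.node (.word [2,1,6,2,0,1]) (.word [2,1,0,1,5,6,4,3,2,1]))) (.node (.node (.word [1,2,1,0]) (.word [1,0,1,5,6,4,3,2,1])) (.word [6,5,1,6,2,1])))) (.node (.node (.node (.node (.word [0,1,5,6,3,1,2]) (.word [6,1,2,0,1,0])) (.node (.word [5,4,3,1,2,1,0])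 (.word [2,1,5,2,1,6,4,3,2,1]))) (.node (.node (.word [6,0,1,5,0,1,2,0]) (.word [5,1,6,2,1,5,6,2,1])) (.word [3,2,1,6,1,2,0]))) (.node (.node (.node (.word [1,5,2,1,6,0,1,0]) (.word [1,6,5,1,2,1,0,1,6])) (.node (.word [3,2,1,6,0,1,0]) (.word [6,5,2,3,1,2,0,1]))) (.node (.node (.word [2,3,4,2,3,2]) (.word [2,1,0,1,2,0,1,6,1])) (.word [5,2,1,6,1,2,0,1]))))) (.node (.node (.node (.node (.node (.word [5,1,6,4,3,0,1,2,0]) (.word [1,6,2,0,1,5,0,1])) (.node (.word [1,6,1,2,3,2,0]) (.word [5,4,3,2,1,6]))) (.node (.node (.word [2,3,2]) (.word [6,1,5,2,1,6,2])) (.word [1,6,5,2,1,6,2,0,1]))) (.node (.node (.node (.word [5,0,1,2]) (.word [6,4,2,3,2,1,0])) (.node (.word [0,1,5,0,1]) (.word [6,5,1,6,5,2,1,6,2]))) (.node (.node (.word [1,5,6,2,1]) (.word [1,6,5,3,2,1,6])) (.word [6,4,3,2,1])))) (.node (.node (.node (.node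 (.word [6,3,1,2]) (.word [0,1,2,0,1,6,2,1,0])) (.node (.word [3,2,1,5,2,0,1]) (.word [6,1,2,0,1,6]))) (.node (.node (.word [5,3,2,1,6,2,0,1]) (.word [1,6,2,1,0,1,6,1,0])) (.word [6,5,1,6,3,2,0,1,0]))) (.node (.node (.node (.word [2,0,1,6,0,1,2]) (.word [1,6,4,2,3,2,1])) (.word [1,6,4,3,0,1,2,0,1])) (.node (.node (.word [2,1,6,1,0,1,2,0]) (.word [3,2,1,6,4,3,1,2,1])) (.word [1,6,2,1,5,0,1])))))))

/-- A subtree. -/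
def sub87 : WTree :=
  (.node (.node (.node (.node (.node (.node (.node (.word [3,4,2,3,2,1,6,5,1]) (.word [3,1,2,0,1,6,2,1,0,1])) (.node (.word [2,0,1,5,0,1,2]) (.word [3,0,1,2,0,1,6,1]))) (.node (.node (.word [1,6,5,3,4,1,2,3,2,0]) (.word [5,6,3,1,2,0,1])) (.word [1,5,1,6,3,2,1,0]))) (.node (.node (.node (.word [5,1,6,5,1]) (.word [3,2,0,1,6,2,1])) (.node (.word [5,1,6,3,4,2,3,2]) (.word [3,2,0,1,0,1,6,1]))) (.node (.node (.word [6,5,3,4,1,2,3,2,0]) (.word [1,0,1,2,1,0,1,6,1])) (.word [6,0])))) (.node (.node (.node (.node (.word [3,2,1,6,5,4,1,2,3,2,0]) (.word [1,6,5,4,3,1,2,0,1])) (.node (.word [2,1,6,1,2,0]) (.word [1,6,2,3,1,2,0,1]))) (.node (.node (.word [1]) (.word [1,2,0,1,6,1])) (.word [1,6,4,3,2,3,2,1]))) (.node (.node (.node (.word [3,1,0,1,2]) (.word [2,1,6,2,1,0])) (.node (.word [2,0,1,6,1,0,1])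 (.word [6,3,0,1,2,0,1,6,1]))) (.node (.node (.word [6,4,3,0,1,2,1]) (.word [1,2,0,1,6,1,2,1,0,1])) (.word [0,1,6,3,2,1]))))) (.node (.node (.node (.node (.node (.word [3,2,1,6,4,3,0,1,2]) (.word [5,1,2,0,1,6,2,0,1])) (.node (.word [1,6,3,2,1,5,6,1]) (.word [3,2,1,6,2,1,0]))) (.node (.node (.word [6,4,1,2,3,2,0]) (.word [1,2,0,1,6,2,0,1])) (.word [0,1,6,3,2,1,5,6,1]))) (.node (.node (.node (.word [1,6,3,1,0,1,2]) (.word [0,1,6,5,1,2,0,1,6])) (.node (.word [5,2,0,1,6,2,0,1]) (.word [5,3,2,3,1,2,0,1]))) (.node (.node (.word [0,1,0]) (.word [4,3,0,1,2,0,1])) (.word [5,6,1,2,0,1])))) (.node (.node (.node (.node (.word [1,5,6,4,3,1,2,0]) (.word [0,1,6,2,1,0,1])) (.node (.word [6,2,0]) (.word [5,1,2,0,1,6,1]))) (.node (.node (.word [0,1,6,5,1,6,3,2]) (.word [0,1,2,0,1,6,1,0,1,0])) (.word [5,4,3,2,1,0]))) (.node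 (.node (.node (.word [1,5,4,2,3,0,1,2,0]) (.word [1,0,1,6,2,1,0])) (.node (.word [6,0,1,5,0,1,0]) (.word [6,3,1,2,0,1,6,1]))) (.node (.node (.word [2,0,1,5,6,1]) (.word [5,1,2,1,0,1,6,1,0])) (.word [2,1,6,2,1,0,1])))))) (.node (.node (.node (.node (.node (.node (.word [6,2,1,5,6,4,3,1,2]) (.word [1,5,2,1,0,1,6,1,2])) (.node (.word [1,5,2,0,1,0]) (.word [5,2,1,6,3,1,2,1,0]))) (.node (.node (.word [2,1,6,4,3,2,0]) (.word [1,6,5,3,1,2,0,1])) (.word [1,6,3,2,1,5,6,2,1]))) (.node (.node (.node (.word [6,4,1,2,3,0,1,2,0]) (.word [6,1,2,0,1,6,2,0,1,0])) (.node (.word [3,2,0,1]) (.word [3,2,0,1,6,5,1,6]))) (.node (.node (.word [5,3,1,2,1,0]) (.word [6,3,2,0,1,0,1,6,1])) (.word [1,6,1,2,3,2,1])))) (.node (.node (.node (.node (.word [5,2,1,6,5,1]) (.word [2,3,2,0,1,6,1])) (.node (.word [6,0,1,5,2,0,1]) (.word [6,2,3,1,2,0,1])))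 (.node (.node (.word [6,3,1,0,1,2,0]) (.word [5,1,6,2,1,5,0,1])) (.word [1,6,2,1,0]))) (.node (.node (.node (.word [0,1,6,1,0,1,2]) (.word [6,1,5,3,1,2,0,1])) (.node (.word [1,6,2,1,5,6,1,0]) (.word [6,0,1,2,0,1,6,0]))) (.node (.node (.word [1,2,3,2,0]) (.word [5,1,2,0,1,6,1,2,1])) (.word [6,3,1,0,1,2,1]))))) (.node (.node (.node (.node (.node (.word [1,5,2,1,6,4,3,0,1,2]) (.word [6,2,1,0,1,0])) (.node (.word [5,2,1,6,5,1,6,2]) (.word [3,0,1,2,0,1,6,0]))) (.node (.node (.word [2]) (.word [0,1,5,2,0,1,6,2,0,1])) (.word [2,1,5,2,1,6,1,2,1]))) (.node (.node (.node (.word [4,3,2,0]) (.word [5,1,6,2,1,5,0,1,0])) (.node (.word [6,1,0,1]) (.word [4,3,1,2,1,0,1,6,1,0]))) (.node (.node (.word [2,1,6,3,2]) (.word [2,3,2,1,6,0])) (.word [1,6,5,1,2,0,1])))) (.node (.node (.node (.node (.word [4,3,0,1,2,0]) (.word [5,1,2,0,1,6,2,0,1,0]))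 (.node (.word [1,0,1,6,2,0,1]) (.word [1,5,2,1,6,5,1,6]))) (.node (.node (.word [1,0,1,6,3,1,2,0]) (.word [0,1,2,0,1,6,0,1,0])) (.word [1,5,4,3,1,2,1,0]))) (.node (.node (.node (.word [0,1,6,0,1,2,0]) (.word [1,0,1,5,6,3,2,1])) (.node (.word [6,1,5,6,4,3,2,1]) (.word [1,2,3,1,0,1,2,0,1]))) (.node (.node (.word [2,0,1,5,6,1,0]) (.word [5,2,1,6,5,1,2,0,1,6])) (.word [5,2,1,6])))))))

/-- A subtree. -/
def sub88 : WTree :=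
  (.node (.node (.node (.node (.node (.node (.node (.word [4,2,3,2,1,6,5,1,0]) (.word [6,1,5,2,1,0,1,6,1])) (.node (.word [0,1,0,1,6,2,0]) (.word [0,1,2,1,0,1,6,1,0]))) (.node (.node (.word [6,5,2,1,0]) (.word [2,0,1,5,6,3,2,1])) (.word [3,1,2,3,1,2,1,0]))) (.node (.node (.node (.word [1,6,3,0,1,2,0]) (.word [5,1,2,0,1,6,2,1,0])) (.node (.word [6,3,2,1]) (.word [1,2,1,0,1,6,1,0]))) (.node (.node (.word [1,6,3,2,0]) (.word [6,2,1,0,1,6,0])) (.word [2,1,0,1,0])))) (.node (.node (.node (.node (.word [5,4,3,0,1,2]) (.word [6,3,1,2,1,0,1])) (.node (.word [6,5,4,3,2,1,0]) (.word [2,1,5,1,6,4,3,2,1]))) (.node (.node (.word [2,0,1,6,1,0,1,2]) (.word [1,2,1,0,1,6,0,1])) (.word [6,3,2,1,5,0,1,0]))) (.node (.node (.node (.word [6,0,1]) (.word [6,5,3,2,1,6,2,0])) (.node (.word [3,2,1,5,2,1,6,1,2,1]) (.word [3,2,3,2,1,6,2,1,0])))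 (.node (.node (.word [6,5,1,6,2,0,1]) (.word [5,3,2,1,6,4,3,2,1,0])) (.word [5,1,2,0,1]))))) (.node (.node (.node (.node (.node (.word [5,6,4,3,1,2]) (.word [6,3,2,1,0,1,2,0])) (.node (.word [5,3,2,1,6,2,1]) (.word [5,2,3,2,1,6,4,3,2,1]))) (.node (.node (.word [6,3,0,1,2,1]) (.word [5,1,6,4,3,1,2,0,1])) (.word [3,1,2,0,1,6,1,0,1]))) (.node (.node (.node (.word [5,3,0,1,2,0]) (.word [2,1,6,5,2,1,6,2])) (.node (.word [5,2,1,6,2]) (.word [3,2,1,6,4,3,2,1,0]))) (.node (.node (.word [5,3,0,1,2,1]) (.word [1,2,0,1,0,1,6])) (.word [2,1,6])))) (.node (.node (.node (.node (.word [2,1,6,3,1,0,1,2]) (.word [4,3,2,1,6,2,0,1,0])) (.node (.word [1,0,1,5,6,1,2,1]) (.word [6,5,1,2,0,1,6,1]))) (.node (.node (.word [0,1,0,1,6,2]) (.word [2,1,6,5,4,3,2,1,6])) (.word [1,6,0,1,5,2,0,1]))) (.node (.node (.node (.word [5,6,1,5,0,1,2])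 (.word [3,2,0,1,6,2,0])) (.node (.word [6,2,1,0,1,6,2,0]) (.word [6,0,1,2,0,1,6]))) (.node (.node (.word [1,2,0,1,5,6,1]) (.word [4,3,2,0,1,6,1,2,1,0])) (.word [0,1,0,1,6])))))) (.node (.node (.node (.node (.node (.node (.word [5,2,3,2,1,6,5,1]) (.word [2,0,1,6,2,0,1,0])) (.node (.word [6,3,2,1,5,6,2,1]) (.word [0,1,6,3,2,1,0]))) (.node (.node (.word [5,6,3,1,2,1]) (.word [2,1,6,4,3,2,1])) (.word [4,3,2,1,6,1,0,1]))) (.node (.node (.node (.word [1,5,6,3,1,2,0]) (.word [3,1,2,1,0,1,6,1,0,1])) (.node (.word [4,3,0,1,2,1]) (.word [5,2,1,6,4,3,2,1,0]))) (.node (.node (.word [0,1,6,3,2,0]) (.word [2,1,6,5,4,3,1,2,0,1])) (.word [6,5,1,0,1,2,1])))) (.node (.node (.node (.node (.word [1,6,4,3,0,1,2,0]) (.word [5,1,2,0,1,0])) (.node (.word [3,1,2,1,0]) (.word [6,1,5,2,1,6,0]))) (.node (.node (.word [6,2,0,1,5,0,1,2])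 (.word [3,1,0,1,2,1,0,1,6,1])) (.word [2,1,5,6,2,1,0]))) (.node (.node (.node (.word [5,1,6,0,1,0]) (.word [6,5,2,1,6,3,2,0,1,0])) (.node (.word [2,0,1,6,1,0,1,0]) (.word [3,1,2,3,1,2,0,1]))) (.node (.node (.word [1,6,1,0,1]) (.word [4,3,1,2,1,0,1,6,1])) (.word [1,0,1,6,2,1]))))) (.node (.node (.node (.node (.node (.word [6,5,4,2,3,1,2,0]) (.word [0,1,5,4,3,2,0,1])) (.node (.word [1,5,1,6,1,2,1,0]) (.word [2,1,0,1,6,1,0]))) (.node (.node (.word [4,1,2,3,2,0]) (.word [1,5,2,1,6,0])) (.word [5,2,1,6,2,1,0,1]))) (.node (.node (.node (.word [1,6,4,3,2]) (.word [2,1,6,3,1,2,1,0])) (.node (.word [2,0,1,6,0,1]) (.word [2,0,1,6,4,3,2,1,0]))) (.node (.node (.word [6,5,2,3,2,1]) (.word [1,0,1,6,2,1,0,1])) (.word [6,4,2,3,2,0,1])))) (.node (.node (.node (.node (.word [6,0,1,2]) (.word [3,2,1,0,1,6,1,2,0])) (.node (.word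 [2,1,6,1,2,1]) (.word [4,3,2,1,0,1,6,1,0]))) (.node (.node (.word [5,1,6,3,2,1,0,1]) (.word [3,2,1,6,1,2,0,1,0])) (.word [6,1,0,1,2,1,0]))) (.node (.node (.node (.word [5,2,1,6,2,3,1,2,0]) (.word [2,1,6,4,2,3,2,1])) (.word [5,4,3,2,0,1,0])) (.node (.node (.word [1,6,1,0,1,0]) (.word [0,1,6,5,2,1,6,2])) (.word [1,6,2,1,5,6,2,1])))))))

/-- A subtree. -/
def sub89 : WTree :=
  (.node (.node sub85 sub86) (.node sub87 sub88))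

/-- A subtree. -/
def sub90 : WTree :=
  (.node (.node (.node (.node (.node (.node (.node (.word [2,3,4,2,3,2,1,6,5,1]) (.word [5,1,2,1,0,1,6,2,0,1])) (.node (.word [5,1,2,3,2,1,5,6,1]) (.word [1,6,5,1,2,0,1,6]))) (.node (.node (.word [6,5,4,1,2,3,2,0]) (.word [5,4,2,3,2,0,1])) (.word [1,6,5,1,2,0,1,0]))) (.node (.node (.node (.word [4,3,2]) (.word [2,3,1,2,0,1,6,0,1])) (.node (.word [2,1,6,2]) (.word [4,3,2,0,1,0,1,6,1]))) (.node (.node (.word [6,5,1,2,3,2,0]) (.word [5,3,2,1,6,1,2,0,1,0])) (.word [3,2,1,0,1,2,0])))) (.node (.node (.node (.node (.word [2,1,5,6,3,1,2]) (.word [2,3,2,1,5,6,2,1])) (.node (.word [3,2,1,5,0,1,0]) (.word [5,6,4,3,1,2,0,1]))) (.node (.node (.word [1,6,0,1]) (.word [6,5,2,1,6])) (.word [2,1,0,1,5,6,2,1]))) (.node (.node (.node (.word [0,1,2]) (.word [0,1,6,2,1,0])) (.node (.word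 [5,6,1,5,0,1]) (.word [6,5,1,2,0,1,6]))) (.node (.node (.word [1,5,2,1]) (.word [2,3,1,2,1,0,1,6,1])) (.word [4,3,2,1]))))) (.node (.node (.node (.node (.node (.word [5,2,3,2,1,6,5,1,0]) (.word [5,3,2,0,1,6,2,0,1,0])) (.node (.word [2,1,0,1,6,0,1,2,0]) (.word [2,3,2,1,6,1,2,1,0]))) (.node (.node (.word [1,6,3,2]) (.word [2,3,1,2,0,1])) (.word [5,1,6,1,2,1,0,1]))) (.node (.node (.node (.word [1,5,6,1,2]) (.word [1,5,0,1,6,2,1,0,1])) (.node (.word [3,1,0,1,2,1]) (.word [5,4,3,0,1,2,0,1]))) (.node (.node (.word [6,1,0]) (.word [6,4,3,1,2,0,1])) (.word [5,2,3,2,0,1])))) (.node (.node (.node (.node (.word [6,4,2,3,0,1,2,0]) (.word [3,4,1,2,3,2,1,0])) (.node (.word [0,1,6,2,0]) (.word [3,2,1,0,1,6,1]))) (.node (.node (.word [5,6,1,5,0,1,2,0]) (.word [1,6,2,0,1,0,1,6,1])) (.word [6,3,2,3,2,1]))) (.node (.node (.node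 (.word [5,2,3,0,1,2,0]) (.word [6,0,1,0,1,2,1,0])) (.node (.word [2,1,6,2,1,0,1,2,0]) (.word [2,3,1,2,0,1,6]))) (.node (.node (.word [6,1,5,0,1]) (.word [1,2,0,1,0,1,6,1])) (.word [3,2,1,6])))))) (.node (.node (.node (.node (.node (.node (.word [5,4,2,3,2,1,6,5,1,0]) (.word [3,2,0,1,6,2,1,0,1,0])) (.node (.word [6,1,5,2,0,1]) (.word [1,6,2,1,0,1,6]))) (.node (.node (.word [3,1,0,1,2,0]) (.word [6,2,1,5,6,3,2,1])) (.word [2,1,5,1,6,1,2,1,0]))) (.node (.node (.node (.word [5,4,2,3,0,1,2,0]) (.word [1,6,5,3,2,1,6,2,1])) (.node (.word [5,4,3,2,1]) (.word [6,1,2,0,1,6,2,1,0]))) (.node (.node (.word [6,5,4,3,1,2,1,0]) (.word [6,1,2,1,0,1,0])) (.word [1,6,2,3,2,1])))) (.node (.node (.node (.node (.word [4,3,1,2]) (.word [1,0,1,6,3,2,0,1,0])) (.node (.word [2,1,0]) (.word [0,1,6,4,3,2,1,0]))) (.node (.node (.word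 [2,1,6,0,1,2,0]) (.word [6,1,2,0,1,6,0,1])) (.word [0,1,6,1,2,1,0]))) (.node (.node (.node (.word [0,1,6,4,2,3,1,2,0]) (.word [1,2,1,0,1,0])) (.node (.word [5,2,0,1,6,2,1,0,1]) (.word [5,0,1,2,0,1,6]))) (.node (.node (.word [6,2]) (.word [5,1,2,0,1,6,1,2,0])) (.word [5,1,6,3,2,1]))))) (.node (.node (.node (.node (.node (.word [5,1,6,4,3,0,1,2]) (.word [2,1,0,1,6,0,1,0])) (.node (.word [5,2,1,6,5,1,6,2,0]) (.word [6,3,1,2,0,1,6,0]))) (.node (.node (.word [2,1,6,0,1,2]) (.word [6,1,2,3,2,0,1])) (.word [3,2,0,1,6,1,2,0,1]))) (.node (.node (.node (.word [3,1,2,0]) (.word [0,1,6,2,1,0,1,6])) (.node (.word [1,6,3,4,2,3,2]) (.word [6,5,3,2,1,6,2,1,0]))) (.node (.node (.word [1,0,1,6,3,1,2]) (.word [6,0,1,2,1,0,1])) (.word [1,5,1,6,3,2,1])))) (.node (.node (.node (.node (.word [6,3,0,1,2,0]) (.word [5,6,1,2,0,1,6,2,0,1,0]))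 (.node (.word [0,1,6,2,3,2,1]) (.word [5,3,2,1,6,5,1,6]))) (.node (.node (.word [2,0,1,6,0,1,2,0]) (.word [5,3,1,2,1,0,1,6,1,0])) (.word [5,1,6,4,3,2,0,1,0]))) (.node (.node (.node (.word [1,5,6,1,2,0]) (.word [5,2,1,6,0])) (.node (.word [3,2,1,6,2,1,0,1]) (.word [6,4,3,1,2,0,1,6]))) (.node (.node (.word [5,3,2,1,6,0,1,0]) (.word [2,3,1,2,1,0,1,6,1,0])) (.word [5,1,6,5,1,6])))))))

/-- A subtree. -/
def sub91 : WTree :=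
  (.node (.node (.node (.node (.node (.node (.node (.word [5,3,4,2,3,2,1,6,5,1,0]) (.word [5,1,2,1,0,1,6,1,0,1])) (.node (.word [2,1,5,0,1,2,0]) (.word [0,1,6,1,2,1,0,1,0]))) (.node (.node (.word [2,1,6,4,3,1,2,0]) (.word [1,2,3,2,1,0])) (.word [6,3,2,1,0,1]))) (.node (.node (.node (.word [0,1,6,3,4,2,3,1,2,0]) (.word [5,1,6,2,1,0,1,2,1,0])) (.node (.word [5,6,2,3,2,1]) (.word [6,5,1,2,0,1,6,1,0]))) (.node (.node (.word [0,1,6,3,1,2,0]) (.word [1,6,3,2,1,0,1,2,0])) (.word [1,0,1,6,0])))) (.node (.node (.node (.node (.word [5,6,3,1,2]) (.word [3,2,1,0,1,6,2,0])) (.node (.word [5,2,0,1,0]) (.word [2,0,1,5,1,6,3,2,1]))) (.node (.node (.word [0,1,6,2,3,1,2,0]) (.word [5,2,1,6,5,1,6,0])) (.word [5,1,6,1,2,1,0]))) (.node (.node (.node (.word [6,4,3,2]) (.word [2,1,6,0])) (.node (.word [3,2,0,1,6,2,1,0,1]) (.word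 [2,0,1,6,3,2,1,0]))) (.node (.node (.word [5,0,1,6,2,0,1]) (.word [4,3,2,1,6,2,1,0])) (.word [0,1,2,0,1]))))) (.node (.node (.node (.node (.node (.word [6,5,4,3,1,2,0]) (.word [1,6,2,1,0,1,2,0])) (.node (.word [3,2,0,1,6,1,0,1]) (.word [3,2,1,6,4,3,2,1]))) (.node (.node (.word [5,2,1]) (.word [1,5,2,1,6,4,3,2,1])) (.word [3,2,1,6,1,2,0,1]))) (.node (.node (.node (.word [5,6,1,2,0]) (.word [3,1,2,0,1,6,1,0])) (.node (.word [2,1,0,1,2,1]) (.word [3,2,0,1,6,3,2,1,0]))) (.node (.node (.word [5,6,4,3,1,2,1]) (.word [1,2,3,1,2,1,0,1])) (.word [2,3,2,1,0])))) (.node (.node (.node (.node (.word [1,0,1,6,4,3,0,1,2]) (.word [4,3,1,2,0,1,6,0,1])) (.node (.word [1,5,0,1,0]) (.word [5,3,2,1,6,5,1,6,0]))) (.node (.node (.word [2,1,5,0,1,2]) (.word [2,1,6,5,3,2,1,6])) (.word [1,2,0,1,0]))) (.node (.node (.node (.word [3,4,2,3,1,2,0])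 (.word [0,1,5,2,1,6])) (.node (.word [0,1,6,2,0,1,5,0,1]) (.word [1,2,0,1,6,3,2,1,0]))) (.node (.node (.word [1,2,0,1,5,6,1,0]) (.word [4,3,2,1,6,5,2,1,6])) (.word [1,0,1,5,0,1])))))) (.node (.node (.node (.node (.node (.node (.word [3,2,1,6,5,1]) (.word [3,2,1,6,1,0,1,0])) (.node (.word [1,6,3,2,1,0,1]) (.word [1,6,4,3,2,1,0]))) (.node (.node (.word [5,1,0]) (.word [6,0,1,2,3,2,1])) (.word [2,0,1,5,6,2,1]))) (.node (.node (.node (.word [4,2,3,0,1,2,0]) (.word [2,3,2,1,6,4,3,1,2,1])) (.node (.word [1,2,0,1]) (.word [2,1,6,5,3,2,3,1,2,0,1]))) (.node (.node (.word [2,0]) (.word [5,0,1,6,2,1,5,0,1])) (.word [5,0,1,6,2,1])))) (.node (.node (.node (.node (.word [2,0,1,6,3,1,0,1,2]) (.word [0,1,2,0,1,0])) (.node (.word [3,0,1,2,1,0]) (.word [4,0,1,2,3,2,1]))) (.node (.node (.word [5,1,2,3,0,1,2,0]) (.word [3,2,1,0,1,6,1,0,1]))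 (.word [6,5,2,1,6,2,0]))) (.node (.node (.node (.word [1,6,3,1,0,1,2,0]) (.word [5,2,0,1,6,3,2,0,1,0])) (.node (.word [2,1,6,2,0,1,0]) (.word [1,2,0,1,5,6,4,3,2,1]))) (.node (.node (.word [1,6,4,2,3,2]) (.word [6,3,2,1,0,1,6,1])) (.word [1,6,2,3,2,1,0]))))) (.node (.node (.node (.node (.node (.word [5,2,1,6,3,0,1,2]) (.word [1,2,3,2,1,5,6,2,1])) (.node (.word [0,1,5,6,1,2,1,0]) (.word [4,3,2,1,6,0]))) (.node (.node (.word [1,6,4,2,3,2,0]) (.word [1,0,1,2,0,1,0])) (.word [0,1,6,5,1,2,1,0,1]))) (.node (.node (.node (.word [0,1,6,4,3,1,2]) (.word [1,6,4,3,1,2,1,0])) (.node (.word [1,0,1,6]) (.word [5,4,3,2,1,0,1,6,1]))) (.node (.node (.word [6,2,1]) (.word [1,2,3,2,0,1,6])) (.word [1,5,3,2,0,1])))) (.node (.node (.node (.node (.word [1,6,4,3,1,2]) (.word [3,1,2,0,1,6,2,0,1,0])) (.node (.word [5,2,3,2,1]) (.word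 [5,2,1,6,5,1,2,1,0,1]))) (.node (.node (.word [2,1,6,1,0,1,2]) (.word [6,1,2,0,1,6,0,1,0])) (.word [2,3,2,1,6,0,1,0]))) (.node (.node (.node (.word [1,0,1,6,0,1,2]) (.word [6,1,2,3,2,1])) (.word [6,2,3,1,2,1,0,1])) (.node (.node (.word [6,1,5,0,1,0]) (.word [2,3,2,1,6,4,3,2,1])) (.word [0,1,6,2,1,5,6,1])))))))

/-- A subtree. -/
def sub92 : WTree :=
  (.node (.node (.node (.node (.node (.node (.node (.word [1,2,3,4,2,3,2,1,6,5,1,0]) (.word [2,0,1,6,2,1,0,1])) (.node (.word [1,0,1,5,0,1,2]) (.word [6,1,5,0,1,6,2,1,0,1]))) (.node (.node (.word [6,1,2,0]) (.word [4,3,2,1,6,1,0])) (.word [6,0,1,2,0,1,0]))) (.node (.node (.node (.word [0,1,5,6,3,1,2,0]) (.word [5,1,2,0,1,0,1,6,1])) (.node (.word [2,1,5,6,2,1]) (.word [0,1,6,0,1,2,1,0,1]))) (.node (.node (.word [5,6,3,1,2,1,0]) (.word [1,2,3,2,1,0,1,6,1,0])) (.word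 [0,1,6,1,0])))) (.node (.node (.node (.node (.word [6,5,3,1,2,0]) (.word [1,5,1,6,4,3,2,1,0])) (.node (.word [6,5,1,6,2,0]) (.word [6,1,2,0,1,6,1,2,1]))) (.node (.node (.word [5,2,1,6,0,1]) (.word [4,3,2,1,6,1])) (.word [2,1,5,6,3,1,2,1,0]))) (.node (.node (.node (.word [5,1,6,4,3,2]) (.word [4,2,3,2,1,0])) (.node (.word [5,2,1,0,1,6,2,0,1]) (.word [6,2,3,0,1,2,0,1,6,1]))) (.node (.node (.word [5,1,6,3,2,0,1]) (.word [2,3,0,1,2,0,1,6,0,1])) (.word [3,1,2,0,1]))))) (.node (.node (.node (.node (.node (.word [6,2,1,5,6,3,1,2]) (.word [5,2,1,6,1,2,0,1,0])) (.node (.word [3,2,1,5,6,1]) (.word [0,1,6,5,2,1,6,2,0]))) (.node (.node (.word [2,1,6,4,3,2]) (.word [1,0,1,2,0,1])) (.word [5,1,6,3,2,1,5,6,1]))) (.node (.node (.node (.word [5,1,6,5,1,6,4,3,2]) (.word [3,2,1,6,2,1,0,1,0])) (.node (.word [6,5,2,1,6,2,0,1])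 (.word [0,1,2,0,1,6,0]))) (.node (.node (.word [0,1,5,6,1,2,1]) (.word [5,4,3,1,2,0,1])) (.word [0,1,6,2,1])))) (.node (.node (.node (.node (.word [0,1,6,4,3,0,1,2,0]) (.word [2,1,6,4,3,2,3,2,1])) (.node (.word [2,3,4,2,3,2,0]) (.word [4,3,2,0,1,6,1]))) (.node (.node (.word [1,0,1,6,3,2,0]) (.word [2,0,1,6,2,1,0,1,0])) (.word [1,5,3,2,1,0]))) (.node (.node (.node (.word [6,1,2,3,0,1,2,0]) (.word [1,0,1,2,1,0,1])) (.node (.word [5,6,1,5,0,1,0]) (.word [2,3,2,1,6,5,1,6,0]))) (.node (.node (.word [0,1,2,0,1,5,6,1]) (.word [5,1,6,1,5,2,1,6])) (.word [6,2,1,0,1])))))) (.node (.node (.node (.node (.node (.node (.word [3,2,1,5,6,4,3,1,2]) (.word [5,1,6,2,1,5,6,1,0])) (.node (.word [3,2,3,1,2,1,0]) (.word [6,1,2,0,1,6,2,1]))) (.node (.node (.word [4,2,3,2,0]) (.word [6,4,2,3,2,1])) (.word [4,3,2,0,1,6,0,1]))) (.node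 (.node (.node (.word [6,1,5,0,1,2]) (.word [2,3,2,1,6,5,2,1,6])) (.node (.word [3,2,1]) (.word [2,3,2,1,6,5,1,6]))) (.node (.node (.word [0,1,2,1,0]) (.word [5,1,6,2,0,1,5,0,1])) (.word [5,1,6,3,1,2,1])))) (.node (.node (.node (.node (.word [1,5,2,1,6,3,0,1,2]) (.word [6,0,1,2,0,1])) (.node (.word [0,1,5,2,0,1,0]) (.word [2,3,0,1,2,0,1]))) (.node (.node (.word [1,6,0,1,0]) (.word [5,0,1,6,2,1,5,6,1])) (.word [4,3,2,3,2,1]))) (.node (.node (.node (.word [1,6,3,4,2,3,1,2,0]) (.word [5,3,2,1,6,4,3,2,1])) (.node (.word [2,0,1,6,0,1,0]) (.word [1,2,1,0,1,5,6,3,2,1]))) (.node (.node (.word [2,3,4,1,2,3,2,0]) (.word [6,0,1,2,0,1,6,2,1,0])) (.word [1,2,3,2,1]))))) (.node (.node (.node (.node (.node (.word [2,0,1,5,6,3,1,2]) (.word [6,2,0,1,0,1,6,1])) (.node (.word [6,5,1,6,2]) (.word [6,1,0,1,2,1,0,1]))) (.node (.node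 (.word [5,1,2,3,2,0]) (.word [1,5,2,1,6,1,2,0,1])) (.word [2,0,1,6,2,1,0,1,2]))) (.node (.node (.node (.word [5,6,1,2,1]) (.word [5,2,1,6,1,2,1,0])) (.node (.word [2,1,6,1]) (.word [6,5,1,6,5,2,1,6]))) (.node (.node (.word [3,2,1,6,4,3,2]) (.word [3,2,0,1,6,0])) (.word [5,6,4,2,3,2,1])))) (.node (.node (.node (.node (.word [1,6,5,1,0]) (.word [3,1,2,0,1,6,2,1,0])) (.node (.word [0,1,0,1,6,2,0,1]) (.word [0,1,2,1,0,1,6,1]))) (.node (.node (.word [3,2,1,6,0,1]) (.word [2,1,0,1,6,3,2,0,1,0])) (.word [5,0,1,6,3,2,0,1,0]))) (.node (.node (.node (.word [1,0,1,6,4,3,1,2,0]) (.word [1,5,1,6,4,2,3,2,1])) (.word [1,5,6,4,3,2,1,0])) (.node (.node (.word [3,2,1,6,0,1,2,0]) (.word [6,1,5,2,1,6,1,2,1])) (.word [2,0,1,6])))))))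

/-- A subtree. -/
def sub93 : WTree :=
  (.node (.node (.node (.node (.node (.node (.node (.word [2,3,2,1,6,5,1]) (.word [1,2,1,0,1,6,1,0,1])) (.node (.word [6,2,3,2,1,5,6,1]) (.word [5,3,1,2,0,1,6,1,0]))) (.node (.node (.word [6,0,1,2,1,0]) (.word [0,1,5,1,6,3,2,1])) (.word [2,3,2,1,6]))) (.node (.node (.node (.word [5,1,6,5,1,0]) (.word [5,3,2,1,6,1,2,1])) (.node (.word [1,5,2,0,1]) (.word [0,1,6,2,1,0,1,2,1,0]))) (.node (.node (.word [6,5,3,2,1,0]) (.word [3,4,2,3,2,1,0])) (.word [1,0,1,5,6,2,1])))) (.node (.node (.node (.node (.word [6,3,0,1,2]) (.word [0,1,2,0,1,0,1,6])) (.node (.word [5,3,2,1,0]) (.word [6,4,0,1,2,3,2,1]))) (.node (.node (.word [5,1,6,2,3,1,2,0]) (.word [2,0,1,6,5,1,6,0])) (.word [6,4,3,1,2,1,0]))) (.node (.node (.node (.word [5,1,6,0,1]) (.word [1,6,4,3,2,0,1,0])) (.node (.word [6,1,2,1,0,1,6,1,0,1])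 (.word [1,6,5,1,6,5,2,1,6]))) (.node (.node (.word [5,1,6,2]) (.word [5,4,3,2,1,6,1,2,0,1,0])) (.word [5,0,1,6,4,3,2,1]))))) (.node (.node (.node (.node (.node (.word [6,4,3,0,1,2]) (.word [6,1,0,1,6,0])) (.node (.word [2,0,1,5,6,1,2,1]) (.word [6,5,1,2,1,0,1,6]))) (.node (.node (.word [5,1,6,2,0,1]) (.word [6,4,3,1,0,1,2,1])) (.word [5,3,2,0,1,6,2,1]))) (.node (.node (.node (.word [6,5,1,2,1,0]) (.word [5,1,6,2,1,0,1,6])) (.node (.word [6]) (.word [1,0,1,6,5,2,1,6,2]))) (.node (.node (.word [1,5,0,1,2,1]) (.word [3,2,0,1,6,1,0])) (.word [0,1,5,1,6,2,1])))) (.node (.node (.node (.node (.word [5,6,3,1,2,0]) (.word [1,2,0,1,6,1,2,0,1])) (.node (.word [1,6,3,2,3,2,1]) (.word [5,0,1,2,0,1,6,1]))) (.node (.node (.word [2,1,6,2,3,1,2,0]) (.word [5,6,1,5,2,1,0,1,6,1])) (.word [6,0,1,5,3,2,0,1]))) (.node (.node (.node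 (.word [1,6,2,3,0,1,2,0]) (.word [1,0,1,6,1,0])) (.node (.word [1,0,1,5,0,1,2,0]) (.word [1,6,5,3,2,3,1,2,0,1]))) (.node (.node (.word [6,1,0,1,6,1,2,0]) (.word [5,3,1,2,0,1,6,0,1,0])) (.word [6,1,0,1,6])))))) (.node (.node (.node (.node (.node (.node (.word [1,5,3,2,1,6,4,3,0,1,2]) (.word [2,1,6,2,1,0,1,0])) (.node (.word [4,3,2,1,6,0,1]) (.word [2,1,6,3,2,1,0]))) (.node (.node (.word [5,0,1,2,1]) (.word [1,6,4,3,1,2,0,1])) (.word [5,4,3,2,1,6,2,0,1,0]))) (.node (.node (.node (.word [0,1,6,3,0,1,2,0]) (.word [1,6,2,1,0,1,2,1])) (.node (.word [4,3,1,2,1]) (.word [6,2,3,0,1,2,0,1]))) (.node (.node (.word [6,3,2,0]) (.word [4,2,3,2,0,1,6,1])) (.word [3,2,1,5,0,1])))) (.node (.node (.node (.node (.word [2,1,6,3,0,1,2]) (.word [6,5,3,2,1,6])) (.node (.word [6,5,1,6,2,0,1,0]) (.word [3,1,2,0,1,6]))) (.node (.node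 (.word [0,1,5,0,1,2]) (.word [2,3,2,1,6,3,2,0,1,0])) (.word [5,6,4,3,2,1,0]))) (.node (.node (.node (.word [6,3,4,2,3,1,2,0]) (.word [0,1,6,3,1,2,0,1,0])) (.node (.word [3,2,1,6,1,0,1,2,0]) (.word [2,3,1,0,1,2,0,1]))) (.node (.node (.word [1,5,0,1]) (.word [2,0,1,6,1,2,1,0,1,0])) (.word [1,5,3,2,1,6,0]))))) (.node (.node (.node (.node (.node (.word [6,1,5,6,3,1,2]) (.word [3,2,1,0,1,5,6,2,1])) (.node (.word [6,2,1,5,2,0,1]) (.word [2,1,5,1,6,4,2,3,2,1]))) (.node (.node (.word [6,4,2,3,2]) (.word [1,5,2,1,6])) (.word [6,5,1,6,2,1,0,1]))) (.node (.node (.node (.word [6,5,3,1,2,1]) (.word [2,0,1,5,0,1,0])) (.node (.word [2,1,0,1]) (.word [0,1,6,1,5,2,1,6,2]))) (.node (.node (.word [6,3,2,0,1]) (.word [5,3,2,1,6,3,2,1,0])) (.word [2,3,2,0,1])))) (.node (.node (.node (.node (.word [1,6,3,0,1,2]) (.word [0,1,6,2,1,5,6,2,1]))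 (.node (.word [5,2,3,2,1,0]) (.word [5,3,2,1,0,1,6,1]))) (.node (.node (.word [6,1,0,1,2]) (.word [2,1,6,1,2,1,0,1,0])) (.word [0,1,0,1,2,1,0]))) (.node (.node (.node (.word [6,3,1,0,1,2]) (.word [6,1,5,3,2,1,6])) (.word [1,6,3,1,2,1,0,1])) (.node (.node (.word [6,2,0,1,5,0,1,2,0]) (.word [1,6,1,5,2,1,6,2])) (.word [6,1,0,1,6,1,0])))))))

/-- A subtree. -/
def sub94 : WTree :=
  (.node (.node sub90 sub91) (.node sub92 sub93))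

/-- A subtree. -/
def sub95 : WTree :=
  (.node (.node (.node (.node (.node (.node (.node (.word [1,2,3,4,2,3,2,1,6,5,1]) (.word [3,1,2,1,0,1,6,2,0,1])) (.node (.word [1,5,1,2,3,0,1,2,0]) (.word [5,1,6,5,1,2,1,0,1]))) (.node (.node (.word [6,5,1,6,4,3,2]) (.word [1,6,4,3,2,1])) (.word [2,3,2,1,5,6,1]))) (.node (.node (.node (.word [4,3,1,0,1,2]) (.word [3,0,1,2,0,1,6,0,1])) (.node (.word [2,0,1,6,1,2]) (.word [1,2,0,1,6,2,1,0,1,0]))) (.node (.node (.word [6,5,1,6,3,2]) (.word [1,6,3,2,0,1,0,1,6,1])) (.word [5,2,1,6,2,0])))) (.node (.node (.node (.node (.word [2,0,1,6,3,0,1,2]) (.word [4,2,3,2,0,1,6,0,1])) (.node (.word [1,6,1,2,1,0]) (.word [6,1,5,2,1,6]))) (.node (.node (.word [5,0,1]) (.word [1,6,5,1,6])) (.word [6,5,2,1,6,2]))) (.node (.node (.node (.word [1,6,0,1,2]) (.word [2,0,1,6,1,2,1,0])) (.node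 (.word [6,2,1,5,0,1]) (.word [6,4,3,1,2,0,1,6,1]))) (.node (.node (.word [2,0,1]) (.word [0,1,5,2,1,0,1,6,1])) (.word [1,5,4,3,2,1]))))) (.node (.node (.node (.node (.node (.word [5,4,3,2,1,6,5,1,0]) (.word [3,2,1,6,2,1,0,1,2,0])) (.node (.word [1,2,0,1,6,0,1,2,0]) (.word [2,0,1,6,2,1,0]))) (.node (.node (.word [2,1,6,3,1,2]) (.word [3,0,1,2,0,1])) (.word [6,1,2,0,1,6,0,1,2,0]))) (.node (.node (.node (.word [0,1,6,0,1,2]) (.word [1,6,5,1,2,1,0,1])) (.node (.word [6,5,1,6,3,2,0,1]) (.word [4,3,1,0,1,2,0,1]))) (.node (.node (.word [1,5,6,1,0]) (.word [3,4,2,3,1,2,1,0])) (.word [1,6,3,2,1])))) (.node (.node (.node (.node (.word [6,5,2,3,1,2,0]) (.word [2,3,2,0,1,6])) (.node (.word [2,1,0,1,2,0]) (.word [1,2,1,0,1,6,1]))) (.node (.node (.word [6,2,1,5,0,1,2,0]) (.word [6,1,2,0,1,6,1,0,1,0])) (.word [6,5,4,2,3,2,1,0])))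 (.node (.node (.node (.word [6,2,3,1,2,0]) (.word [1,2,1,0,1,6,0])) (.node (.word [6,5,2,1,6,2,0,1,0]) (.word [1,0,1,2,0,1,6]))) (.node (.node (.word [1,0,1]) (.word [5,2,0,1,6,2,1,0])) (.word [1,5,3,2,1,6])))))) (.node (.node (.node (.node (.node (.node (.word [3,2,0,1,5,6,4,3,1,2]) (.word [2,3,1,2,0,1,0,1,6,1])) (.node (.word [1,5,6,3,2,1,0]) (.word [5,1,6,5,2,1,6]))) (.node (.node (.word [1,2,0]) (.word [2,1,5,1,6,3,2,1])) (.word [1,2,0,1,5,6,2,1]))) (.node (.node (.node (.word [6,4,2,3,1,2,0]) (.word [6,5,2,1,6,2,1])) (.node (.word [6,4,3,2,0,1]) (.word [0,1,6,3,2,1,0,1,2,0]))) (.node (.node (.word [6,0,1,5,2,0,1,0]) (.word [6,5,2,1,6,0])) (.word [5,1,6,4,2,3,2,1])))) (.node (.node (.node (.node (.word [4,3,0,1,2]) (.word [1,6,1,2,1,0,1])) (.node (.word [1,5,2,1,0]) (.word [1,2,3,1,2,0,1]))) (.node (.node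 (.word [1,5,3,2,1,6,0,1,0]) (.word [5,1,2,0,1,6,0,1])) (.word [2,1,5,0,1,0]))) (.node (.node (.node (.word [2,1,6,3,0,1,2,0]) (.word [0,1,6,3,2,0,1,0])) (.node (.word [6,2,1,0,1,6,1,2,0]) (.word [6,0,1,2,1,0,1,6]))) (.node (.node (.word []) (.word [1,2,0,1,6,2,1,0])) (.word [1,5,2,1,6,3,2,1]))))) (.node (.node (.node (.node (.node (.word [5,3,2,1,6,5,1]) (.word [0,1,0,1,6,0])) (.node (.word [0,1,0,1,6,1,2]) (.word [6,3,1,2,0,1,6,0,1,0]))) (.node (.node (.word [1,2,1]) (.word [2,1,5,2,1,6,3,2,1])) (.word [6,5,3,2,1,6,2,1]))) (.node (.node (.node (.word [3,0,1,2,0]) (.word [2,1,5,1,6,3,1,2,1,0])) (.node (.word [6,2,3,4,2,3,2]) (.word [5,2,3,2,1,6,2,1,0]))) (.node (.node (.word [1,6,2]) (.word [6,5,1,6,3,2,1,0])) (.word [1,5,6,4,3,2,1])))) (.node (.node (.node (.node (.word [6,5,1,2,0]) (.word [4,3,1,2,0,1,6,1,0,1]))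 (.node (.word [1,5,6,4,3,1,2,1]) (.word [3,2,0,1,6,5,1,6,0]))) (.node (.node (.word [6,3,2,1,5,6,1,2,0]) (.word [6,1,5,1,2,1,0,1,6,1])) (.word [0,1,5,1,6,2,1,0]))) (.node (.node (.node (.word [2,1,6,4,2,3,1,2,0]) (.word [1,0,1,5,0,1,0])) (.node (.word [2,3,2,1,6,1,0,1]) (.word [3,2,3,1,0,1,2,0,1]))) (.node (.node (.word [6,2,1,5,6,1,0]) (.word [6,3,1,2,0,1,6,1,0])) (.word [0,1,6,5,1,6,0])))))))

/-- A subtree. -/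
def sub96 : WTree :=
  (.node (.node (.node (.node (.node (.node (.node (.word [5,3,4,2,3,2,1,6,5,1]) (.word [3,2,1,6,5,3,2,1,6])) (.node (.word [6,4,3,2,3,1,2,1,0]) (.word [0,1,2,0,1,6,1]))) (.node (.node (.word [0,1,6,4,3,1,2,0]) (.word [2,0,1,6,2,1])) (.word [6,3,1,2,0,1,0]))) (.node (.node (.node (.word [0,1,6,3,1,0,1,2]) (.word [2,3,1,2,0,1,6,1,2,1])) (.node (.word [6,1,5,6,2,1]) (.word [3,1,2,1,0,1,6,1,0]))) (.node (.node (.word [1,6,1,2,0]) (.word [0,1,6,2,1,0,1,2,0])) (.word [0,1,5,0,1,0])))) (.node (.node (.node (.node (.word [2,1,6,5,1,0]) (.word [3,4,3,2,3,1,2,1,0])) (.node (.word [6,2,1,0]) (.word [2,0,1,5,6,4,3,2,1]))) (.node (.node (.word [0,1,6,1,0,1,2,0]) (.word [6,2,1,0,1,6])) (.word [1,6,2,1,5,0,1,0]))) (.node (.node (.node (.word [4,2,3,2]) (.word [3,2,1,6,2,0])) (.node (.word [1,2,0,1,6,1,0,1,2,0])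 (.word [2,1,6,4,3,2,1,0]))) (.node (.node (.word [3,1,2,1]) (.word [4,3,2,0,1,6,2,1])) (.word [6,1,2,0,1]))))) (.node (.node (.node (.node (.node (.word [3,2,1,6,4,3,1,0,1,2]) (.word [2,0,1,6,2,1,0,1,2,0])) (.node (.word [6,2,1,5,6,1,2,1]) (.word [1,6,0,1,5,2,1,6]))) (.node (.node (.word [6,2,0,1]) (.word [5,1,2,1,0,1])) (.word [3,2,1,6,2,1]))) (.node (.node (.node (.word [1,6,5,4,1,2,3,2,0]) (.word [0,1,6,1,2,1,0,1])) (.node (.word [0,1,0,1,2,1]) (.word [1,0,1,6,2,1,0,1,0]))) (.node (.node (.word [6,1,5,6,1,2,1]) (.word [4,3,1,2,0,1,0])) (.word [5,1,6,2,1])))) (.node (.node (.node (.node (.word [1,5,6,3,1,2]) (.word [2,1,6,5,1,2,0,1])) (.node (.word [1,6,1,0]) (.word [1,5,2,1,6,5,1,6,0]))) (.node (.node (.word [6,3,2,3,1,2,1,0]) (.word [5,6,1,2,0,1,6,1,0,1])) (.word [1,6,1,2,0,1,0]))) (.node (.node (.node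 (.word [4,1,2,3,0,1,2,0]) (.word [1,5,4,3,2,1,6])) (.node (.word [6,0,1,0,1,6,1]) (.word [1,6,0,1,2,0,1,6]))) (.node (.node (.word [6,0,1,0,1,6,1,2]) (.word [0,1,2,0,1,6,1,2,1])) (.word [3,2,1,6,1])))))) (.node (.node (.node (.node (.node (.node (.word [6,5,4,3,1,2]) (.word [3,2,1,6,2,0,1,0])) (.node (.word [1,6,5,1,6,2,0]) (.word [1,6,0,1,2,1,0,1]))) (.node (.node (.word [6,0,1,0]) (.word [4,2,3,2,0,1])) (.word [4,3,2,1,6,0,1,0]))) (.node (.node (.node (.word [1,6,4,2,3,0,1,2,0]) (.word [1,2,1,0,1,6,2,0,1])) (.node (.word [1,6,1,2,0,1]) (.word [2,0,1,5,1,6,4,3,2,1]))) (.node (.node (.word [1,0,1,2,0]) (.word [0,1,5,1,6,4,3,2,1])) (.word [5,2,1,6,1,2,1])))) (.node (.node (.node (.node (.word [0,1,6,4,3,1,0,1,2]) (.word [6,5,3,2,1,6,0])) (.node (.word [5,1,6,3,2,0,1,0]) (.word [6,4,1,2,3,2,0,1]))) (.node (.node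 (.word [6,1,0,1,6,3,2,0]) (.word [6,2,1,0,1,6,1,0])) (.word [2,1,6,2,0]))) (.node (.node (.node (.word [1,6,0,1,2,0]) (.word [5,1,2,1,0,1,6])) (.node (.word [2,0,1,5,6,2,1,0]) (.word [5,2,3,0,1,2,0,1]))) (.node (.node (.word [6,3,4,2,3,2]) (.word [2,3,2,1,0,1,6,1])) (.word [2,0,1,6,1,2,0,1]))))) (.node (.node (.node (.node (.node (.word [5,3,2,1,6,5,1,0]) (.word [0,1,5,6,4,2,3,2,1])) (.node (.word [6,2,3,4,1,2,3,2,0]) (.word [6,0,1,5,2,1,6]))) (.node (.node (.word [6,3,2]) (.word [2,1,0,1,6,2,1])) (.word [2,0,1,0,1,6,1,2]))) (.node (.node (.node (.word [1,6,3,1,2]) (.word [6,5,1,0,1,2,1,0])) (.node (.word [2,1,5,0,1]) (.word [2,1,6,5,2,1,6]))) (.node (.node (.word [5,6,3,2,1]) (.word [0,1,2,3,2,1,0,1])) (.word [5,4,3,2,0,1])))) (.node (.node (.node (.node (.word [5,3,0,1,2]) (.word [6,5,4,3,2,1,6,2,1])) (.node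 (.word [1,6,3,1,2,1]) (.word [3,2,3,2,1,0,1,6,1]))) (.node (.node (.word [2,1,5,6,1,2,1]) (.word [1,2,1,0,1,6,0,1,0])) (.word [3,1,0,1,2,1,0]))) (.node (.node (.node (.word [2,1,5,6,1,2]) (.word [1,6,4,1,2,3,2,1])) (.word [1,5,4,3,2,0,1])) (.node (.node (.word [6,1,0,1,2,0]) (.word [6,1,2,0,1,5,1,6,2,1])) (.word [5,6,2,1,5,0,1])))))))

/-- A subtree. -/
def sub97 : WTree :=
  (.node (.node (.node (.node (.node (.node (.node (.word [5,2,3,4,2,3,2,1,6,5,1]) (.word [0,1,6,2,0,1,0,1,6,1])) (.node (.word [6,1,0,1,6,1,2]) (.word [2,3,1,2,0,1,6,1]))) (.node (.node (.word [5,6,1,2,1,0]) (.word [6,5,1,2,0,1])) (.word [1,6,0,1,2,0,1]))) (.node (.node (.node (.word [5,1,6,0,1,2]) (.word [0,1,2,0,1,0,1,6,1])) (.node (.word [0,1,5,6,2,1]) (.word [1,6,5,4,3,2,1,6]))) (.node (.node (.word [1,5,6,1,2,1,0]) (.word [5,0,1,2,0,1,6,0,1]))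 (.word [1,2,3,4,2,3,2,0])))) (.node (.node (.node (.node (.word [5,6,4,3,1,2,0]) (.word [4,2,3,2,1,6,1])) (.node (.word [1,6,2,0]) (.word [5,3,0,1,2,0,1]))) (.node (.node (.word [6,1,5,6,1]) (.word [3,2,0,1,6,1])) (.word [5,1,0,1,6,2,0,1,0]))) (.node (.node (.node (.word [3,2]) (.word [5,1,6,2,1,0])) (.node (.word [1,0,1,6,1,0,1]) (.word [6,2,3,1,2,0,1,6,1]))) (.node (.node (.word [5,4,3,1,2,1]) (.word [5,3,1,2,1,0,1,6,1])) (.word [1,6,3,1,2,0,1]))))) (.node (.node (.node (.node (.node (.word [6,1,5,6,4,3,1,2]) (.word [2,3,2,1,6,2,0,1,0])) (.node (.word [3,2,0,1,6,0,1]) (.word [3,2,1,6,0]))) (.node (.node (.word [3,2,1,6,4,3,1,2]) (.word [6,1,2,1,0,1])) (.word [2,1,6,3,2,1,5,6,1]))) (.node (.node (.node (.word [2,1,6,3,4,2,3,1,2,0]) (.word [5,0,1,6,2,1,0,1,0])) (.node (.word [5,1,6,1,2,0,1]) (.word [6,1,2,0,1,0,1,6])))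 (.node (.node (.word [1,0]) (.word [4,0,1,2,3,2,0,1])) (.word [2,0,1,6,1,2,1])))) (.node (.node (.node (.node (.word [2,1,5,6,3,1,2,0]) (.word [1,6,2,1,0,1,0])) (.node (.word [6,2,3,2,0]) (.word [6,1,2,0,1,6,1]))) (.node (.node (.word [1,2,3,0,1,2,0]) (.word [3,2,3,2,1,6,2,0,1,0])) (.word [1,6,3,2,0,1,0]))) (.node (.node (.node (.word [6,1,5,0,1,2,0]) (.word [2,1,0,1,2,0,1])) (.node (.word [6,2,1,5,0,1,0]) (.word [4,3,2,1,6,5,1,6,0]))) (.node (.node (.word [0,1,6,1,0,1]) (.word [6,5,1,6,5,3,2,1,6])) (.word [6,5,1,6])))))) (.node (.node (.node (.node (.node (.node (.word [3,2,0,1,6,4,3,0,1,2]) (.word [0,1,6,2,1,5,6,1,0])) (.node (.word [6,2,3,2,1,0,1]) (.word [6,1,2,1,0,1,6,0]))) (.node (.node (.word [0,1,6,4,3,2,0]) (.word [1,5,6,4,2,3,2,1])) (.word [6,2,1,5,6,2,1]))) (.node (.node (.node (.word [1,5,4,3,0,1,2,0])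 (.word [2,1,6,3,2,0,1,0])) (.node (.word [1,5,3,2,1]) (.word [4,3,2,1,6,5,1,6]))) (.node (.node (.word [5,1,6,2,0,1,0]) (.word [2,0,1,0,1,6,1])) (.word [0,1,6,4,2,3,2,1])))) (.node (.node (.node (.node (.word [5,1,6,3,0,1,2]) (.word [5,1,6,3,2,1,0])) (.node (.word [6,1,5,1,2,0,1,0]) (.word [3,1,0,1,2,0,1]))) (.node (.node (.word [6,1,5,6,1,0]) (.word [1,5,6,2,1,5,0,1])) (.word [5,4,2,3,2,1,0]))) (.node (.node (.node (.word [5,0,1,6,2,3,1,2,0]) (.word [0,1,5,3,2,0,1])) (.node (.word [6,2,1,5,6,2,1,0]) (.word [3,2,1,0,1,6,1,0]))) (.node (.node (.word [6,2,3,2]) (.word [5,3,2,1,6,2,1,0])) (.word [3,0,1,0,1,2,1]))))) (.node (.node (.node (.node (.node (.word [0,1,5,6,4,3,1,2]) (.word [6,1,0,1,6,1])) (.node (.word [1,6,5,1,6,2]) (.word [1,2,0,1,6,0]))) (.node (.node (.word [5,1,6,3,2]) (.word [1,0,1,2,1,0,1,6,1,0]))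 (.word [2,1,0,1,6,2,0,1]))) (.node (.node (.node (.word [6,5,1,0]) (.word [6,5,1,6,2,1,0])) (.node (.word [0,1,6,1]) (.word [1,6,1,5,2,1,6]))) (.node (.node (.word [6,3,4,1,2,3,2,0]) (.word [4,1,2,3,2,1,0])) (.word [1,5,6,2,3,2,1])))) (.node (.node (.node (.node (.word [4,3,1,2,0]) (.word [5,1,6,5,2,1,6,2,0,1])) (.node (.word [5,6,2,3,2,1,0]) (.word [5,1,2,1,0,1,6,1]))) (.node (.node (.word [6,3,2,1,5,6,1]) (.word [3,1,2,0,1,6,0,1,0])) (.word [4,3,1,2,1,0]))) (.node (.node (.node (.word [1,0,1,6,3,0,1,2,0]) (.word [2,1,5,1,6,2,3,2,1])) (.node (.word [4,2,3,2,1,6,0,1]) (.word [3,1,2,3,1,0,1,2,0,1]))) (.node (.node (.word [3,2,1,5,6,1,2,0]) (.word [3,2,1,6,5,2,1,6])) (.word [3,2,1,0,1])))))))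

/-- A subtree. -/
def sub98 : WTree :=
  (.node (.node (.node (.node (.node (.node (.node (.word [4,3,2,1,6,5,1]) (.word [6,1,2,0,1,6,1,0,1])) (.node (.word [1,0,1,6,2,0]) (.word [5,0,1,2,0,1,6,1,0]))) (.node (.node (.word [6,5,3,1,2,1,0]) (.word [0,1,5,6,4,3,2,1])) (.word [3,2,0,1,0]))) (.node (.node (.node (.word [1,6,4,3,1,0,1,2,0]) (.word [5,2,0,1,6,2,1])) (.node (.word [5,3,2,0,1]) (.word [6,0,1,2,0,1,6,1]))) (.node (.node (.word [5,6,2,1,0]) (.word [1,5,6,2,1,5,0,1,0])) (.word [0,1,6,0])))) (.node (.node (.node (.node (.word [6,5,1,2]) (.word [2,3,1,2,1,0,1])) (.node (.word [6,3,2,0,1,0]) (.word [2,1,6,5,3,1,2,0,1]))) (.node (.node (.word [1,0,1,6,1,0,1,2]) (.word [3,2,1,0,1,6,0,1])) (.word [0,1,0,1,6,2,0,1,0]))) (.node (.node (.node (.word [5,1]) (.word [6,4,3,2,1,0])) (.node (.word [5,1,2,0,1,5,6,1])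 (.word [3,2,1,6,5,2,1,6,0]))) (.node (.node (.word [1,0,1,2,1]) (.word [1,2,3,2,0,1,0,1,6,1])) (.word [5,2,1,6,4,3,2,1]))))) (.node (.node (.node (.node (.node (.word [6,5,3,1,2]) (.word [6,2,0,1,5,0,1,0])) (.node (.word [6,5,3,2,1,6,2,0,1]) (.word [5,1,6,4,3,1,2,0,1,0]))) (.node (.node (.word [5,3,1,2,1]) (.word [5,0,1,6,4,3,2,1,0])) (.word [1,5,3,2,0,1,6,2,0,1]))) (.node (.node (.node (.word [1,6,4,3,1,2,0]) (.word [2,0,1,5,6,3,1,2,1,0])) (.node (.word [2,0,1,6,2]) (.word [2,1,6,5,1,2,0,1,6]))) (.node (.node (.word [1,6,1,2,1]) (.word [1,6,1,2,1,0,1,0])) (.word [0,1,5,6,3,2,1])))) (.node (.node (.node (.node (.word [2,1,6,5,4,1,2,3,2,0]) (.word [2,0,1,5,1,6,2,1])) (.node (.word [5,1,6,2,3,2,1]) (.word [3,1,2,1,0,1,6,0,1]))) (.node (.node (.word [1,0,1,6,2]) (.word [1,5,0,1,2,0,1,6,1])) (.word [1,0,1,5,6,2,1,0])))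 (.node (.node (.node (.word [1,5,0,1,2]) (.word [4,3,2,1,6])) (.node (.word [2,0,1,5,0,1,2,0]) (.word [1,2,1,0,1,5,6,4,3,2,1]))) (.node (.node (.word [3,2,1,6,2,1,0,1,2]) (.word [5,1,6,5,2,1,6,2])) (.word [2,1,0,1,6])))))) (.node (.node (.node (.node (.node (.node (.word [1,5,4,2,3,2,1,6,5,1]) (.word [2,1,6,1,2,0,1,0])) (.node (.word [6,2,0,1,5,6,2,1]) (.word [1,6,5,2,1,6,0]))) (.node (.node (.word [6,1,2,1]) (.word [0,1,6,4,3,2,1])) (.word [4,3,2,0,1,6,1,0,1]))) (.node (.node (.node (.word [6,1,5,6,1,2,0]) (.word [1,6,5,2,1,6,2])) (.node (.word [1,5,4,3,1,2,1]) (.word [6,5,1,6,4,3,2,1,0]))) (.node (.node (.word [2,3,2,0]) (.word [6,5,4,3,1,2,0,1])) (.word [1,6,4,3,1,2,1])))) (.node (.node (.node (.node (.word [5,2,1,6,5,1,0]) (.word [1,6,3,1,2,0,1,0])) (.node (.word [5,0,1,6,2,0,1,0]) (.word [1,2,1,0,1,6,2,1])))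 (.node (.node (.word [6,1,0,1,6,2]) (.word [3,2,1,6,3,1,2,0,1,0])) (.word [1,5,1,6,2,1,0]))) (.node (.node (.node (.word [1,5,6,2,3,1,2,0]) (.word [6,3,1,0,1,2,1,0])) (.node (.word [3,2,1,5,6,1,2,1,0]) (.word [0,1,2,3,1,2,0,1]))) (.node (.node (.word [1,6,1]) (.word [3,1,2,1,0,1,6,1])) (.word [6,1,2,3,2,1,0]))))) (.node (.node (.node (.node (.node (.word [2,1,5,6,4,3,1,2,0]) (.word [1,6,2,1,0,1,6,2,0])) (.node (.word [6,1,5,6,1,2,1,0]) (.word [2,1,0,1,5,6,3,2,1]))) (.node (.node (.word [3,4,2,3,2]) (.word [0,1,5,3,2,1,6])) (.word [5,1,6,2,1,0,1,0]))) (.node (.node (.node (.word [6,5,2,1]) (.word [1,6,3,2,1,0])) (.node (.word [5,1,6]) (.word [5,1,6,0,1,2,1,0,1]))) (.node (.node (.word [6,5,4,3,2,1]) (.word [0,1,6,5,2,1,6,0])) (.word [1,6,2,3,2,0,1])))) (.node (.node (.node (.node (.word [5,1,2]) (.word [1,2,3,2,1,0,1,6,1]))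 (.node (.word [1,6,2,1]) (.word [2,3,2,1,0,1,6,1,0]))) (.node (.node (.word [5,1,6,5,1,6,2]) (.word [1,2,0,1,6,2,0,1,0])) (.word [0,1,6,1,2,0,1,0]))) (.node (.node (.node (.word [5,1,6,5,1,6,3,2]) (.word [6,5,1,6,3,2,1])) (.word [2,1,0,1,6,2,0])) (.node (.node (.word [0,1,6,1,0,1,0]) (.word [0,1,6,2,1,0,1,2,1])) (.word [1,2,0,1,6,1,0,1])))))))

/-- A subtree. -/
def sub99 : WTree :=
  (.node (.node sub95 sub96) (.node sub97 sub98))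

/-- A subtree. -/
def sub100 : WTree :=
  (.node (.node (.node (.node (.node (.node (.node (.word [2,3,4,2,3,2,1,6,5,1,0]) (.word [1,6,1,2,0,1,0,1,6,1])) (.node (.word [6,2,1,0,1,6,2]) (.word [5,3,1,2,0,1,6,1]))) (.node (.node (.word [1,6,5,1,2,3,2,0]) (.word [4,2,3,2,1])) (.word [2,3,2,1,6,1]))) (.node (.node (.node (.word [6,5,1]) (.word [6,3,1,2,0,1,6,0,1])) (.node (.word [2,1,6,2,3,2]) (.word [2,3,0,1,2,1,0,1,6,1]))) (.node (.node (.word [1,6,4,1,2,3,2,0]) (.word [2,3,2,0,1,6,2,0,1,0])) (.word [2,0,1,6,2,0])))) (.node (.node (.node (.node (.word [2,1,6,4,3,1,0,1,2]) (.word [6,2,1,5,6,4,3,2,1])) (.node (.word [0,1,6,1,2,0]) (.word [6,5,3,1,2,0,1]))) (.node (.node (.word [0,1]) (.word [2,1,0,1,6,1])) (.word [0,1,5,6,3,1,2,1,0]))) (.node (.node (.node (.word [1,2]) (.word [3,2,1,6,1,2,1,0])) (.node (.word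 [1,6,2,1,5,6,1]) (.word [6,5,3,1,2,0,1,6,1]))) (.node (.node (.word [2,1]) (.word [2,1,6,5,1,2,1,0,1])) (.word [2,1,6,3,2,1]))))) (.node (.node (.node (.node (.node (.word [5,2,1,6,4,3,0,1,2]) (.word [5,2,3,2,1,6,2,0,1,0])) (.node (.word [1,0,1,6,1,2,0]) (.word [4,3,2,1,6,1,2,1,0]))) (.node (.node (.word [1,0,1,6,4,3,1,2]) (.word [5,3,1,2,0,1])) (.word [2,1,0,1,6,1,2,0]))) (.node (.node (.node (.word [1,0,1,6,3,0,1,2]) (.word [1,0,1,6,5,2,1,6,0])) (.node (.word [6,1,5,1,6,2,1]) (.word [3,0,1,2,3,1,2,0,1]))) (.node (.node (.word [5,0,1,0]) (.word [6,3,2,3,0,1,2,0,1])) (.word [2,3,2,1])))) (.node (.node (.node (.node (.word [5,4,2,3,1,2,0]) (.word [2,1,6,5,2,1,6,2,0])) (.node (.word [0]) (.word [3,1,2,0,1,6,1]))) (.node (.node (.word [1,5,0,1,2,0]) (.word [1,2,0,1,6,2,1,0,1])) (.word [6,4,3,2,0,1,0]))) (.node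 (.node (.node (.word [1,6,4,2,3,1,2,0]) (.word [6,2,1,0,1,2,1,0])) (.node (.word [6,2,1,0,1,2,0]) (.word [6,3,1,2,0,1,6]))) (.node (.node (.word [6,2,1,5,6,1]) (.word [1,6,1,5,3,2,1,6])) (.word [5,1,2,3,4,2,3,2])))))) (.node (.node (.node (.node (.node (.node (.word [5,3,2,1,6,4,3,0,1,2]) (.word [5,2,1,6,1,2,1,0,1])) (.node (.word [6,2,3,1,2,1,0]) (.word [5,1,6,4,3,1,2,1,0]))) (.node (.node (.word [3,2,0]) (.word [1,5,1,6,4,3,2,1])) (.word [6,2,1,5,6,1,2,1,0]))) (.node (.node (.node (.word [6,1,5,3,0,1,2,0]) (.word [3,2,0,1,6,1,2,1])) (.node (.word [1,6,3,2,0,1]) (.word [5,6,1,2,0,1,6,0]))) (.node (.node (.word [6,3,0,1,2,1,0]) (.word [6,2,1,0,1,6,1])) (.word [1,6,3,2,1,5,0,1])))) (.node (.node (.node (.node (.word [1,6,5,1]) (.word [6,5,1,2,0,1,0])) (.node (.word [1,6,0,1,5,2,0,1,0]) (.word [3,2,3,1,2,0,1])))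 (.node (.node (.word [1,6,1,0,1,2,0]) (.word [1,2,0,1,6])) (.word [2,1,6,1,2,1,0]))) (.node (.node (.node (.word [2,0,1,5,6,1,2]) (.word [0,1,5,6,2,3,2,1])) (.node (.word [5,2,1,0,1,6,1,2]) (.word [4,3,1,2,0,1,6]))) (.node (.node (.word [1,6,2,3,2,0]) (.word [2,1,0,1,6,5,2,1,6,0])) (.word [5,1,6,3,1,2,0,1]))))) (.node (.node (.node (.node (.node (.word [1,5,2,3,2,1,6,5,1]) (.word [6,5,1,6,0])) (.node (.word [5,1,6,2,1,0,1]) (.word [1,0,1,6,3,2,1,0]))) (.node (.node (.word [1,0,1,2]) (.word [0,1,2,3,2,1])) (.word [2,1,6,3,2,3,2,1]))) (.node (.node (.node (.word [4,3,1,0,1,2,0]) (.word [5,1,6,3,1,2,1,0])) (.node (.word [2,1,6,1,0,1]) (.word [4,3,2,1,0,1,6,1]))) (.node (.node (.word [6,1,2,3,2,0]) (.word [0,1,2,3,2,1,0])) (.word [6,1,5,6,3,2,1])))) (.node (.node (.node (.node (.word [5,3,1,2,0]) (.word [1,5,1,2,0,1,6,2,0,1]))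 (.node (.word [5,1,6,1,2,1]) (.word [5,6,1,2,0,1,6]))) (.node (.node (.word [1,0,1,6,0,1,2,0]) (.word [1,0,1,2,0,1,6,0,1])) (.word [4,3,0,1,2,1,0]))) (.node (.node (.node (.word [6,2,1,5,6,1,2,0]) (.word [2,0,1,6,0])) (.node (.word [1,0,1,6,2,1,5,0,1]) (.word [1,6,5,2,3,1,2,0,1]))) (.node (.node (.word [2,1,6,0,1,0]) (.word [2,0,1,6,3,2,0,1,0])) (.word [1,2,0,1,6,0,1])))))))

/-- A subtree. -/
def sub101 : WTree :=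
  (.node (.node (.node (.node (.node (.node (.node (.word [6,3,2,1,5,6,4,3,1,2]) (.word [5,1,2,0,1,6,1,0,1])) (.node (.word [0,1,6,5,1,6,2]) (.word [1,2,0,1,6,1,0]))) (.node (.node (.word [1,6,4,3,2,0]) (.word [2,1,6,1,2,1,0,1])) (.word [2,3,2,1,0,1]))) (.node (.node (.node (.word [5,1,6,0,1,2,0]) (.word [4,2,3,2,1,6,5,2,1,6])) (.node (.word [5,6,4,3,2,1]) (.word [6,1,2,0,1,6,1,0]))) (.node (.node (.word [2,1,6,3,1,2,0]) (.word [1,5,2,1,6,1,2,1,0])) (.word [5,1,6,0])))) (.node (.node (.node (.node (.word [6,4,3,1,2]) (.word [6,4,3,1,2,0,1,0])) (.node (.word [6,5,2,3,2,1,0]) (.word [2,1,5,6,4,2,3,2,1]))) (.node (.node (.word [3,2,1,5,6,1,2,1]) (.word [1,6,5,1,6,0])) (.word [1,0,1,6,2,0,1,0]))) (.node (.node (.node (.word [5,6,1]) (.word [1,6,5,2,1,6,2,0])) (.node (.word [5,1,2,0,1,5,6,1,0]) (.word [2,1,6,5,2,1,6,0])))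 (.node (.node (.word [5,2,1,6,2,0,1]) (.word [1,5,1,2,1,0,1,6,1])) (.word [1,2,1,0,1]))))) (.node (.node (.node (.node (.node (.word [3,2,1,6,5,1,0]) (.word [2,1,5,2,1,6,1,2,1,0])) (.node (.word [5,3,2,0,1,6,2,0,1]) (.word [2,0,1,5,6,2,3,2,1]))) (.node (.node (.word [6,5,4,3,1,2,1]) (.word [5,1,6,4,3,2,1])) (.word [2,0,1,0,1,6,2,0,1]))) (.node (.node (.node (.word [6,3,1,2,0]) (.word [1,0,1,6,5,2,1,6])) (.node (.word [5,1,0,1,2,1]) (.word [3,2,1,6,3,2,1,0]))) (.node (.node (.word [6,3,1,2,1]) (.word [4,2,3,2,0,1,6])) (.word [2,1,0,1,6,1,2])))) (.node (.node (.node (.node (.word [1,6,4,3,1,0,1,2]) (.word [6,0,1,5,6,3,2,1])) (.node (.word [1,0,1,0]) (.word [2,1,6,5,1,6,0]))) (.node (.node (.word [0,1,6,5,1,6,2,0]) (.word [3,1,2,0,1,0,1,6,1])) (.word [1,6,5,4,2,3,2,1,0]))) (.node (.node (.node (.word [6,2,1,5,0,1,2])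 (.word [5,3,2,1,6,2,0])) (.node (.word [6,0,1,5,4,3,2,0,1]) (.word [6,2,3,1,2,0,1,6]))) (.node (.node (.word [3,2,1,5,1,6,1,2,1]) (.word [3,0,1,2,1,0,1,6,1,0])) (.word [2,0,1,5,0,1])))))) (.node (.node (.node (.node (.node (.node (.word [5,4,3,2,1,6,5,1]) (.word [3,2,0,1,6,1,0,1,0])) (.node (.word [2,1,5,6,1,2,1,0]) (.word [2,0,1,6,3,1,2,1,0]))) (.node (.node (.word [1,5,6,1,2,1]) (.word [1,2,3,2,0,1])) (.word [4,3,2,1,6,2,0,1]))) (.node (.node (.node (.word [4,2,3,1,2,0]) (.word [0,1,6,2,1,0,1,2])) (.node (.word [5,1,6,4,3,2,0,1]) (.word [6,5,3,2,3,1,2,0,1]))) (.node (.node (.word [2,1,6,3,2,0]) (.word [6,2,0,1,5,6,4,3,2,1])) (.word [6,2,3,2,1,0])))) (.node (.node (.node (.node (.word [5,1,6,3,0,1,2,0]) (.word [1,2,3,1,2,1,0])) (.node (.word [1,5,3,1,2,1,0]) (.word [6,1,2,3,1,2,0,1]))) (.node (.node (.word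 [1,5,4,1,2,3,0,1,2,0]) (.word [5,2,1,0,1,6,1])) (.word [0,1,5,6,2,1,0]))) (.node (.node (.node (.word [6,4,3,1,0,1,2,0]) (.word [5,1,6,3,1,2,0,1,0])) (.node (.word [2,1,6,1,0,1,0]) (.word [2,1,6,5,2,3,1,2,0,1]))) (.node (.node (.word [2,1,5,6,1]) (.word [5,3,0,1,2,0,1,6,0,1])) (.word [6,2,1,0,1,2,1]))))) (.node (.node (.node (.node (.node (.word [2,1,6,4,3,0,1,2]) (.word [6,3,2,1,0,1,6,2,0])) (.node (.word [1,5,6,3,1,2,1,0]) (.word [4,3,2,0,1,6]))) (.node (.node (.word [5,3,4,1,2,3,2,0]) (.word [5,3,2,1,6,0])) (.word [5,0,1,6,2,1,0,1]))) (.node (.node (.node (.word [2,1,6,4,3,1,2]) (.word [0,1,6,3,1,2,1,0])) (.node (.word [1,0,1,6,0,1]) (.word [3,2,1,6,5,1,6]))) (.node (.node (.word [5,2,0,1]) (.word [5,1,6,5,2,1,6,0])) (.word [1,5,1,2,0,1])))) (.node (.node (.node (.node (.word [6,5,1,2,1]) (.word [5,1,6,1,2,1,0,1,0]))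 (.node (.word [0,1,6,1,2,1]) (.word [6,3,2,1,0,1,6,1,0]))) (.node (.node (.word [5,1,6,5,1,6,2,0]) (.word [3,2,0,1,6,2,0,1,0])) (.word [5,1,6,1,2,0,1,0]))) (.node (.node (.node (.word [1,6,1,0,1,2]) (.word [5,1,6,4,3,1,2,1])) (.word [4,3,2,3,1,2,1,0])) (.node (.node (.word [0,1,6,0,1,0]) (.word [1,0,1,6,2,1,0,1,2])) (.word [5,1,6,2,1,5,6,1])))))))

/-- A subtree. -/
def sub102 : WTree :=
  (.node (.node (.node (.node (.node (.node (.node (.word [3,4,2,3,2,1,6,5,1,0]) (.word [3,2,1,6,3,2,0,1,0])) (.node (.word [6,1,5,6,4,3,2,1,0]) (.word [5,1,6,5,1,2,0,1,6]))) (.node (.node (.word [5,0,1,2,0]) (.word [5,0,1,2,0,1])) (.word [2,3,1,2,1,0]))) (.node (.node (.node (.word [2,1,6,4,3,0,1,2,0]) (.word [1,5,2,1,6,3,2,1,0])) (.node (.word [1,5,6,3,2,1]) (.word [1,0,1,6,1,2,1,0,1,0]))) (.node (.node (.word [6,1,2,1,0])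 (.word [1,6,2,1,0,1,2,1,0])) (.word [2,1,6,1,0])))) (.node (.node (.node (.node (.word [6,4,3,0,1,2,0]) (.word [1,6,3,0,1,2,0,1])) (.node (.word [1,5,6,2,1,0]) (.word [1,2,0,1,6,2,1]))) (.node (.node (.word [0,1,5,6,1]) (.word [2,0,1,0,1,6])) (.word [1,6,2,1,5,2,0,1]))) (.node (.node (.node (.word [5,4,1,2,3,2,0]) (.word [1,2,0,1,6,1,2,0])) (.node (.word [3,2,1,0,1,6,2,0,1]) (.word [0,1,6,1,5,2,1,6]))) (.node (.node (.word [3,0,1,2,1]) (.word [6,2,0,1,5,6,3,2,1])) (.word [2,0,1,6,2,0,1]))))) (.node (.node (.node (.node (.node (.word [2,0,1,6,4,3,0,1,2]) (.word [1,6,5,2,1,6,2,0,1,0])) (.node (.word [3,2,1,6,2,0,1]) (.word [1,6,5,3,2,1,6,2,0]))) (.node (.node (.word [5,6,2,1]) (.word [0,1,2,1,0,1])) (.word [3,1,2,0,1,6,0,1]))) (.node (.node (.node (.word [6,4,3,1,0,1,2]) (.word [1,0,1,2,0,1,6,1])) (.node (.word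 [6,1,0,1,2,1]) (.word [5,1,2,0,1,6,1,0]))) (.node (.node (.word [1,5,6,3,1,2,1]) (.word [1,6,4,3,1,2,0,1,0])) (.word [3,2,1,6,1,2,1])))) (.node (.node (.node (.node (.word [6,1,5,6,1,2]) (.word [2,0,1,0,1,6,2,0,1,0])) (.node (.word [6,3,4,2,3,2,0]) (.word [0,1,2,1,0,1,6]))) (.node (.node (.word [6,1,5,6,3,2,1,0]) (.word [3,2,0,1,6,3,2,0,1,0])) (.word [3,2,1,0]))) (.node (.node (.node (.word [1,5,3,0,1,2,0]) (.word [1,2,3,2,1,6,0])) (.node (.word [1,0,1,6,0,1,0]) (.word [3,2,1,6,5,1,6,0]))) (.node (.node (.word [3,2,0,1,5,6,1,2,0]) (.word [1,0,1,6,1,2,1,0,1])) (.word [1,0,1,6,1])))))) (.node (.node (.node (.node (.node (.node (.word [4,3,2,1,6,5,1,0]) (.word [3,2,0,1,6,0,1,0])) (.node (.word [5,3,2,0,1,0]) (.word [6,1,5,4,3,2,1,6]))) (.node (.node (.word [6,4,3,2,0]) (.word [1,5,3,1,2,0,1])) (.word [3,2,1,5,6,2,1])))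 (.node (.node (.node (.word [6,2,3,0,1,2,0]) (.word [1,5,2,1,6,1,2,1])) (.node (.word [0,1,6,2,0,1]) (.word [2,3,2,0,1,0,1,6,1]))) (.node (.node (.word [1,5,1,2,1,0]) (.word [2,0,1,5,6,4,2,3,2,1])) (.word [2,1,6,2,3,2,1])))) (.node (.node (.node (.node (.word [0,1,5,6,4,3,1,2,0]) (.word [4,2,3,1,2,1,0])) (.node (.word [6,4,3,0,1,2,1,0]) (.word [5,2,3,1,2,0,1]))) (.node (.node (.word [0,1,5,6,1,0]) (.word [1,6,2,1,0,1,6,1])) (.word [2,0,1,6,1,2,0]))) (.node (.node (.node (.word [5,1,0,1,6,4,3,1,2]) (.word [1,2,0,1,5,1,6,2,1])) (.node (.word [6,0,1,5,6,2,1,0]) (.word [1,6,3,2,3,1,2,0,1]))) (.node (.node (.word [3,4,1,2,3,2,0]) (.word [0,1,2,0,1,6,1,2,0])) (.word [1,5,2,0,1,6,2,0,1]))))) (.node (.node (.node (.node (.node (.word [2,0,1,6,4,3,1,0,1,2]) (.word [0,1,0,1,6,1])) (.node (.word [6,2,1,0,1,2]) (.word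 [2,1,0,1,6,2,1,0]))) (.node (.node (.word [0,1,6,3,2]) (.word [2,1,6,2,3,2,1,0])) (.word [1,6,2,1,0,1,2]))) (.node (.node (.node (.word [6,1,2]) (.word [5,0,1,6,2,1,0])) (.node (.word [1,6]) (.word [4,3,2,1,6,5,2,1,6,0]))) (.node (.node (.word [2,1,6,4,2,3,2]) (.word [2,1,6,3,1,2,0,1,0])) (.word [6,2,3,2,1])))) (.node (.node (.node (.node (.word [5,6,1,2]) (.word [5,1,2,1,0,1,6,1,2,0])) (.node (.word [6,4,3,1,2,1]) (.word [0,1,2,0,1,6]))) (.node (.node (.word [3,2,0,1,5,6,1]) (.word [5,1,2,0,1,6,0,1,0])) (.word [5,2,1,6,3,2,0,1,0]))) (.node (.node (.node (.word [5,3,2,1,6,0,1]) (.word [0,1,6,3,2,1,5,0,1])) (.word [6,1,5,3,2,0,1])) (.node (.node (.word [5,2,1,6,2,0,1,0]) (.word [2,1,6,4,3,1,2,0,1,0])) (.word [6,2,0,1,5,0,1])))))))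

/-- A subtree. -/
def sub103 : WTree :=
  (.node (.node (.node (.node (.node (.node (.node (.word [5,4,2,3,2,1,6,5,1]) (.word [5,2,1,6,5,3,2,1,6])) (.node (.word [6,1,5,6,2,1,0]) (.word [0,1,6,5,2,1,6]))) (.node (.node (.word [5,1,2,1,0]) (.word [2,1,5,6,2,3,2,1])) (.word [2,1,6,5,1,6,2,0]))) (.node (.node (.node (.word [5,6,3,4,2,3,1,2,0]) (.word [2,1,0,1,6,5,2,1,6])) (.node (.word [6,3,2,1,5,0,1]) (.word [1,2,1,0,1,6,2,1,0]))) (.node (.node (.word [6,2,0,1,0]) (.word [2,0,1,6,5,1,6])) (.word [1,5,1,6,2,3,2,1])))) (.node (.node (.node (.node (.word [5,3,1,2]) (.word [4,3,2,0,1,0])) (.node (.word [1,6,2,0,1,0]) (.word [4,1,2,3,2,0,1]))) (.node (.node (.word [5,1,0,1,6,3,1,2]) (.word [5,2,1,6,5,1,6])) (.word [2,1,5,2,0,1]))) (.node (.node (.node (.word [1,5,2,1,6,0,1]) (.word [1,5,4,3,2,1,0])) (.node (.word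 [6,0,1,2,0,1,6,1,0,1]) (.word [0,1,6,0,1,5,2,1,6]))) (.node (.node (.word [2,1,0,1,2]) (.word [5,1,6,2,1,0,1,2,1])) (.word [6,5,1,6,4,3,2,0,1]))))) (.node (.node (.node (.node (.node (.word [5,4,3,1,2]) (.word [5,6,2,1,5,0,1,0])) (.node (.word [2,1,5,1,6,1,2,1]) (.word [5,0,1,2,1,0,1,6]))) (.node (.node (.word [0,1,2,1]) (.word [4,3,0,1,0,1,2,1])) (.word [5,3,2,1,6,1,2,0,1]))) (.node (.node (.node (.word [6,0,1,2,0]) (.word [1,6,2,1,0,1,6,0])) (.node (.word [1,6,2,3,2]) (.word [2,3,2,0,1,6,2,1,0]))) (.node (.node (.word [0,1,6,1,2]) (.word [5,0,1,6,3,2,1,0])) (.word [2,1,5,1,6,2,1])))) (.node (.node (.node (.node (.word [6,4,3,1,2,0]) (.word [4,3,2,1,6,2,1])) (.node (.word [5,1,0,1,6,2,0,1]) (.word [2,3,2,1,0,1,6,0,1]))) (.node (.node (.word [2,1,5,6,1,2,0]) (.word [1,5,2,1,0,1,6,1])) (.word [6,1,5,1,2,0,1])))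 (.node (.node (.node (.word [2,3,0,1,2,0]) (.word [2,0,1,6,1,0])) (.node (.word [1,6,2,0,1,5,0,1,0]) (.word [3,1,2,3,0,1,2,0,1]))) (.node (.node (.word [2,1,0,1,6,1,0,1,2]) (.word [6,5,2,1,6,2,1,0])) (.word [5,1,6,5,1,6,0])))))) (.node (.node (.node (.node (.node (.node (.word [2,0,1,5,6,4,3,1,2]) (.word [1,2,0,1,6,1,0,1,0])) (.node (.word [3,2,0,1,5,6,2,1]) (.word [2,3,2,1,6,2,1,0]))) (.node (.node (.word [1,6,1,2]) (.word [4,3,1,2,0,1])) (.word [2,3,1,2,0,1,6,2,1,0]))) (.node (.node (.node (.word [1,0,1,6,4,3,0,1,2,0]) (.word [1,2,0,1,0,1,6,1,2])) (.node (.word [5,2,1,6,3,2,1]) (.word [6,3,2,3,1,2,0,1]))) (.node (.node (.word [3,4,2,3,2,0]) (.word [5,1,6,4,3,2,1,0])) (.word [0,1,6,3,1,2,1])))) (.node (.node (.node (.node (.word [5,6,4,2,3,1,2,0]) (.word [3,1,2,0,1,0])) (.node (.word [1,0,1,2,1,0]) (.word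 [2,1,6,5,1,6]))) (.node (.node (.word [1,6,2,3,1,2,0]) (.word [5,1,0,1,2,1,0,1,6,1])) (.word [6,3,2,1,0]))) (.node (.node (.node (.word [5,4,1,2,3,0,1,2,0]) (.word [3,0,1,0,1,2,1,0])) (.node (.word [5,3,2,1,6,2,0,1,0]) (.word [1,2,3,0,1,2,0,1]))) (.node (.node (.word [0,1,6,0,1]) (.word [3,2,3,1,2,0,1,6,0,1])) (.word [1,5,0,1,2,0,1]))))) (.node (.node (.node (.node (.node (.word [0,1,6,4,3,0,1,2]) (.word [0,1,6,2,1,5,0,1])) (.node (.word [6,3,1,2,1,0]) (.word [6,4,1,2,3,2,1]))) (.node (.node (.word [1,5,6,1]) (.word [5,3,2,1,6])) (.word [3,0,1,2,0,1,6,1,0]))) (.node (.node (.node (.word [6,0,1,2,1]) (.word [2,1,0,1,6,0])) (.node (.word [0,1,6]) (.word [5,3,0,1,2,0,1,6,1]))) (.node (.node (.word [5,3,2,1]) (.word [0,1,6,2,1,0,1,0])) (.word [1,6,4,3,2,0,1])))) (.node (.node (.node (.node (.word [3,0,1,2]) (.word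 [1,6,3,2,1,0,1,6,1])) (.node (.word [3,2,3,2,1]) (.word [5,6,1,2,0,1,6,1,0,1,0]))) (.node (.node (.word [0,1,0,1,6,3,1,2]) (.word [1,2,1,0,1,6,2,0,1,0])) (.word [2,1,0,1,2,1,0]))) (.node (.node (.node (.word [0,1,0,1,6,4,3,1,2]) (.word [0,1,6,4,3,1,2,1])) (.word [0,1,6,2,1,5,0,1,0])) (.node (.node (.word [6,1,0,1,6,2,0]) (.word [6,5,1,2,1,0,1])) (.word [2,1,0,1,6,1,0,1])))))))

/-- A subtree. -/
def sub104 : WTree :=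
  (.node (.node sub100 sub101) (.node sub102 sub103))

/-- Points. -/
def levY0pts0 : List ℕ := [0,1,2,3,4,5,6,7,8,9,10,11,12,13,14,15,16,17,18,19,20,21,22,23,24,25,26,27,28,29,30,31,32,33,34,35,36,37,38,39,40,41,42,43,44,45,46,47,48,49,50,51,52,53,54,55,56,57,58,59,60,61,62,63,64,65,66,67,68,69,70,71,72,73,74,75,76,77,78,79,80,81,82,83,84,85,86,87,88,89,90,91,92,93,94,95,96,97,98,99,100,101,102,103,104,105,106,107,108,109,110,111,112,113,114,115,116,117,118,119,120,121,122,123,124,125,126,127,128,129,130,131,132,133,134,135,136,137,138,139,140,141,142,143,144,145,146,147,148,149,150,151,152,153,154,155,156,157,158,159,160,161,162,163,164,165,166,167,168,169,170,171,172,173,174,175,176,177,178,179,180,181,182,183,184,185,186,187,188,189,190,191,192,193,194,195,196,197,198,199]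

/-- Points. -/
def levY0pts1 : List ℕ := [200,201,202,203,204,205,206,207,208,209,210,211,212,213,214,215,216,217,218,219,220,221,222,223,224,225,226,227,228,229,230,231,232,233,234,235,236,237,238,239,240,241,242,243,244,245,246,247,248,249,250,251,252,253,254,255,256,257,258,259,260,261,262,263,264,265,266,267,268,269,270,271,272,273,274,275,276,277,278,279,280,281,282,283,284,285,286,287,288,289,290,291,292,293,294,295,296,297,298,299,300,301,302,303,304,305,306,307,308,309,310,311,312,313,314,315,316,317,318,319,320,321,322,323,324,325,326,327,328,329,330,331,332,333,334,335,336,337,338,339,340,341,342,343,344,345,346,347,348,349,350,351,352,353,354,355,356,357,358,359,360,361,362,363,364,365,366,367,368,369,370,371,372,373,374,375,376,377,378,379,380,381,382,383,384,385,386,387,388,389,390,391,392,393,394,395,396,397,398,399]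

/-- Points. -/
def levY0pts2 : List ℕ := [400,401,402,403,404,405,406,407,408,409,410,411,412,413,414,415,416,417,418,419,420,421,422,423,424,425,426,427,428,429,430,431,432,433,434,435,436,437,438,439,440,441,442,443,444,445,446,447,448,449,450,451,452,453,454,455,456,457,458,459,460,461,462,463,464,465,466,467,468,469,470,471,472,473,474,475,476,477,478,479,480,481,482,483,484,485,486,487,488,489,490,491,492,493,494,495,496,497,498,499,500,501,502,503,504,505,506,507,508,509,510,511,512,513,514,515,516,517,518,519,520,521,522,523,524,525,526,527,528,529,530,531,532,533,534,535,536,537,538,539,540,541,542,543,544,545,546,547,548,549,550,551,552,553,554,555,556,557,558,559,560,561,562,563,564,565,566,567,568,569,570,571,572,573,574,575,576,577,578,579,580,581,582,583,584,585,586,587,588,589,590,591,592,593,594,595,596,597,598,599]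

/-- Points. -/
def levY0pts3 : List ℕ := [600,601,602,603,604,605,606,607,608,609,610,611,612,613,614,615,616,617,618,619,620,621,622,623,624,625,626,627,628,629,630,631,632,633,634,635,636,637,638,639,640,641,642,643,644,645,646,647,648,649,650,651,652,653,654,655,656,657,658,659,660,661,662,663,664,665,666,667,668,669,670,671,672,673,674,675,676,677,678,679,680,681,682,683,684,685,686,687,688,689,690,691,692,693,694,695,696,697,698,699,700,701,702,703,704,705,706,707,708,709,710,711,712,713,714,715,716,717,718,719,720,721,722,723,724,725,726,727,728,729,730,731,732,733,734,735,736,737,738,739,740,741,742,743,744,745,746,747,748,749,750,751,752,753,754,755,756,757,758,759,760,761,762,763,764,765,766,767,768,769,770,771,772,773,774,775,776,777,778,779,780,781,782,783,784,785,786,787,788,789,790,791,792,793,794,795,796,797,798,799]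

/-- Points. -/
def levY0pts4 : List ℕ := [800,801,802,803,804,805,806,807,808,809,810,811,812,813,814,815,816,817,818,819,820,821,822,823,824,825,826,827,828,829,830,831,832,833,834,835,836,837,838,839,840,841,842,843,844,845,846,847,848,849,850,851,852,853,854,855,856,857,858,859,860,861,862,863,864,865,866,867,868,869,870,871,872,873,874,875,876,877,878,879,880,881,882,883,884,885,886,887,888,889,890,891,892,893,894,895,896,897,898,899,900,901,902,903,904,905,906,907,908,909,910,911,912,913,914,915,916,917,918,919,920,921,922,923,924,925,926,927,928,929,930,931,932,933,934,935,936,937,938,939,940,941,942,943,944,945,946,947,948,949,950,951,952,953,954,955,956,957,958,959,960,961,962,963,964,965,966,967,968,969,970,971,972,973,974,975,976,977,978,979,980,981,982,983,984,985,986,987,988,989,990,991,992,993,994,995,996,997,998,999]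

/-- Points. -/
def levY0pts5 : List ℕ := [1000,1001,1002,1003,1004,1005,1006,1007,1008,1009,1010,1011,1012,1013,1014,1015,1016,1017,1018,1019,1020,1021,1022,1023,1024,1025,1026,1027,1028,1029,1030,1031,1032,1033,1034,1035,1036,1037,1038,1039,1040,1041,1042,1043,1044,1045,1046,1047,1048,1049,1050,1051,1052,1053,1054,1055,1056,1057,1058,1059,1060,1061,1062,1063,1064,1065,1066,1067,1068,1069,1070,1071,1072,1073,1074,1075,1076,1077,1078,1079,1080,1081,1082,1083,1084,1085,1086,1087,1088,1089,1090,1091,1092,1093,1094,1095,1096,1097,1098,1099,1100,1101,1102,1103,1104,1105,1106,1107,1108,1109,1110,1111,1112,1113,1114,1115,1116,1117,1118,1119,1120,1121,1122,1123,1124,1125,1126,1127,1128,1129,1130,1131,1132,1133,1134,1135,1136,1137,1138,1139,1140,1141,1142,1143,1144,1145,1146,1147,1148,1149,1150,1151,1152,1153,1154,1155,1156,1157,1158,1159,1160,1161,1162,1163,1164,1165,1166,1167,1168,1169,1170,1171,1172,1173,1174,1175,1176,1177,1178,1179,1180,1181,1182,1183,1184,1185,1186,1187,1188,1189,1190,1191,1192,1193,1194,1195,1196,1197,1198,1199]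

/-- Points. -/
def levY0pts6 : List ℕ := [1200,1201,1202,1203,1204,1205,1206,1207,1208,1209,1210,1211,1212,1213,1214,1215,1216,1217,1218,1219,1220,1221,1222,1223,1224,1225,1226,1227,1228,1229,1230,1231,1232,1233,1234,1235,1236,1237,1238,1239,1240,1241,1242,1243,1244,1245,1246,1247,1248,1249,1250,1251,1252,1253,1254,1255,1256,1257,1258,1259,1260,1261,1262,1263,1264,1265,1266,1267,1268,1269,1270,1271,1272,1273,1274,1275,1276,1277,1278,1279,1280,1281,1282,1283,1284,1285,1286,1287,1288,1289,1290,1291,1292,1293,1294,1295,1296,1297,1298,1299,1300,1301,1302,1303,1304,1305,1306,1307,1308,1309,1310,1311,1312,1313,1314,1315,1316,1317,1318,1319,1320,1321,1322,1323,1324,1325,1326,1327,1328,1329,1330,1331,1332,1333,1334,1335,1336,1337,1338,1339,1340,1341,1342,1343,1344,1345,1346,1347,1348,1349,1350,1351,1352,1353,1354,1355,1356,1357,1358,1359,1360,1361,1362,1363,1364,1365,1366,1367,1368,1369,1370,1371,1372,1373,1374,1375,1376,1377,1378,1379,1380,1381,1382,1383,1384,1385,1386,1387,1388,1389,1390,1391,1392,1393,1394,1395,1396,1397,1398,1399]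

/-- Points. -/
def levY0pts7 : List ℕ := [1400,1401,1402,1403,1404,1405,1406,1407,1408,1409,1410,1411,1412,1413,1414,1415,1416,1417,1418,1419,1420,1421,1422,1423,1424,1425,1426,1427,1428,1429,1430,1431,1432,1433,1434,1435,1436,1437,1438,1439,1440,1441,1442,1443,1444,1445,1446,1447,1448,1449,1450,1451,1452,1453,1454,1455,1456,1457,1458,1459,1460,1461,1462,1463,1464,1465,1466,1467,1468,1469,1470,1471,1472,1473,1474,1475,1476,1477,1478,1479,1480,1481,1482,1483,1484,1485,1486,1487,1488,1489,1490,1491,1492,1493,1494,1495,1496,1497,1498,1499,1500,1501,1502,1503,1504,1505,1506,1507,1508,1509,1510,1511,1512,1513,1514,1515,1516,1517,1518,1519,1520,1521,1522,1523,1524,1525,1526,1527,1528,1529,1530,1531,1532,1533,1534,1535,1536,1537,1538,1539,1540,1541,1542,1543,1544,1545,1546,1547,1548,1549,1550,1551,1552,1553,1554,1555,1556,1557,1558,1559,1560,1561,1562,1563,1564,1565,1566,1567,1568,1569,1570,1571,1572,1573,1574,1575,1576,1577,1578,1579,1580,1581,1582,1583,1584,1585,1586,1587,1588,1589,1590,1591,1592,1593,1594,1595,1596,1597,1598,1599]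

/-- Points. -/
def levY0pts8 : List ℕ := [1600,1601,1602,1603,1604,1605,1606,1607,1608,1609,1610,1611,1612,1613,1614,1615,1616,1617,1618,1619,1620,1621,1622,1623,1624,1625,1626,1627,1628,1629,1630,1631,1632,1633,1634,1635,1636,1637,1638,1639,1640,1641,1642,1643,1644,1645,1646,1647,1648,1649,1650,1651,1652,1653,1654,1655,1656,1657,1658,1659,1660,1661,1662,1663,1664,1665,1666,1667,1668,1669,1670,1671,1672,1673,1674,1675,1676,1677,1678,1679,1680,1681,1682,1683,1684,1685,1686,1687,1688,1689,1690,1691,1692,1693,1694,1695,1696,1697,1698,1699,1700,1701,1702,1703,1704,1705,1706,1707,1708,1709,1710,1711,1712,1713,1714,1715,1716,1717,1718,1719,1720,1721,1722,1723,1724,1725,1726,1727,1728,1729,1730,1731,1732,1733,1734,1735,1736,1737,1738,1739,1740,1741,1742,1743,1744,1745,1746,1747,1748,1749,1750,1751,1752,1753,1754,1755,1756,1757,1758,1759,1760,1761,1762,1763,1764,1765,1766,1767,1768,1769,1770,1771,1772,1773,1774,1775,1776,1777,1778,1779,1780,1781]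

/-- A level. -/
def levY0 : Level :=
  ⟨465, (.node (.node sub89 sub94) (.node sub99 sub104)), levY0pts0 ++ levY0pts1 ++ levY0pts2 ++ levY0pts3 ++ levY0pts4 ++ levY0pts5 ++ levY0pts6 ++ levY0pts7 ++ levY0pts8⟩

/-- A subtree. -/
def sub105 : WTree :=
  (.node (.node (.node (.node (.node (.node .none (.node .none (.word [2,1,3,5,6,2,3,1,2,0,1,6,5,3,1]))) (.node (.node (.word [2,6,5,4,3,1,2,0,1,5,2,3,2,3]) (.word [0,1,0,2,1,5,1,2,3,0,1,2,1,0])) (.word [4,3,0,1,2,3,2,1,6,0,1,0,1,2,0,1]))) (.node (.node (.node (.word [0,2,3,2,1,5,0,1,6,3,2,3,4,2]) (.word [5,2,6,1,0,4,3,2,3,1,0,1,2,3,4,3])) (.node .none (.word [4,3,2,3,2,1,5,2,3,2]))) (.node (.word [0,1,2,3,2,1,6,2,1,0,1,2,0,1,5,3]) (.word [0,2,1,0,1,3,2,0,1,5,6,3,4,2,3])))) (.node (.node (.node (.node .none (.word [1,2,1,0,5,1,0,1,5,2,3,2,1,0])) .none) (.word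 [0,6,1,0,2,1,0,5,4,3,2,3,1,2,0,1,6,5])) (.node (.node (.node (.word [5,1,2,3,2,4,3,2,1,0,1,6]) (.word [4,3])) (.node (.word [5,2,6,1,0,2,3,2,1,6,2,3,4]) (.word [6,1,5,3,4,2,3,2,3,1,2,0,1,5,3]))) (.node (.node (.word [0,2,1,0,3,2,1,4,3,2,0,1,5,4,3,2,0]) (.word [2,1,5,1,2,0,1,5,3,2,3,4,2,1,0])) (.word [0,1,0,1,5,0,1,6,4]))))) (.node (.node (.node (.node (.node (.word [3,4,1,2,3,6,1,2,0,1,6,3,2,3,0,1,0]) (.word [3,4,2,1,0,1,3,5,1,2,3,4,1,2])) (.node .none (.word [1,0,1,3,4,3,2,3,1,2,1,0,1,5,3]))) (.node (.node .none (.word [5])) (.word [2,1,0,6,1,0,2,3,2,1,6,0,1,2,3,4]))) (.node (.node .none (.word [0,1,2,6,5,1,2,3,2,1,5,6,4,3,1,0])) (.node (.node (.word [0,2,3,4,6,1,2,3,2,1,6,4,2,3,2,3]) (.word [2,6,1,0,2,3,2,1,5,6,4,2])) (.word [1,5,6,1,2,0,1,6,5,1,2,0])))) (.node (.node (.node (.node (.word [3,4,6,1,0,2,1,3,2,5,3,0,1,2,0,1,6])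 (.word [5,1,2,3,2,3,4,3,2,1,0,1,5,6])) (.node (.word [2,6,5,4,3,1,2,3,0,1,2,3,4,2]) (.word [3,4,2,3,2,1,5,3,2,3,2]))) (.node (.node (.word [2,3,2,1,5,0,1,2,0,1,6,3,4,2,3]) (.word [0,5,1,0,1,2,3,1,2,1,0,1,0])) (.word [0,1,2,1,3,4,5,2,1,0,1,5,2,0,1]))) (.node (.node (.node (.word [0,6,1,2,3,5,1,0,1,5,2,0,1,6,2]) (.word [5,1,0,2,3,6,1,2,0,1,6,3,2,1])) (.node (.word [2,1,0,1,5,4,3,2,3,4,1,0,1,2]) (.word [2,1,4,3,2,1,0,1,6,5,3,4,2,3]))) (.node (.node (.word [3,4,2,3,6,1,2,0,1,5,2,3,2,0]) (.word [5,4,3,2,6,1,2,5,3,2,1,0,1,2])) (.word [2,3,2,6,1,5,1,0,1,5,3,2,3,4,2])))))) (.node (.node (.node (.node (.node (.node .none (.word [2,3,2,4,3,2,1,3,0,1,2,3,4,3,2,3,2])) (.node (.word [0,2,1,4,3,2,3,1,2,3,4]) (.word [2,3,2,6,5,1,2,3,4,0,1,0,1,2,3]))) (.node (.node (.word [2,1,0,1,2,5,3,2,1,6,2]) (.word [5,2,1,3,4,6,2,1,6,0,1,2,3,4,2,3,1,2]))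 (.word [0,1,0,1,3,4,2,3,1,2,3,4,1,0,1,0]))) (.node (.node (.word [2,3,6,1,5,2,1,6,2,3,2,3]) (.node (.word [1,2,5,1,2,0,1,5,2,1]) (.word [2,6,5,4,3,1,2,0,1,0,1,2,3,2]))) (.node (.node (.word [6,1,5,4,3,0,1,0,1]) (.word [1,5,3,2,1,5,6,1,5,4,2,3,1,0])) (.word [1,0,2,5,1,4,3,2,1,5,0,1,2])))) (.node (.node (.node (.node (.word [0,1,2,1,3,4,5,3,2,3,2,1,5,2,3,0,1,0]) (.word [2,6,1,5,4,0,1,0,1,2,3])) (.word [5,0,1,0,2,1,5,3,2,3,2,1,6,5])) (.node (.node (.word [2,1,5,6,1,2,0,1,6,5,4,3,1,0]) (.word [5,2,1,0,1,5,4,3,2,1,0,1,5,3,2,3])) (.word [5,2,6,1,0,4,3,2,1,0,1,5,3,2,3]))) (.node (.node (.node .none (.word [1,0,1,5,0,1,6,3,4])) (.word [0,3,1,2,1,0,1,5,1,2,3,4,2,0,1])) (.word [2,3,6,1,2,3,0,1,2,3,4,2])))) (.node (.node (.node (.node (.node .none (.word [0,2,6,1,5,6,1,2,0,1,5,3,2,1,6,3,4,1])) (.node (.word [5,4,3,2,3,6,1,2,0,1,5,3,2,3,4,2])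 (.word [0,6,1,0,1,3,2,3,4,2,3,2,1,5]))) (.node (.word [0,2,3,2,1,5,0,1,6,5,2,3,4,2]) (.word [0,2,1,3,2,4,3,1,2,3,4,1,2,3,0,1,2]))) (.node (.node (.node (.word [5,0,1,0,2,1,5,3,2,3,2,1,6]) (.word [0,2,1,4,3,2,3,4,1,2,3])) (.word [6,1,2,3,4,5,1,2,3,1,2,1,0,1,6,5,3])) (.node (.word [4,3,0,2,3,2,1,5,2,3,1,0,1,2,3,4]) (.word [1,0,2,3,2,1,6,0,1,5,3,4,2,3,2,1,6,0])))) (.node (.node (.node (.node (.word [5,4,3,2,1,0,1,2,5,3,2,1,6,2]) (.word [1,6,1,3,2,3,2,1,0,1,6,1,2,1,0])) (.node (.word [1,5,6,1,2,1,6,1,5,1,2]) (.word [1,5,4,3,2,1,5,6,1,5,2,3,1,0]))) (.node (.node (.word [2,3,5,6,1,2,0,1,5,2,3,2,0]) (.word [5,2,6,1,0,2,1,5,3,2,0,1,0,1,5])) (.word [5,1,2,3,2,4,3,2,1,0,1,6,3,0]))) (.node (.node (.word [0,2,1,3,2,1,0,1,6,5,3,2,3,4]) (.word [2,1,0,1,3,6,5,1,6,2,3,1,2])) (.node (.node .none (.word [0,2,3,2,6,1,3,2,3,4,0,1,0,1,2,3]))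 (.word [1,2,1,5,1,6,1,5,2,3,1,0])))))))

/-- A subtree. -/
def sub106 : WTree :=
  (.node (.node (.node (.node (.node (.node (.node (.word [0,2,1,5,4,3,1,2,0,1,5,2,3,1,2,3]) (.word [2,3,6,1,0,1,2,3,1,2,3,4,3])) (.node .none (.word [0,1,2,1,3,2,3,6,1,5,2,3,2,1,6,1]))) (.node .none (.word [0,1,2,3,2,4,3,2,0,1,0,1,6,0]))) (.node (.node (.node (.word [2,3,2,6,5,1,2,3,0,1,0,1,2,3,4]) (.word [0,1,0,1,2,1,3,2,1,0,1,0])) (.node (.word [3,4,0,2,3,6,1,2,0,1,0,1,5,3,4,2]) (.word [2,3,2,1,5,3,1,2,3,2]))) (.node (.node (.word [0,5,4,1,2,3,2,4,3,2,1,0,1,6]) (.word [0,2,1,4,3,2,3,1,2])) (.word [0,2,1,0,1,5,0,1,6,2,3,4,3])))) (.node (.node (.node (.node (.word [5,4,3,0,1,0,2,1,5,3,2,3,2,1,6]) (.word [0,5,4])) .none) (.node (.node .none (.word [0,2,6,1,0,1,4,3,2,1,5,3,2,3,4,3])) (.word [2,1,0,1,3,2,1,5,3,1,2,3,4,2]))) (.node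 (.node (.node (.word [4,3,2,3,6,1,2,3,0,1,2,3,4,2]) (.word [5,3,4,2,6,1,0,2,3,2,1,6,4,2,3])) (.node .none (.word [4,3,2,6,1,0,2,3,2,1,6,5,2,3,4]))) (.node (.node (.word [0,2,3,2,1,5,0,1,6,5,3,2,3,4,2]) (.word [1,2,5,1,4,3,2,1,5,3,4,2,1])) (.word [2,1,5,4,3,2,1,5,2,3,0,1,2,3,0]))))) (.node (.node (.node (.node (.node (.word [2,1,0,1,2,4,3,2,1,5,3,2,3,0,1,0,1]) (.word [0,2,3,2,1,5,1,2,3,1,0,1,2,3,0])) (.node (.word [2,1,0,1,5,4,3,2,3,1,0,1,2,0]) (.word [1,5,6,1,2,3,5,1,6,0,1,5,6,2,3,1,2]))) (.node (.node .none (.word [2,1,0,1,2,5,3,2,1,6,2,3,4])) (.word [2,1,0,1,3,4,5,1,2,3,4,2,3,1,2]))) (.node (.node (.node .none (.word [6,1,5,1,2,3,0,1,2,1,0,1,5,3])) (.word [2,3,2,1,0,1,5,2,3,4,1,0,1,2,3])) (.node (.node (.word [0,2,1,0,5,1,5,4,3,2,3,1,2,3,4,3]) (.word [6,3,2,1,5,3,2,1,6,3,4,2])) (.word [0,1,2,3,2,1,6,3,1,0,1,2,3,1,2,1]))))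 (.node (.node (.node (.node (.word [1,2,1,3,4,5,2,3,2,1,5,2,3,0,1,0]) (.word [5,2,6,4,3,2,1,5,0,1,2,3,2,3])) (.node (.word [0,6,1,0,1,2,1,5,3,4,1,0,1,2,1]) (.word [6,1,5,1,2,0,1,5,3,2,0,1,6,0]))) (.node (.node (.word [2,6,5,4,3,2,1,0,1,6,5,2,3,2]) (.word [1,2,1,5,1,6,2,1,5,4,2,3,1])) (.word [0,1,2,3,2,6,1,5,6,3,1,2,3,4,2,1,0]))) (.node (.node (.node (.word [1,2,1,6,4,3,2,1,6,0,1,2,0,1,5,3]) (.word [5,2,1,4,3,2,1,0,1,6,3,4,2,0])) (.node (.word [1,0,5,1,0,1,5,2,3,2,1,0,1,5,0,1]) (.word [2,6,1,0,2,3,2,1,6,4,2,0]))) (.node .none (.word [0,1,2,3,2,5,1,0,1,5,0,1,2,1])))))) (.node (.node (.node (.node (.node (.node (.word [2,1,3,5,1,2,0,1,5,2,3,1,2,3]) (.word [2,1,0,1,3,5,2,1,0,1,5,3,2,3,2])) (.node (.word [0,2,3,6,1,2,3,4,2,3,2,1,0,1,2,3,4]) (.word [2,3,6,5,1,2,0,1,0,1,5,3,2,3]))) (.node (.word [1,2,5,1,2,0,1,5,2,3,4,1])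 (.word [2,1,0,1,3,5,2,1,0,1,2,3,4,2,3]))) (.node (.node (.node (.word [0,2,3,2,5,1,2,0,1,6,5,3,2,3,4]) (.word [0,1,0,2,1,5,1,2,3,4,0,1,2,1])) (.word [2,1,0,1,3,5,2,1,0,1,2,3,4,2,0])) (.node (.node .none (.word [1,5,6,1,2,1,6,5,4,1,2,0])) .none))) (.node (.node (.node (.node .none (.word [5,4,3])) (.node .none (.word [2,6,1,0,4,3,2,3,1,0,1,2,3]))) (.node (.node (.word [4,3,2,3,6,1,5,2,1,6,2,3,2,3]) (.word [0,1,0,1,2,1,3,2,1,0,1,5,4,3,0])) (.word [0,2,3,2,1,5,2,3,1,0,1,2,3,4]))) (.node (.node (.node .none (.word [2,3,5,6,1,0,1,2,3,4,1,2,3,0])) (.node (.word [0,2,1,5,6,1,2,3,2,1,6,5,1,2]) (.word [0,2,6,1,0,2,4,3,2,1,6,2,3,0]))) (.node .none (.word [2,1,5,4,3,2,1,5,3,0,1,2,3,0]))))) (.node (.node (.node (.node (.node (.word [1,2,1,0,1,4,3,2,1,5,3,2,3,1,0,1]) (.word [1,5,3,2,1,5,6,1,5,4,2,1])) (.word [1,0,1,3,2,3,1,2,3,1,0,1]))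 (.node (.node .none (.word [3,4,6,5,3,1,2,3,1,2,0,1,6,2])) .none)) (.node (.node (.node (.word [5,1,0,2,1,5,4,3,2,3,2,1,6]) (.word [2,3,2,6,1,0,1,6,2,3,2])) (.word [2,3,2,5,1,0,1,2,0,1,6,3,2])) (.node (.node (.word [3,4,2,3,6,5,1,2,0,1,0,1,5,3,4,2]) (.word [2,6,1,0,2,1,5,3,2,0,1,0,1,5])) .none))) (.node (.node (.node (.word [3,4,0,2,3,6,1,2,5,1,6,3,4,2,3,0]) (.node .none (.word [0,6,1,3,2,3,1,2,0,1,6,4,2,0]))) (.node (.node (.word [5,6,3,2,3,1,2,3,4,0,1,0,1,2]) (.word [3,4,2,3,2,6,1,0,1,6,1,2,3,2])) (.word [4,3,1,2,1,0,1,5,1,2,3,2,0,1,0]))) (.node .none (.node (.node .none (.word [2,3,6,1,0,1,2,3,4,1,2,3,0])) (.word [1,5,6,1,3,2,1,6,1,5,4,1,2])))))))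

/-- A subtree. -/
def sub107 : WTree :=
  (.node (.node (.node (.node (.node (.node (.node (.word [3,4,2,1,3,5,2,3,2,1,0,1,5,1,2,1]) (.word [5,3,4,2,3,1,2,3,1,2])) (.node (.word [5,1,2,3,2,3,4,3,2,1,0,1,6,0]) (.word [1,2,6,1,5,1,2,4,3,2,1,6,1,0,1,0]))) (.node (.node (.word [0,1,2,3,2,1,4,3,6,1,2,3,0,1,2,0,1,6,5,3]) (.word [])) (.word [4,3,0,2,3,6,1,2,0,1,0,1,5,3,4,2]))) (.node (.node (.node .none (.word [1,0,2,3,2,1,6,1,0,1,2,3,1,2,1])) (.word [5,3,4,2,6,1,0,2,3,2,1,6,2,3,4,3,0])) (.node (.node (.word [0,1,0,1,3,4,2,3,1,2,3,1,0,1]) (.word [0,2,6,1,0,4,3,2,1,5,3,2,3,4,2])) (.word [0,1,0,2,1,5,2,3,2,0,1,6,4])))) (.node (.node (.node (.node .none (.word [2,1,3,2,3,4,1,2,0])) (.word [2,6,5,4,1,2,3,2,0,1,6,4,2,3])) (.node (.node (.word [0,2,1,0,1,3,2,0,1,6,3,4,2]) (.word [0,2,1,5,1,2,3,2,0,1,5,2,3,0,1])) (.word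 [2,1,0,1,3,5,1,2,3,1,2,3,4,3]))) (.node (.node .none (.node (.word [0,1,0,2,5,1,0,1,5,2,3,4,1,2,1]) (.word [0,6,1,2,3,5,0,1,2,3,4,3,1,0,1]))) (.node (.node (.word [2,3,2,1,5,2,3,2,3,4]) (.word [0,2,3,6,1,2,3,0,1,0,1,2,3,4,3])) (.word [2,6,1,2,5,3,2,3,1,2,0,1,5,3,2,3,4]))))) (.node (.node (.node (.node (.node (.word [0,1,2,3,2,1,4,0,1,2,3,2,1,5,2,3,4,0]) (.word [0,1,2,5,1,2,3,2,1,5,3,4,2,1])) (.node (.word [2,3,2,5,6,1,0,1,6,3,1,2,3,2]) (.word [1,2,1,3,4,3,2,1,5,0,1,2,3,2,1,0]))) (.node (.node (.word [5,1,0,1,2,1,4,3,2,3,1,0,1]) (.word [0,1,2,3,2,1,5,1,2,3,4,2,1])) (.word [0,2,3,2,6,1,5,0,1,2,3,2,3]))) (.node (.node (.node (.word [0,2,3,2,6,1,3,2,3,0,1,0,1,2,3,4]) (.word [0,1,5,6,1,3,2,1,6,5,3,2,3,1,2])) (.node (.word [2,3,6,5,1,2,3,4,0,1,0,1,2]) (.word [1,0,1,2,3,5,0,1,2,0,1,6,2,3,0]))) (.node (.node (.word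 [2,1,0,1,4,3,2,0,1,6,3,4,2]) (.word [0,2,6,1,5,4,0,1,0,1,2])) (.word [0,1,2,1,0,1,5,4,3,1,2,3,2,1])))) (.node (.node (.node (.word [1,2,5,1,4,2,3,2,1,5,3,2,3,4,3,1]) (.node (.word [2,3,2,6,1,2,6,3,1,0,1,2,3,4,2]) (.word [0,1,2,1,3,2,0,1,5,1,2,3,0,1]))) (.node (.node (.word [1,5,3,2,3,2,1,5,2,3,2,1,0]) (.word [1,6,5,1,3,2,3,2,1,5,6,2,3,4,3,1])) (.word [6,1,5,3,4,0,1,0,1]))) (.node (.node (.word [1,0,2,1,0,3,4,3,2,1,5,3,2,0,1,6,5]) (.node .none (.word [6,4,3,2,3,1,0,1,2,3,1,2,3]))) (.node (.node (.word [1,2,1,0,5,1,0,1,5,2,3,4,2,1]) (.word [0,1,5,4,3,2,1,5,6,1,5,2,3,1])) (.word [1,0,1,4,3,2,3,4,3,1,2,1,0,1])))))) (.node (.node (.node (.node (.node (.node (.word [1,0,6,1,2,3,4,3,2,1,5,3,2,1,6,3,2,1]) (.word [0,1,2,3,2,1,6,2,1,0,1,2,3,0,1])) (.node (.word [5,0,1,2,3,2,4,3,2,0,1,0,1,6,0]) (.word [0,2,4,3,2,1,5,1,2,3,2])))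 (.node (.node (.word [4,3,2,6,5,4,3,1,2,3,0,1,2,3,4,2]) (.word [1,2,6,4,3,2,1,6,0,1,0,1,2,1])) (.word [2,6,4,3,2,1,5,0,1,2,3,2,3]))) (.node (.node (.node (.word [2,3,2,4,3,2,1,6,2,3,1,2,3,4,3,2,3,2]) (.word [0,2,3,2,1,5,2,3,4,1,0,1,2,3])) (.node (.word [1,2,1,0,1,5,4,3,1,2,1,0,1,6,0]) (.word [0,1,5,6,1,3,2,1,6,5,4,1,2,3]))) (.node (.node (.word [1,0,1,2,1,5,4,3,2,0,1,6,0]) (.word [0,6,1,0,1,3,2,3,4,2,3,2,1])) (.word [1,5,6,1,2,1,6,5,1,2])))) (.node (.node (.node (.node .none (.word [0,6,1,3,2,3,1,2,0,1,5,6,2,3])) (.word [2,3,2,5,6,1,0,1,6,5,2,3,2])) (.node (.node .none (.word [1,5,6,1,3,2,1,6,5,4,1,2])) (.word [5,1,0,1,2,1,3,4,3,2,1,0,1,5]))) (.node (.node (.word [1,0,2,1,0,1,5,6,1,2,3,4,2,1]) (.node (.word [2,6,5,4,3,2,1,0,1,6,1,2,3,2]) (.word [6,1,4,3,2,3,1,2,0,1,6,4,2,0]))) (.word [6,1,2,3,5,2,3,1,2,3,0,1]))))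 (.node (.node (.node (.node (.node (.word [0,1,2,3,2,1,4,3,6,5,1,2,3,2,1,0,1]) (.word [0,6,3,2,1,5,4,3,2,1,6,3,4,2])) (.node .none (.word [1,0,1,2,3,5,0,1,2,0,1,6,2]))) (.node (.node (.word [1,2,3,6,5,1,2,3,2,1,5,6,4,3,2,3,1,0]) (.word [0,6,1,2,3,2,1,4,3,0,1,2,3,2,1])) (.word [1,0,2,3,2,1,5,1,2,3,4,2,0,1,0]))) (.node (.node (.node (.word [0,1,2,1,0,3,4,3,1,2,3,1,2,1,0,1,6]) (.word [0,1,5,4,1,2,3,2,1,5,3,0,1,2,1])) (.node (.word [0,1,2,3,5,1,6,2,1,5,3,4,1,2,1]) (.word [1,5,6,1,3,2,1,6,5,4,1,2,3,0]))) (.node (.node (.word [0,6,1,2,3,5,0,1,2,3,1,0,1]) (.word [0,2,3,2,6,1,5,0,1,2,3,2,3,4,3])) (.word [3,4,2,3,1,2,3,4,1,2,0])))) (.node (.node (.node (.node (.word [4,3,2,1,0,1,2,5,3,2,1,6,2]) (.word [1,0,2,3,2,4,5,3,1,2,0,1,5,0,1])) (.node (.word [0,1,5,6,1,3,2,1,6,5,1,2]) (.word [6,3,2,3,1,2,3,0,1,0,1,2,0]))) (.node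 .none (.word [2,3,2,6,1,5,3,2,0,1,6,2,3,2,3,4]))) (.node (.node (.node (.word [1,2,6,1,0,1,2,6,0,1,5,3,2,1,6]) (.word [1,2,1,5,4,3,2,1,0,1,5,2,0,1,0])) (.node (.word [2,3,2,5,1,2,3,4,2,0]) (.word [1,2,3,2,3,4,1,0,1,2,3,2,1,6,0]))) (.node (.node .none (.word [2,5,6,1,5,2,3,2,1,0,1,2])) .none))))))

/-- A subtree. -/
def sub108 : WTree :=
  (.node (.node (.node (.node (.node (.node (.node (.word [0,2,1,5,4,3,2,3,2,1,0,1,5,1,2,1]) (.word [2,3,2,3,1,2,3,2])) (.node .none (.word [5,3,4,2,6,1,2,5,3,2,1,0,1,2]))) (.node (.node .none (.word [6,1,5,6,1,2,3,5,1,2,0,1,6,4,3,2,3,1])) .none)) (.node (.node (.node (.word [0,1,0,2,5,1,6,5,1,6,3,2,3,2,1,0,1]) (.word [1,0,1,3,2,3,1,2,1,0,1,5,3,4,0])) (.node (.word [6,1,4,3,2,3,1,2,0,1,6,5,2]) (.word [1,5,6,1,4,3,2,1,6,5,1,2,3,0]))) (.node (.node .none (.word [0,1,2,5,1,0,1,5,2,3,1]))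 .none))) (.node (.node (.node (.word [1,0,2,1,5,4,3,2,3,2,1,6,4,0]) (.node .none (.word [2,1,3,4,6,2,1,6,0,1,2,3,4,2,3,1,2]))) (.node (.node .none (.word [5,6,1,2,3,5,2,3,1,2,3,4,3,0,1])) (.word [1,5,4,3,2,1,0,1,5,2,1]))) (.node (.node (.node (.word [0,1,2,5,1,0,1,5,2,3,4,3,1]) (.word [6,1,3,4,2,3,1,2,0,1,6,4,2,3])) .none) (.node (.word [3,4,1,2,1,0,1,5,1,2,3,2,0,1,0]) (.word [6,1,3,2,1,5,4,3,2,1,0,1,5,2]))))) (.node (.node (.node (.node (.node .none (.word [2,3,2,6,1,2,5,1,6,3,2,3,4,2,3])) (.node .none (.word [1,2,6,5,1,2,3,4,3,2,1,5,6,3,4,1]))) (.node (.node (.word [2,3,2,6,1,2,6,5,1,6,2,3,4,2,3]) (.word [0,2,1,5,6,1,2,0,1,6,5,4,1,0])) (.word [1,2,1,3,4,6,3,2,1,6,0,1,2,0,1]))) (.node (.node (.node (.word [5,1,0,3,2,1,5,3,2,3,2,1,6]) (.word [1,0,1,2,1,3,4,3,2,3,4,1,0,1])) (.word [0,1,0,2,1,3,2,3,2,1,5,1,6,4]))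 (.word [0,5,3,1,2,3,2,4,3,2,1,0,1,6]))) (.node (.node (.node (.node (.word [0,1,2,3,2,1,6,5,1,0,1,2,3,0,1,0]) (.word [0,6,1,0,1,3,2,3,4,2,3,2,3,1,0])) (.node (.word [0,2,1,5,1,2,3,2,1,0,1,5,4,2,0,1]) (.word [4,3,2,6,5,4,3,1,0,1,2,3,1,2,3]))) (.node (.node (.word [2,1,4,3,2,1,0,1,6,5,3,2]) (.word [5,1,0,1,2,1,4,3,2,1,0,1,0])) (.word [0,1,5,3,2,1,5,6,1,5,2,1]))) (.node (.node (.node (.word [1,2,3,5,1,6,2,1,5,3,2,1]) (.word [1,0,1,2,3,5,0,1,2,0,1,6,4,2,0])) (.node .none (.word [0,6,1,3,2,3,1,2,0,1,6,5,2,3,4]))) (.node (.node (.word [0,6,1,5,3,4,2,3,0,1,2,1,0,1,0]) (.word [1,5,6,1,4,3,2,1,6,5,1,2,3,4])) (.word [2,3,2,1,0,1,2,0,1,6,3,2])))))) (.node (.node (.node (.node (.node (.node (.word [0,1,2,6,5,1,2,3,2,1,5,6,1,5,3]) (.word [5,2,1,0,1,5,4,3,2,3,4,1,0,1,2])) (.node (.word [0,2,1,3,2,5,1,2,0,1,5,3,1,2]) (.word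 [1,2,1,0,1,5,3,2,3,1,0,1,2,3,4,1]))) (.node (.node (.word [0,2,4,3,2,1,5,1,2,3,2,3,4]) (.word [1,2,3,2,3,4,3,2,1,5,3,4,1,0,1,0])) .none)) (.node (.node (.node .none (.word [1,2,1,0,1,5,1,2,3,4,2,0,1])) (.node .none (.word [2,3,2,6,5,1,2,3,0,1,0,1,2]))) (.word [3,4,2,3,6,1,2,3,0,1,2,3,4,2]))) (.node (.node (.node (.node (.word [5,1,2,1,0,1,4,3,2,1,5,3,2,3,1,0,1]) (.word [6,3,2,1,5,0,1,0,1,2,3])) (.node (.word [1,2,3,2,3,4,3,2,1,0,1,6,3]) (.word [6,1,3,4,2,3,1,2,0,1,6,2]))) (.word [5,3,4,2,3,2,6,1,0,1,6,5,2,3,2])) (.node (.node (.node .none (.word [0,2,5,4,3,1,2,3,1,2])) (.node .none (.word [0,6,1,0,2,1,3,5,1,2,0,1,5,6]))) (.node (.node .none (.word [6,3,2,1,5,1,2,3,2,1,0,1,2])) (.word [6,1,5,0,1,0,2,3,2,4,3,2,1,0,1,6]))))) (.node (.node (.node (.node (.node (.word [2,5,6,1,5,4,3,2,1,6,3,2,3]) (.word [0,2,3,2,5,1,2,0,1,6,3,4,2,3]))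 (.node .none (.word [1,2,1,0,5,1,0,1,2,3,2,1,5,4,1]))) (.node (.node (.word [6,1,2,5,4,3,0,1,2,3,1,0,1]) (.word [0,2,3,2,1,3,2,0,1,6,3,4,2,0])) (.word [0,1,0,5,1,5,3,2,3,4,2,3,2,1]))) (.node (.node (.node .none (.word [0,2,1,4,3,2,1,5,3,2])) (.word [0,1,5,6,1,2,0,1,6,5,1,2,3,0])) (.node (.node (.word [1,2,5,1,0,1,5,2,1]) (.word [1,2,5,1,4,3,2,3,2,1,5,4,2,1])) (.word [4,3,2,3,1,2,3,4,1,2,3])))) (.node (.node (.node (.word [2,6,1,5,4,3,2,1,6,3,4,2,3,0]) (.node (.word [2,3,5,6,1,0,1,2,3,4,1,2]) (.word [4,3,1,2,1,0,5,1,0,1,2,3,2,1,5,4,1]))) (.node (.node .none (.word [1,2,1,5,1,0,1,2,3,2,1,5,3,1,2])) .none)) (.node (.node (.node (.word [6,1,0,1,2,3,4,2,3,2,1,5,4,0]) (.word [0,1,5,6,1,2,1,6,5,4,1,2])) (.word [6,1,2,3,5,2,3,1,2,0,1,5,0])) (.node (.node .none (.word [5,3,4,1,2,1,0,3,5,1,2,3,2,1,5,1])) (.word [1,2,3,2,3,4,1,5,1,0,1,2,1,0])))))))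

/-- A subtree. -/
def sub109 : WTree :=
  (.node (.node sub105 sub106) (.node sub107 sub108))

/-- A subtree. -/
def sub110 : WTree :=
  (.node (.node (.node (.node (.node (.node (.word [2,1,3,2,3,1,5,6,1,5,4,3,2,1,6,3,2,3]) (.node (.word [2,3,6,1,5,0,1,2,3,0,1,2]) (.word [2,3,6,1,0,1,2,3,1,2,3]))) (.node (.word [0,1,0,1,4,3,2,3,1,2,3,1,0,1]) (.word [1,6,1,2,3,4,3,2,1,0,1,6,1,2,1]))) (.node (.node (.node (.word [4,3,1,2,3,6,5,1,2,3,2,1,5,6,4,3,2,3,1,0]) (.word [0,6,1,3,2,1,5,3,2,1,0,1,2])) (.node (.word [4,3,2,1,0,1,2,5,3,2,1,6,4,2,0]) (.word [1,2,6,1,5,1,2,4,3,2,1,6,3,4,1,0,1,0]))) (.node (.node (.word [0,1,0,1,2,1,3,2,3,1,0,1]) (.word [1,2,3,5,6,1,2,0,1,6,5,3,2,1])) (.word [2,1,0,1,2,5,3,2,1,6,5,2,3,4])))) (.node (.node (.node (.node (.word [2,1,3,5,2,3,2,1,6,2,0,1,5,2,1]) (.word [2,3,2,6,1,6,5,3,2,1,6,2,3,4,2,0]))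 (.node .none (.word [2,1,0,6,1,0,2,3,2,1,6,0,1,2]))) (.node (.node (.word [0,2,1,0,1,3,5,2,3,1,0,1,2,3,4,3]) (.word [4,3,2,6,1,5,4,3,2,1,6,3,4,2])) (.word [1,2,3,2,4,3,2,1,5,1,0,1]))) (.node (.node (.node (.word [1,0,2,1,5,4,3,2,3,2,1,6]) (.word [1,0,2,1,0,6,1,6,2,3,4,3,1,2,3,1,0])) (.node .none (.word [1,2,1,3,4,3,2,1,0,1,2,3,4,2,1]))) (.node (.word [0,1,0,2,1,5,2,3,2,0,1,6,5,4]) (.word [1,0,2,1,0,1,5,6,1,2,3,2,1,0]))))) (.node (.node (.node (.node (.node (.word [2,1,0,3,5,2,1,5,2,3,1,2,3]) (.word [0,1,0,5,1,2,3,5,4,2,3,2,0,1,0])) (.node (.word [5,0,1,0,1,2,1,3,2,3,4,1,0,1,0]) (.word [2,1,0,6,1,0,2,3,2,1,6,0,1,5,2]))) (.word [0,6,3,2,3,1,2,3,0,1,2,3,4,2])) (.node (.node (.node .none (.word [1,2,1,0,3,5,1,2,3,2,1,5,4,3,1])) (.node (.word [2,3,2,1,5,0,1,2,0,1,6,3,2,3,0]) (.word [0,2,1,0,1,5,0,1,6,4,2]))) (.node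 (.node (.word [1,2,5,1,0,1,5,2,3,4,1]) (.word [0,1,0,1,2,1,3,2,1,0,1,5,0])) (.word [5,2,1,0,3,2,1,0,1,5,1,6,3,2,3])))) (.node (.node (.node (.word [2,6,1,5,4,3,2,1,6,3,2,3]) (.node .none (.word [1,0,1,2,3,0,1,5,2,1,0,1,2,3,4,1]))) (.node (.node (.word [1,0,2,5,1,0,4,1,2,3,2,1,5,1,2,0]) (.word [4,3,1,2,1,0,1,5,1,2,3,4,2,0,1])) (.word [2,6,1,5,4,3,2,1,6,3,2,0]))) (.node (.node (.node .none (.word [2,1,0,3,5,2,1,5,2,3,1,2,3,4,3])) (.node .none (.word [6,1,0,1,2,3,4,2,3,2,1,5]))) (.node (.node .none (.word [0,1,2,6,5,1,2,3,2,1,5,6,3,4,1,0])) (.word [4,3,2,1,4,3,2,1,0,1,6,3,2,3,0])))))) (.node (.node (.node (.node (.node (.node (.word [1,2,6,5,1,2,4,3,2,1,5,6,1,5,3]) (.word [1,0,5,1,2,3,5,4,2,3,2,3,4,1])) (.node .none (.word [5,0,1,2,3,2,1,6,5,1,0,1,2,0,1]))) (.node (.node (.word [5,3,4,2,3,6,1,2,3,0,1,2,3,4,2])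 (.word [2,3,6,5,1,2,3,0,1,0,1,2,3])) (.word [5,6,1,2,3,5,2,3,1,2,0,1,0]))) (.node (.node (.node (.word [3,4,0,2,3,2,1,5,0,1,6,2,3,2,3]) (.word [0,2,6,1,0,1,4,3,2,3,1,2,3])) (.node (.word [0,6,1,2,3,5,0,1,2,1,0,1,5,0]) (.word [2,1,6,5,1,0,2,3,2,1,5,6,1,2]))) (.node (.word [0,2,3,2,1,5,1,2,3,4,1,0,1,2,0]) (.word [0,2,1,0,1,3,5,2,3,1,0,1,2,3])))) (.node (.node (.node (.node (.word [4,3,2,3,6,1,2,0,1,5,2,3,4,2]) (.word [0,1,5,6,1,4,3,2,1,6,5,4,1,2])) (.node (.word [1,0,1,5,0,1,6,4,3]) (.word [0,1,2,3,2,1,5,1,2,3,4,2,3,1,0]))) (.node (.node .none (.word [1,5,3,2,1,5,6,1,5,2,3,1])) (.word [1,2,1,5,1,2,3,2,1,5,3,2,3,4,1]))) (.node (.node (.node (.word [2,1,3,4,3,2,3,1,2,3,4,3,1,0,1,2]) (.word [2,5,1,0,1,5,2,3,2,1,6,5,2])) (.node (.word [0,1,0,1,2,1,3,4,2,1,0,1]) (.word [0,1,2,6,5,1,2,3,2,1,5,6,1,5,4]))) (.node (.node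 (.word [0,1,2,1,0,1,5,0,1,2,3,2,1,6,4]) (.word [6,4,3,2,3,1,0,1,2,3,4,1,2])) (.word [1,0,1,3,2,3,1,2,1,0,1,5,4]))))) (.node (.node (.node (.node (.node (.word [0,1,0,5,1,0,4,3,2,1,5,3,2,3,4,3,2,1]) (.word [1,2,6,1,0,1,6,3,0,1,2,3,2,1])) (.node (.word [5,1,0,1,2,1,4,3,2,3,4,1,0,1,0]) (.word [5,4,3,2,6,1,0,2,3,2,1,6,4,2,0]))) (.node (.node (.word [0,2,6,1,2,5,4,3,2,1,0,1,2,3,4]) (.word [0,2,3,2,5,3,1,2,0,1,6,3,2,3,4])) (.word [0,1,0,1,2,6,5,3,2,1,0,1,6,1,2,3,1]))) (.node (.node (.word [2,6,1,2,5,3,2,1,0,1,2,3,0]) (.node (.word [3,4,2,6,1,0,2,3,2,1,6,2,3,4,3,0]) (.word [0,2,1,6,5,1,0,2,4,3,2,1,5,6,1,2]))) (.node (.word [0,3,2,1,0,5,1,2,3,1,2,0,1,5,4,1]) (.word [3,4,2,3,2,1,5,2,3,4,2,3])))) (.node (.node (.node (.node (.word [0,2,3,2,6,1,5,3,2,1,6,5,3,4,2,3]) (.word [0,2,3,2,1,5,1,2,3,4,1,0,1,2,3])) (.node .none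 (.word [2,1,5,6,1,2,3,2,1,6,1,5,1,2,0]))) (.node (.node (.word [2,6,1,2,5,3,2,1,0,1,2,3,4]) (.word [0,2,6,1,2,5,4,3,2,1,0,1,2])) (.word [1,0,2,1,0,1,5,6,1,2,3,2,3,4,1,0]))) (.node (.node (.node (.word [2,6,1,2,5,3,2,3,1,2,3,4,0,1,2,0]) (.word [0,2,3,2,5,3,1,2,0,1,6,3,2,3,0])) (.node (.word [5,1,0,1,3,2,3,4,1,2,1,0,1]) (.word [2,5,6,1,2,3,2,0,1,6,4,2,0]))) (.node (.node (.word [1,0,1,2,3,0,1,5,2,1,0,1,2,1]) (.word [2,6,5,4,3,1,0,1,2,3,1,2,3])) .none))))))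

/-- A subtree. -/
def sub111 : WTree :=
  (.node (.node (.node (.node (.node (.node (.word [3,4,2,1,0,3,5,2,1,5,2,3,1,2,3]) (.word [0,2,3,2,5,3,1,2,0,1,6,3,4,2,3])) (.node .none (.word [0,6,4,3,2,1,5,3,2,1,6,3,4,2]))) (.node (.node (.word [2,3,2,4,3,2,1,6,2,3,1,2,3,4,2,3,2]) (.node (.word [2,3,2,5,3,1,2,3,4,2,3]) (.word [0,2,1,3,2,4,3,4,1,2,3,1,0,1,2,0]))) (.node (.node (.word [6,1,0,1,0,2,3,4,2,3,2,1,5,0,1,6]) (.word [2,3,4,6,1,0,1,2,3,2,1,5,4,3,2])) (.word [2,1,0,1,4,3,2,0,1,6,3,2,0])))) (.node (.node (.node (.node (.word [0,2,3,6,1,2,3,2,1,0,1,5,2,1,6,5]) (.word [1,0,1,2,1,0,4,3,2,1,5,1,6,4,3])) (.node (.word [0,1,0,2,1,5,3,2,3,2,1,6,5]) (.word [2,3,2,3,1,2,4,6,1,0,1,2,3,4,2,3,1,2]))) (.node (.node (.word [0,1,2,3,2,4,5,3,1,2,0,1,5,0,1,0]) (.word [1,0,2,1,0,6,1,6,4,2,3,1,2,3,1])) .none)) (.node (.node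 (.node (.word [5,2,1,0,1,2,3,4,2,3,2,1,6,3,2,3]) (.word [0,2,3,2,1,3,2,0,1,6,3,2,3,0])) (.node (.word [1,5,1,0,1,5,2,3,4,2,3,2,1]) (.word [2,6,1,0,4,3,2,3,1,0,1,2,0]))) (.node (.word [5,1,2,3,2,4,3,2,1,5,3,1,0,1,0]) (.word [0,6,3,2,1,5,0,1,0,1,2]))))) (.node (.node (.node (.node (.node .none (.word [0,2,1,5,6,1,2,0,1,6,5,4,3,1])) (.node .none (.word [2,3,2,4,3,2,1,6,0,1,2,3,4,2,3,2]))) (.node (.node (.word [1,0,2,1,5,4,3,2,3,2,1,6,5]) (.word [0,1,2,3,2,1,6,0,1,0,1,2,0,1])) (.word [3,4,1,5,3,2,3,2,1,5,2,3,4,2,1]))) (.node (.node (.node (.word [2,3,6,1,5,2,1,6,2,3,4,2,3,0]) (.word [5,6,1,2,3,5,2,3,1,2,0,1,5,3])) (.word [0,2,1,3,2,1,0,1,6,3,4,2,0])) (.node (.node (.word [0,2,3,2,1,5,3,1,2,3,4,1,0,1,2,0]) (.word [2,3,2,5,6,1,0,1,6,2,3,2,3,4])) .none))) (.node (.node (.node (.word [3,4,2,3,6,1,2,0,1,5,2,3,2,3])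 (.node (.word [2,3,2,5,3,1,0,1,2,0,1,6,3,2]) (.word [1,0,2,3,2,1,5,1,2,3,2,0,1]))) (.node (.node (.word [3,4,0,1,2,1,0,1,5,3,1,2,1,0,1,6,4]) (.word [4,3,2,3,1,2,3,1,2])) (.word [6,4,3,2,1,5,0,1,0,1,2]))) (.node (.node (.node (.word [2,4,3,2,3,1,2,0,1,6,5,3,2]) (.word [0,2,3,2,5,3,1,2,0,1,6,3,4,2,0])) (.node (.word [0,2,6,1,5,4,3,2,1,6,0,1,2,3,2]) (.word [2,3,2,6,1,2,3,2,1,6,1,5,2,3,2]))) (.node (.node (.word [2,3,2,6,1,5,3,1,0,1,2,3,4,2]) (.word [1,2,1,0,3,5,1,2,3,2,1,5,1])) (.word [6,1,0,2,1,3,4,5,3,1,2,0,1,6])))))) (.node (.node (.node (.node (.node (.word [2,6,1,0,2,1,5,3,4,2,3,0,1,0,1]) (.node .none (.word [2,3,4,5,6,1,0,1,2,3,4,2,3,1,2]))) .none) (.node (.node (.node (.word [1,2,3,2,3,4,3,2,1,0,1,6,5,3]) (.word [2,3,6,1,2,0,1,5,0,1,2,3,2])) (.node (.word [2,1,0,1,3,2,0,1,6,3,2,3,4,2]) (.word [0,1,2,6,5,1,2,3,2,1,5,6,1,0])))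 (.node (.node (.word [1,0,2,3,2,1,4,5,3,1,2,0,1,0,1,6]) (.word [1,5,1,2,3,2,1,5,3,0,1,2,1])) (.word [0,1,0,1,2,1,3,2,1,0,1,5,4])))) (.node (.node (.node (.node (.word [1,2,3,6,1,2,0,1,6,3,2,3,0,1,0]) (.word [2,3,2,6,1,5,1,0,1,2,3,2,3,4,3])) (.node .none (.word [2,1,3,4,2,3,2,1,0,1,6,3,4,3,2,0]))) (.node (.node (.word [0,2,3,2,1,5,0,1,6,2,3,2,3]) (.word [6,5,3,1,0,1,2,3,4,2,3,2,1])) (.word [1,2,3,5,1,6,2,0,1,5,3,4,2,3,1]))) (.node (.node (.node .none (.word [2,3,2,4,3,2,1,0,1,2,3,4,2,3,2])) (.word [2,6,1,0,4,3,2,3,4,1,0,1,2])) (.node (.node (.word [2,6,1,2,5,3,4,3,2,3,2,1,6,2,3]) (.word [6,1,5,1,2,3,4,0,1,2,1,0,1])) .none)))) (.node (.node (.node (.node (.node (.word [0,2,3,2,1,4,3,5,2,3,4,0,1,2,3,2,0]) (.word [1,2,3,2,1,0,1,5,3,0,1,2,0,1,5])) (.node (.word [2,1,3,5,1,0,1,5,2,3,1,2,3,4,3]) (.word [2,1,4,3,2,1,0,1,6,3,2,3,0])))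 (.node (.node (.word [6,1,5,4,1,2,3,2,3,1,2,3,0,1]) (.word [0,2,1,3,2,1,0,1,5,6,3,4,2])) (.word [6,1,5,4,1,2,3,2,3,1,2,0,1,5,3]))) (.node (.node (.word [4,3,2,3,2,6,1,2,5,1,6,2,3,4,2,3]) (.word [0,1,0,2,1,5,3,2,3,2,1,6,4,3])) (.node (.node .none (.word [2,3,6,1,2,0,1,5,2,3,2,3,4,3])) (.word [5,2,1,4,3,2,1,0,1,6,3,4,2,3])))) (.node (.node (.node (.node .none (.word [0,1,5,3,4,2,3,2,1,5,2,3,4,2,1])) (.node .none (.word [5,1,2,1,6,4,3,2,1,6,0,1,2,3,0,1]))) (.node (.node .none (.word [6,1,3,2,1,5,4,3,2,1,0,1,2])) (.word [3,4,2,3,1,2,3,1,2,3,4]))) (.node (.node (.node (.word [1,2,5,1,4,2,3,2,1,5,3,2,1,0]) (.word [2,6,1,0,2,4,3,2,1,0,1,5,3,2,1,6])) (.word [1,0,1,3,2,3,1,2,1,0,1,5,0])) (.node (.node (.word [2,6,5,4,1,2,3,2,0,1,6,2,3,4]) (.word [2,1,3,6,1,2,3,2,1,6,2,3,1,2,3,4])) (.word [2,1,0,3,5,2,1,5,2,3,1,2,0])))))))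

/-- A subtree. -/
def sub112 : WTree :=
  (.node (.node (.node (.node (.node (.node (.node (.word [0,2,3,2,1,4,3,5,1,2,3,4,0,1,0,1,2,3,2]) (.word [0,5,1,0,1,2,3,4,1,2,1,0,1])) (.node (.word [2,6,1,2,5,0,1,0,1,5,3,2,1,6,4]) (.word [0,6,3,2,3,1,0,1,2,3,1,2,3]))) (.node (.node (.word [0,2,3,6,1,2,5,1,6,3,4,2,3,0]) (.word [2,3,6,1,5,2,1,6,2,3,4,2])) (.word [2,1,5,1,2,0,1,5,3,2,3,2,1]))) (.node (.node (.node (.word [0,1,2,5,1,2,3,2,1,5,3,2,3,4,3,1]) (.word [2,6,1,5,4,1,2,3,2,1,0,1,5,4,2,0])) (.node (.word [2,3,2,6,5,3,1,2,0,1,0,1,5,3,2]) (.word [2,3,2,1,5,2,3,2]))) (.node (.word [2,1,5,4,3,2,1,5,2,3,4,0,1,2,0]) (.word [0,2,3,6,1,2,5,1,6,3,2,3,4,0])))) (.node (.node (.node (.node (.word [2,3,2,6,1,5,3,2,1,6,5,2,3,4,2,3]) (.word [4,3,2,3,2,1,5,2,3,4,2,3])) (.node .none (.word [2,3,2,6,1,2,6,1,0,1,5,2,3,2,3])))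 (.node (.word [5,3,4,2,3,6,1,2,0,1,5,2,3,2,0]) (.word [2,3,6,1,5,2,1,6,3,0,1,2,3,2]))) (.node (.node (.node .none (.word [1,2,1,0,1,5,4,3,1,2,1,0,1,6,3])) (.node (.word [6,1,2,5,4,3,0,1,2,1,0,1,0]) (.word [6,5,3,2,3,1,0,1,2,3,1,2,3]))) (.node (.node (.word [0,5,3,1,2,3,2,4,3,2,1,5,3,1,0,1,0]) (.word [1,2,1,5,1,6,1,5,4,2,3,1])) (.word [2,6,1,5,0,1,0,1,2]))))) (.node (.node (.node (.node (.node (.word [0,2,3,2,1,4,3,5,2,3,4,0,1,2,3,2,3]) (.word [1,5,3,1,2,3,2,1,5,2,3,4,2,1])) (.node (.word [0,2,1,0,1,5,4,3,2,1,0,1,2,3,2]) (.word [4,3,2,1,5,6,1,2,0,1,6,5,3,1]))) (.node (.node (.word [2,1,0,1,4,3,2,0,1,6,3,2,3]) (.word [0,2,3,2,5,1,2,0,1,6,3,2,3,4])) (.word [2,3,2,6,1,0,1,6,3,1,2,3,2]))) (.node (.node (.node (.word [0,2,6,1,0,1,4,3,2,1,5,3,2,3]) (.word [1,0,1,2,1,3,4,3,2,1,0,1])) (.node (.word [1,0,2,3,6,1,2,0,1,6,3,2,3,1,0])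 (.word [5,1,0,1,2,3,5,0,1,2,0,1,6,2]))) (.node (.node .none (.word [2,6,1,2,5,3,2,1,0,1,5,2])) (.word [1,2,3,2,3,4,1,5,1,0,1,2,3,1])))) (.node (.node (.node (.node (.word [1,0,2,5,1,6,5,1,6,4,3,2,3,2,1,0,1]) (.word [2,6,4,3,2,1,5,0,1,2,3,4,2])) (.node .none (.word [5,6,3,2,1,5,3,2,1,6,3,4,2]))) (.node (.node .none (.word [2,3,2,6,1,2,6,1,0,1,2,3,2,3])) (.word [3,4,0,1,0,2,1,5,2,3,2,0,1,6,5,4]))) (.node (.node (.node (.word [1,5,3,2,1,6,4,3,2,1,5,3,2,1]) (.word [2,1,4,3,2,1,0,1,6,3,4,2,0])) (.node (.word [0,2,6,1,0,2,4,3,2,1,6,2,3,4]) (.word [1,2,5,1,6,2,0,1,5,2,3,2,3,1,2]))) (.word [1,0,1,5,0,1,6,2,3,1,2,3,1,2]))))) (.node (.node (.node (.node (.node (.node (.word [3,4,2,1,3,5,2,3,2,1,6,2,0,1,5,2,1]) (.word [2,1,5,6,1,2,3,2,1,6,5,4,1,2])) (.node (.word [1,2,3,2,3,4,3,2,1,0,1,6,0]) (.word [6,3,4,2,3,1,0,1,2,3,4,1,2])))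 (.node (.node .none (.word [0,1,2,5,1,2,0,1,5,4,2,1])) (.word [0,2,1,3,2,5,1,0,1,5,3,1,2]))) (.node (.node (.word [1,2,5,1,6,2,3,2,1,5,3,2,1]) (.node (.word [1,0,1,5,0,1,6]) (.word [0,2,1,6,5,1,0,1,2,3,2,1,5,6,1,2]))) (.node (.node (.word [0,1,2,3,4,3,2,3,2,1,0,1,6]) (.word [1,5,3,2,1,5,6,2,1,5,4,2,1])) .none))) (.node (.node (.node (.node (.word [1,2,1,3,4,6,5,1,2,1,6,5,3,2,1,0,1,6]) (.word [0,5,3])) (.node (.word [1,2,1,0,1,3,4,5,3,1,2,1,0,1,6]) (.word [2,3,2,6,1,2,6,5,3,2,1,0,1,2,3,2,0]))) (.node (.node .none (.word [2,3,2,6,1,0,1,6,1,2,3,2])) .none)) (.node (.node (.node (.word [0,2,1,0,3,2,1,4,2,3,2,1,5,4,3,2,3]) (.word [2,3,2,4,1,5,2,3,4,2,3,0,1,2,3,2])) (.node (.word [1,0,2,1,0,3,5,1,0,1,2,3,2,1,5]) (.word [2,1,0,3,2,1,6,5,1,6,2,3,1,2]))) (.node (.node (.word [6,1,5,3,4,1,2,3,0,1,2,3,1,0,1]) (.word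 [1,5,6,1,4,3,2,1,6,1,5,1,2,3,4])) (.word [5,2,3,2,1,5,0,1,2,0,1,6,3,2,3,0]))))) (.node (.node (.node (.node (.node (.word [5,1,2,3,6,1,2,0,1,6,3,2,3,0,1,0]) (.word [6,5,1,0,1,2,3,4,3,2,3,2,1])) (.node (.word [0,2,3,2,6,1,5,2,1,6,3,4,2,3]) (.word [2,6,1,0,2,3,2,1,6,2]))) (.word [5,6,1,2,3,5,2,3,1,2,3,0,1])) (.node (.node (.node (.word [0,1,0,1,6,1,2,3,2,1,5,1,6,4,2,1]) (.word [3,4,2,1,6,5,1,0,2,3,2,1,5,6,1,2])) (.node .none (.word [2,1,6,5,1,0,2,3,2,1,5,6,4,1,2,0]))) (.node (.node (.word [0,6,1,5,3,4,2,3,0,1,2,3,1,0,1]) (.word [2,1,0,1,2,5,3,2,1,6,5,2])) (.word [0,1,2,5,1,0,1,5,4,2,1])))) (.node (.node (.node .none (.node (.word [1,2,1,0,1,5,3,1,2,3,4,2,3,1]) (.word [1,5,3,2,1,5,6,2,1,5,2,3,1]))) (.node (.node (.word [2,1,5,4,3,2,1,0,1,5,3,1,2]) (.word [2,1,4,3,2,1,0,1,6,1,2,3,1,2])) (.word [5,1,2,3,2,3,4,3,2,1,5,1,0,1,0])))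 (.node (.node (.node (.word [2,1,0,1,3,4,3,2,3,4,2,1,0,1,2,3,2]) (.word [0,1,2,1,3,5,2,1,0,1,5,2,0,1,0])) (.word [5,4,3,2,3,2,1,5,2,3,4,2,3])) (.node (.word [0,6,1,3,2,1,5,3,2,1,0,1,2,3,4]) (.word [4,3,2,1,0,1,2,5,3,2,1,6,5,2])))))))

/-- A subtree. -/
def sub113 : WTree :=
  (.node (.node (.node (.node (.node (.node (.word [2,1,3,5,2,3,2,1,0,1,5,1,2,1]) (.node (.word [1,2,1,0,1,5,3,2,3,1,2,0,1,5,2]) (.word [6,1,2,3,5,2,3,1,2,0,1,5,3]))) (.node (.node (.word [1,0,5,1,2,3,2,1,0,1,5,4,3,2,1]) (.word [2,6,1,0,4,3,2,1,0,1,5,3,4,2])) (.word [6,1,4,3,2,1,5,3,2,1,0,1,5,2]))) (.node (.node (.node .none (.word [1,0,2,3,6,1,2,0,1,6,3,2,1,5])) (.word [0,1,2,1,0,1,5,3,1,2,1,0,1,6,4])) (.node (.word [2,3,6,1,5,2,1,6,5,2,3,4,2]) (.word [1,5,6,1,3,2,1,6,5,1,2,0])))) (.node (.node (.node .none (.node (.word [1,0,3,2,1,5,3,2,3,2,1,6,5])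 (.word [0,2,3,6,1,2,3,2,1,0,1,5,2,1,6]))) (.node (.node (.word [0,2,3,2,4,5,1,2,3,2,3,4,3,1,0,1,2]) (.word [0,1,5,6,1,2,1,6,5,1,2,3])) (.word [2,3,2,1,5,2,3,4,2,0]))) (.node (.node (.node (.word [2,3,6,1,2,0,1,5,0,1,2,3,2,3,4]) (.word [1,0,6,1,2,3,2,1,6,2,3,2,1,5,6,4])) (.node (.word [2,3,5,6,1,0,1,2,3,1,2,3,4,3]) (.word [0,6,1,2,3,2,1,6,1,0,1,6,2,1,5,0]))) (.node (.node .none (.word [1,2,5,1,4,2,3,2,1,5,3,4,2,1])) (.word [0,1,0,1,4,3,2,3,1,2,1,0,1,5,4]))))) (.node (.node (.node (.node (.word [4,3,2,6,1,5,4,3,2,1,6,3,4,2,3,0]) (.word [0,6,1,2,5,4,3,2,3,1,2,0,1,0])) (.node (.node (.word [3,4,1,2,1,3,6,5,2,1,6,5,3,2,3,4,1]) (.word [6,1,0,3,2,1,5,3,1,2,0,1,6,0])) (.word [1,2,1,0,1,3,6,2,0,1,0,1,6,3,2,1]))) (.node (.node (.node (.word [1,0,2,5,1,2,3,5,4,2,3,1,2,1]) (.word [0,1,2,3,2,1,6,5,1,0,1,2,0,1])) (.node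 (.word [5,0,1,0,2,1,5,2,3,2,0,1,6,4]) (.word [2,3,2,6,5,3,1,2,3,0,1,0,1,2]))) (.node (.node (.word [1,0,1,2,1,5,4,3,2,0,1,6,4,3,0]) (.word [2,5,6,1,5,4,3,2,1,6,3,4,2])) (.word [0,2,1,4,3,2,1,5,3,4,2,3])))) (.node (.node (.node (.node .none (.word [6,1,0,1,2,3,4,2,3,2,3,1,0])) (.node .none (.word [1,2,1,0,3,5,1,2,1,0,1,5,3,2,1]))) (.node (.node (.word [0,1,5,3,4,2,3,2,1,5,2,3,2,1,0]) (.word [2,3,2,5,3,1,2,3,2])) .none)) (.node (.node (.word [1,2,1,0,3,5,1,2,3,2,1,5,4,1,0]) (.word [5,2,6,1,2,5,0,1,0,1,5,3,2,1,6,4])) (.node (.word [1,0,5,1,2,3,5,1,6,5,1,6,4,2,3,2,0,1]) (.word [2,6,1,0,2,3,2,1,6,2,3,4])))))) (.node (.node (.node (.node (.node (.node (.word [1,0,2,3,2,1,4,6,5,3,4,1,2,3,2,1,0,1]) (.word [5,1,0,1,2,1,3,4,3,2,1,0,1])) (.word [2,3,6,1,2,0,1,5,2,3,2,0])) (.node (.node .none (.word [0,1,5,6,1,2,0,1,6,5,4,1,2,0]))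 (.word [1,0,5,1,2,3,5,4,2,3,2,3,1,0]))) (.node (.node (.word [2,1,3,6,5,1,2,3,2,1,5,6,2,3,1,2]) (.node (.word [1,2,3,2,4,3,2,1,0,1,6,3,4]) (.word [2,6,5,4,1,2,3,2,0,1,6,2,3,0]))) (.node (.node (.word [2,1,0,1,2,5,3,2,1,6,2,3,4,3,0]) (.word [3,4])) (.word [5,2,1,0,1,2,5,3,2,1,6,2,3,0])))) (.node (.node (.node (.word [1,0,2,1,0,1,5,6,1,2,3,2,1,5,3,4,0]) (.node (.word [4,3,2,1,5,6,1,2,0,1,6,5,1,0]) (.word [0,6,1,0,1,2,3,4,3,2,3,2,1,5]))) (.node (.node (.word [2,4,3,2,1,5,0,1,6,2,3,2,0]) (.word [0,1,0,5,1,4,3,2,1,5,3,4,0,1,2,1])) (.word [2,5,6,1,2,3,2,0,1,6,5,2]))) (.node (.node (.node (.word [0,6,3,2,1,5,4,3,2,1,6,3,2,3]) (.word [0,1,0,5,1,4,3,2,1,5,3,0,1,2,1,0])) (.node .none (.word [0,2,1,3,2,1,0,1,6,5,3,4,2,3]))) (.node (.word [5,0,1,0,2,1,5,3,2,3,2,1,6,4,3]) (.word [2,3,2,6,1,5,1,0,1,5,2,3,4,2]))))) (.node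 (.node (.node (.node (.node (.word [1,0,5,1,0,3,2,1,5,3,2,3,4,3,2,1]) (.word [2,3,5,6,1,5,2,1,6,0,1,2,3,2])) (.node (.word [2,3,2,1,5,1,2,3,4,2,0]) (.word [2,3,2,6,1,0,1,2,3,2,1,5,0,1,0,1]))) (.node (.node (.word [2,3,2,4,6,5,1,2,3,2,1,6,4,3,2,3]) (.word [0,2,3,2,6,1,0,1,5,3,1,2,3,4,2])) (.word [1,0,2,1,0,1,6,0,1,2,3,4,2,1]))) (.node (.node (.word [1,0,6,1,2,3,5,6,2,1,5,6,3,4,2,1]) (.word [5,4,3,2,1,0,1,2,5,3,2,1,6,5,2])) (.node (.node .none (.word [6,1,2,3,5,2,3,1,2,0,1,5,3,4,0])) (.word [2,1,0,3,2,1,0,1,5,1,6,3,2,3])))) (.node (.node (.node (.node (.word [5,1,0,5,1,2,3,4,2,3,2,1,5,4,1,0]) (.word [2,3,6,1,5,0,1,2,0,1,5,3,2])) (.node .none (.word [2,3,2,4,3,1,6,5,1,2,3,4,1,2,3,2,0]))) .none) (.node (.node (.node (.word [0,2,3,2,6,1,5,3,2,1,6,3,4,2,3]) (.word [6,1,4,3,2,3,1,2,0,1,6,2])) (.word [0,1,0,1,2,1,3,2,3,4,1,0,1,0]))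 (.node .none (.word [1,0,5,1,2,6,1,5,1,6,3,4,1,2,3,2,1])))))))

/-- A subtree. -/
def sub114 : WTree :=
  (.node (.node sub110 sub111) (.node sub112 sub113))

/-- A subtree. -/
def sub115 : WTree :=
  (.node (.node (.node (.node (.node (.node (.node .none (.word [0,2,6,1,0,1,4,3,2,3,1,2,3,4,3])) (.node (.word [6,1,2,3,4,5,1,0,1,2,3,2,1,6,2,3]) (.word [0,1,5,6,1,2,0,1,6,5,1,2,3,4]))) (.node (.node (.word [4,3,0,2,3,2,6,1,5,2,1,6,3,4,2,3]) (.word [1,0,2,3,2,1,5,3,1,2,3,4,2,3,1,0])) (.word [2,3,2,1,5,3,1,2,3,4,2,3]))) (.node (.node (.word [5,4,3,2,3,6,1,2,3,0,1,2,3,4,2]) (.node (.word [2,5,6,1,2,3,2,0,1,6,4,2,3]) (.word [2,3,2,5,1,2,3,2]))) (.node .none (.word [0,3,2,1,0,1,2,5,3,2,1,6,5,2,3,4])))) (.node (.node (.node (.node (.word [1,0,2,1,3,4,2,3,2,3,4,1,2,3,0,1]) (.word [2,1,3,2,3,1,2,3,4])) (.node .none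 (.word [1,0,5,1,2,3,4,2,3,2,1,5,1]))) (.node .none (.word [2,6,1,0,2,3,2,1,6,4,2,3]))) (.node (.node (.node (.word [1,2,3,2,1,6,5,1,6,2,3,4,2,0,1,0]) (.word [1,5,6,1,2,1,6,5,1,2,3,4])) (.node (.word [1,5,3,2,1,0,1,5,4,2,1]) (.word [1,5,6,1,2,3,1,6,5,2,3,1,2]))) (.node (.node (.word [0,1,0,1,5,0,1,6,3]) (.word [2,6,1,2,5,3,2,1,0,1,5,4,2,0])) (.word [6,1,2,3,4,5,1,0,1,2,3,2,1,6,4,2]))))) (.node (.node (.node (.node (.node (.word [1,2,3,4,6,5,1,2,3,2,1,5,6,3,2,1]) (.word [2,3,5,6,1,2,0,1,5,3,2,3,4,2])) (.node (.word [0,2,3,2,1,5,3,1,2,3,4,1,0,1,2,3]) (.word [4,3,1,0,2,3,2,1,6,1,0,1,2,3,1,2,1]))) (.node (.node (.word [0,5,1,0,1,2,3,1,2,3,1,0,1]) (.word [1,0,2,1,5,1,4,3,2,1,0,1,6,2])) (.word [1,2,1,0,1,5,2,3,4,1,2,0,1,0,1,0]))) (.node (.node (.node (.word [1,2,6,5,1,6,5,4,3,1,2,3,2,1,6,1]) (.word [0,2,1,5,6,1,2,0,1,6,5,3,4,1]))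 (.node (.word [2,1,5,6,1,2,0,1,6,5,1,0]) (.word [2,3,2,6,1,0,1,6,2,3,4,2,0]))) (.node (.node .none (.word [0,1,0,1,2,1,3,2,0,1,5,1,6,4,3])) (.word [5,1,0,1,3,2,3,1,2,1,0,1,5,4])))) (.node (.node (.node (.node (.word [6,1,0,2,1,3,2,5,3,0,1,2,0,1,6]) (.word [0,2,6,1,5,0,1,0,1,2,3])) (.node (.word [1,0,2,1,5,4,3,2,3,2,1,5,6,4]) (.word [2,6,1,0,2,1,5,3,4,2,0,1,0,1,0]))) (.node (.node (.word [5,3,4,2,3,2,6,1,0,1,6,5,3,2,3,2]) (.word [0,1,0,1,4,3,2,3,1,2,1,0,1,0])) (.word [0,2,5,4,3,1,2,3,4,1,2,3]))) (.node (.node (.word [0,2,3,6,1,2,5,1,6,3,2,3]) (.node (.word [0,2,3,2,1,5,2,3,1,0,1,2,3,0]) (.word [5,6,1,0,1,2,3,4,2,3,2,1,5]))) (.node (.node (.word [2,6,1,5,0,1,0,1,2,3,4]) (.word [0,2,6,1,0,1,2,3,2,1,5,4,3,1,2,0,1])) (.word [0,2,3,2,5,1,2,0,1,6,3,4,2,0])))))) (.node (.node (.node (.node (.node (.node (.word [5,3,4,1,2,3,6,1,2,0,1,6,3,2,3,0,1,0])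 (.word [1,0,5,1,3,2,1,5,3,4,0,1,2,1])) (.node (.word [4,3,2,3,6,5,1,2,0,1,0,1,5,3,4,2]) (.word [3,4,2,3,2,1,5,3,1,2,3,2]))) (.node (.node (.word [0,1,0,2,1,5,3,2,3,2,1,6]) (.word [1,0,6,1,0,1,2,3,4,6,1,2,0,1,6,3,2,3,1])) (.word [2,1,5,6,1,2,0,1,6,5,3,4,1,0]))) (.node (.node (.node (.word [4,3,6,1,2,5,1,0,2,1,5,3,2,0,1,6,2]) (.word [5,1,0,1,3,2,3,1,2,1,0,1,5,3])) (.node (.word [0,6,1,3,2,3,1,2,0,1,6,5,2]) (.word [3,4,2,1,5,6,1,2,0,1,6,5,3,1]))) .none)) (.node (.node (.node (.word [4,3,1,0,2,1,5,4,3,2,3,2,1,6]) (.node (.word [1,0,1,2,1,5,4,3,2,0,1,6,5,4]) (.word [1,0,1,2,1,0,4,3,2,1,5,1,6]))) (.node (.word [2,6,1,0,1,2,5,3,1,2,0,1,5,4,1]) (.word [1,0,2,1,5,1,4,3,2,1,0,1,6,5,2]))) (.node (.node (.node (.word [1,0,1,2,1,3,2,4,3,0,1,2,3,0,1]) (.word [1,2,3,2,3,4,3,2,1,5,1,0,1,0])) (.word [1,0,1,3,2,3,4,1,2,1,0,1]))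 (.node (.node .none (.word [2,3,2,4,1,5,2,3,4,0,1,2,3,1,2])) (.word [2,3,6,1,0,1,2,3,1,2,0]))))) (.node (.node (.node (.node (.node (.word [0,1,2,3,5,1,2,3,2,1,5,2,3,4,3,1]) (.word [2,3,6,1,5,0,1,2,3,4,0,1,2,3])) (.node (.word [2,1,0,5,1,2,3,1,2,0,1,5,4,1]) (.word [1,2,1,0,3,4,3,2,1,5,1,2,0,1]))) (.node (.word [1,2,3,2,4,3,2,1,0,1,6]) (.word [0,6,3,2,3,1,0,1,2,3,4,1,2]))) (.node (.node (.node (.word [1,0,3,2,1,5,3,2,3,2,1,6]) (.word [2,6,1,5,4,3,1,0,1,2,0,1,5,3,2])) (.word [1,0,1,2,3,2,4,0,1,2,3,2,1,0,1,6,5,3])) (.node .none (.word [2,3,6,5,1,2,0,1,0,1,5,3,4,2])))) (.node (.node (.node (.node .none (.word [5,2,6,1,2,5,3,2,1,0,1,5,4,2,0])) (.node (.word [1,2,3,2,5,1,0,1,6,1,5,3,2,1]) (.word [2,6,1,2,5,3,2,1,0,1,2,3,4,3,0]))) (.node (.node .none (.word [1,0,1,2,1,4,3,2,1,0,1,0])) (.word [4,3,2,6,1,0,4,3,2,1,0,1,5,3,4,2])))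 (.node (.node (.node (.word [2,1,0,3,4,3,2,3,1,2,3,4,3,0,1,2]) (.word [0,6,1,0,2,1,3,5,1,2,0,1,6,4])) (.node (.word [2,3,2,1,5,3,2,3,4,2,3]) (.word [2,1,3,6,2,1,5,6,3,1,0,1,2,3,4]))) (.node (.node (.word [0,1,0,2,5,1,0,6,2,1,6,5,3,2,3,1]) (.word [2,3,6,1,2,0,1,0,1,2,3,4,2,3])) .none))))))

/-- A subtree. -/
def sub116 : WTree :=
  (.node (.node (.node (.node (.node (.node (.node (.word [0,1,6,5,1,3,4,2,3,2,1,5,6,2,1,5,3]) (.word [5,1,0,1,3,2,3,1,2,1,0,1,0])) (.node (.word [3,4,2,3,2,6,1,0,1,6,5,3,2,3,2]) (.word [1,2,3,2,5,1,0,1,6,2,1,5,3,1,2,1]))) (.node .none (.word [1,0,5,1,3,2,1,5,3,0,1,2,3,1]))) (.node (.node .none (.node (.word [5,3,4,2,3,1,2,3,4,1,2,0]) (.word [2,6,1,5,4,1,2,3,2,1,0,1,2]))) (.node (.node (.word [5,1,2,3,2,1,6,5,1,6,2,3,2,0,1]) (.word [2,1,5,1,2,3,0,1,2,3,2,1,5,1])) (.word [2,1,0,1,3,6,5,1,6,2,3,4,1,2,3]))))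 (.node (.node (.node (.node (.word [2,3,2,6,1,2,5,3,2,1,0,1,2,3,4,2]) (.word [0,2,1,3,2,1,0,1,6,3,4,2,3])) (.node (.word [6,1,3,4,2,3,1,2,0,1,6,5,2]) (.word [0,1,2,3,2,1,6,0,1,5,4,2,3,2,1,6,0]))) (.node (.node .none (.word [3,4,2,3,2,3,1,2,3,4,2,3])) (.word [0,1,2,5,4,3,2,1,5,3,0,1,2,1]))) (.node (.node (.node .none (.word [2,1,0,1,2,5,3,2,1,6,4,2,0])) (.node (.word [1,2,5,1,4,2,3,2,1,5,3,2,3,4,1,0]) (.word [2,3,6,1,2,0,1,0,1,2,3,2]))) (.node .none (.word [1,0,2,1,5,1,4,2,3,0,1,2,3,1]))))) (.node (.node (.node (.node (.node (.word [2,1,3,4,6,2,1,6,5,3,2,1,6,4,3,2,3]) (.word [0,5,3,2,3,6,1,2,0,1,5,3,2,3,4,2])) (.word [6,1,5,0,1,0,1,2,3,2,3,1,2,3,2])) (.word [1,0,2,3,2,5,1,0,1,5,2,3,1,2,1])) (.node (.node (.node (.word [0,1,2,1,3,2,4,3,2,1,5,0,1,2,3,2,0,1]) (.word [1,0,1,3,2,3,1,2,3,4,1,0,1,0])) (.node (.word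 [1,6,1,2,3,4,3,2,1,0,1,6,2,1,5,2]) (.word [2,3,2,1,5,1,2,3,2]))) (.node (.node (.word [0,1,0,5,3,4,2,3,2,1,5,0,1,2,1]) (.word [2,1,0,1,5,0,1,6,4,2,3])) (.word [1,0,6,1,2,3,2,1,6,5,3,4,1,2,0,1])))) (.node (.node (.node (.node (.word [1,2,1,0,1,5,2,3,4,1,2,3,0,1,0,1]) (.word [2,1,5,6,4,1,2,3,2,1,6,5,1,2])) (.word [0,1,0,5,1,0,1,2,3,2,1,0,1,5,0,1])) (.node (.node .none (.word [3,4,2,3,2,3,1,2,3,2])) (.word [1,0,5,1,4,3,2,1,5,4,3,0,1,2,1,0]))) (.node (.node (.node .none (.word [2,6,4,3,2,1,0,1,5,1,2,3,4,2])) (.node (.word [1,2,6,1,5,1,2,4,3,2,1,6,1,0,1,5,4]) (.word [2,1,0,6,1,5,6,2,3,2,1,5,6,1,2]))) (.node (.word [0,2,3,2,1,3,4,2,3,2,3,4,3,1,0,1,2]) (.word [1,2,3,2,1,0,1,5,3,0,1,2,0,1])))))) (.node (.node (.node (.node (.node (.node (.word [4,3,6,1,0,2,1,3,2,5,1,0,1,2,0,1,6]) (.word [2,1,5,4,3,2,1,5,3,4,0,1,2,3]))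 (.node (.word [1,0,2,1,0,1,2,6,5,4,1,2,3,2,1,5,0]) (.word [1,2,1,3,5,1,2,1,5,3,4,2,1,0]))) (.node (.word [6,1,0,2,1,3,2,5,3,0,1,2,0,1,6,5]) (.word [0,2,3,2,1,5,3,2,1,0,1,5,3,2]))) (.node (.node (.word [5,3,4,2,3,6,1,2,0,1,5,2,3,2,3]) (.node (.word [0,1,5,6,1,3,2,0,1,6,5,1,2,0]) (.word [0,1,2,3,2,4,5,3,1,2,0,1,5,3,4,0,1,0]))) (.node (.node .none (.word [3,4,2,3,2,1,5,3,2,3,4,2,3])) (.word [2,3,6,1,0,1,2,3,4,1,2])))) (.node (.node (.node (.node (.word [4,3,1,0,2,1,0,1,5,6,1,2,3,4,2,1]) (.word [2,6,1,5,4,3,2,1,6,3,4,2])) (.node (.word [2,1,6,5,1,2,6,1,5,3,2,1,6,3,4,0,1]) (.word [2,6,1,0,2,3,2,1,5,6,2,3,4,3]))) (.node (.node (.word [6,1,0,2,1,3,2,5,1,0,1,2,0,1,6,3,4]) (.word [5,6,1,0,1,2,3,4,2,3,2,1])) (.word [0,1,0,2,1,5,1,3,2,1,0,1,6,4,2,0]))) (.node (.node (.node (.word [0,1,2,3,6,5,1,6,5,1,2,3,2,1,6,1]) (.word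 [0,2,1,0,4,3,2,1,5,0,1,6,3,2,3,4])) (.node (.word [6,1,0,1,3,2,1,5,3,4,1,0,1,2,1]) (.word [1,2,3,2,3,4,1,5,3,2,3,1,2,0,1,5,6]))) (.node (.node (.word [0,2,3,2,6,1,3,4,2,3,2,1,6,4,3,2,3]) (.word [6,1,0,1,2,3,4,2,3,2,3,4,1])) (.word [0,1,5,4,3,2,3,2,1,5,2,3,4,2,1]))))) (.node (.node (.node (.node (.node .none (.word [0,1,2,1,5,1,6,1,5,4,2,1])) (.node (.word [1,0,1,3,4,3,2,3,1,2,3,1,0,1]) (.word [0,6,1,3,4,3,2,3,1,2,0,1,6,2]))) (.node (.node (.word [0,2,1,0,1,2,3,4,2,3,2,0,1,6,2,3]) (.word [2,6,5,4,1,2,3,2,0,1,6,2])) .none)) (.node (.node (.node (.word [2,3,2,6,1,5,3,2,1,6,2,3,4,2,3]) (.word [2,3,2,6,1,2,0,1,5,1,6,3,2,3,4,2])) (.node .none (.word [3,4,1,2,1,0,3,5,1,2,3,2,1,5,1]))) (.node (.node (.word [5,4,3,2,6,1,0,2,3,2,1,6,5,2]) (.word [1,2,3,2,3,4,3,2,1,0,1,5,6])) (.word [0,6,1,5,4,0,1,0,1])))) (.node (.node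 (.node (.node (.word [5,3,4,2,1,0,1,2,5,3,2,1,6,2]) (.word [5,1,0,1,2,1,4,3,2,1,0,1,5,3])) (.node .none (.word [1,5,3,2,3,1,2,3,2,1,5,2,1,0]))) (.node (.node (.word [2,3,2,6,1,5,1,0,1,2,3,4,2]) (.word [5,3,4,2,3,6,1,0,1,2,3,1,2,3])) .none)) (.node (.node (.node .none (.word [0,1,5,1,2,3,2,0,1,5,0,1,2,1])) (.word [5,1,0,1,2,1,0,4,3,2,1,5,1,6,4,3])) (.node (.node (.word [1,2,3,2,1,6,5,1,6,2,3,2,0,1]) (.word [0,2,3,2,1,5,0,1,5,6,1,2,3,2])) (.word [1,2,5,1,0,1,5,4,2,3,1])))))))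

/-- A subtree. -/
def sub117 : WTree :=
  (.node (.node (.node (.node (.node (.node (.word [0,2,3,2,1,4,3,5,1,2,3,4,3,0,1,0,1,2,3,2]) (.node (.word [1,0,2,3,2,4,5,3,1,2,0,1,5,4,0,1,0]) (.word [1,5,6,1,3,2,0,1,6,5,1,2,3,4]))) (.node (.node (.word [5,3,4,2,3,2,1,5,2,3,4,2,0]) (.word [0,3])) .none)) (.node (.node (.node (.word [0,1,0,5,1,0,2,1,5,3,2,3,4,3,2,1]) (.word [5,1,2,1,3,4,6,3,2,1,6,0,1,2,0,1])) (.node (.word [0,2,4,3,2,1,5,1,2,3,4,2,3]) (.word [2,3,2,1,5,3,2,3,2]))) (.node (.node .none (.word [2,1,0,1,5,4,3,2,1,0,1,5,3,2,3])) (.word [5,1,0,1,2,3,2,4,0,1,2,3,2,1,0,1,6,5,3])))) (.node (.node (.node (.node (.word [4,3,2,3,6,1,5,2,1,6,2,3,4,2,3,0]) (.word [6,1,4,3,2,3,1,2,0,1,5,6,2,3])) (.node (.word [0,2,6,1,0,4,3,2,3,1,2,3,4,2]) (.word [2,1,0,1,2,3,2,1,5,1,6,4,2]))) (.node .none (.word [1,5,3,4,2,3,2,1,5,3,0,1,2,1])))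 (.node (.node (.node (.word [1,2,1,0,1,3,4,2,3,1,2,1,0,1,6]) (.word [1,0,1,2,1,3,4,3,2,1,0,1,5])) (.node (.word [6,1,0,1,2,6,0,1,5,6,3,4,1,2,3,2,1]) (.word [1,5,6,1,2,3,1,6,1,5,2,3,1,2]))) (.node (.node (.word [1,0,1,3,2,1,5,3,2,0,1,6,0]) (.word [0,1,2,1,5,1,6,1,5,2,3,1])) (.word [1,0,2,1,5,1,4,2,3,0,1,2,1,0]))))) (.node (.node (.node (.node (.node (.word [0,1,0,5,1,2,3,4,3,2,3,2,1,5,4,1,0]) (.word [6,1,2,3,4,3,2,3,1,0,1,2,3,2,1])) (.word [0,2,6,1,0,1,4,3,2,1,5,3,2,0])) (.node (.node (.word [5,3,4,0,1,0,1,2,1,3,2,3,1,0,1]) (.word [0,2,3,6,1,2,5,1,6,3,4,2])) (.word [0,1,2,3,2,4,5,0,1,5,0,1,2,1,0]))) (.node (.node (.node (.word [6,1,2,3,4,3,2,1,0,1,2,3,4,2,0,1]) (.word [0,6,1,2,3,5,0,1,2,3,4,1,0,1,0])) (.node (.word [0,3,2,1,5,6,1,2,0,1,6,5,1,0]) (.word [2,3,2,6,1,0,1,6,2,3,2,3,4]))) (.node .none (.word [1,0,1,3,2,3,1,2,1,0,1,5,3]))))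 (.node (.node (.node (.word [0,1,2,1,0,1,3,2,1,5,3,2,3,1,0,1]) (.node (.word [2,3,2,6,1,0,1,6,5,2,3,4,2,3]) (.word [6,1,2,3,5,2,3,1,2,3,4,3,0,1]))) (.node (.word [1,2,3,2,4,3,2,1,0,1,6,5]) (.word [1,0,2,3,2,6,1,5,6,1,2,3,4,2,1,0]))) (.node (.node (.node (.word [6,1,2,5,1,0,1,5,4,3,2,0,1,6,2]) (.word [0,2,3,2,5,1,2,0,1,5,6,3,4,2])) (.node (.word [5,3,4,2,3,1,2,3,4,1,2,3]) (.word [1,2,5,1,6,0,1,5,2,3,2,3,1,2]))) (.node .none (.word [6,1,2,5,1,0,1,2,3,2,1,6,3,2,0])))))) (.node (.node (.node (.node (.node (.node (.word [1,2,3,2,3,4,1,2,3,4,1,0,1,2,3,1,0,1]) (.word [2,6,4,3,2,1,5,0,1,2,3,2,0])) (.word [0,5,3,4,3])) (.node (.node .none (.word [0,6,1,0,1,2,1,5,3,1,0,1,2,1,0])) (.word [2,1,5,6,4,1,2,3,2,1,6,1,5,1,2]))) (.node (.node (.node (.word [2,4,3,2,1,5,0,1,6,2,3,2,3]) (.word [1,0,2,1,0,3,5,1,0,1,2,3,4,2,1,0]))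 (.node (.word [1,0,1,3,2,1,5,3,2,0,1,6,5,4]) (.word [1,2,3,2,1,5,3,1,0,1,2,3,1,0]))) (.node (.node (.word [5,0,1,2,3,2,4,3,2,0,1,5,1,0,1,0]) (.word [0,1,2,3,2,1,4,0,1,2,3,2,1,5,2,0])) (.word [2,1,0,1,5,4,3,2,3,1,0,1,2,3])))) (.node (.node (.node (.node (.word [1,0,5,1,2,3,4,2,3,2,1,5,4,1,0]) (.word [1,2,5,1,4,2,3,2,1,5,3,4,2,3,1,0])) (.node .none (.word [0,2,3,2,1,3,2,0,1,6,3,2,3,4]))) (.node (.node (.word [2,3,2,6,1,2,6,5,1,6,5,2,3,4,2,3]) (.word [0,6,1,0,2,1,3,5,1,2,0,1,6,0])) (.word [0,1,0,2,1,5,2,3,2,0,1,6,4,3,0]))) (.node (.node (.node (.word [2,1,0,1,3,4,3,2,3,2,1,5,4,2,3,2,3]) (.word [6,1,0,2,1,3,2,1,0,1,5,4,2,1,0,1])) (.word [5,6,1,2,3,5,2,3,4,1,2,3,0,1,0])) (.node (.node (.word [6,1,0,2,1,3,4,2,3,0,1,2,0,1,6]) (.word [1,2,1,0,5,1,4,3,2,1,5,3,4,3,0,1])) .none)))) (.node (.node (.node (.node (.node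 (.word [5,4,3,1,0,2,1,0,1,5,6,1,2,3,4,2,1]) (.word [2,1,6,5,1,2,6,1,5,3,2,1,6,4,3,0,1])) (.node (.word [0,1,2,3,2,1,5,1,2,3,2,1,0]) (.word [1,0,2,3,6,1,2,0,1,6,3,2,1]))) (.node (.word [0,5,3,2,3,6,1,2,3,0,1,2,3,4,2]) (.word [5,6,1,2,5,4,3,0,1,2,1,0,1,0]))) (.node (.node (.node (.word [1,2,3,2,1,0,5,3,2,3,1,2,3,0,1,0,1]) (.word [1,2,1,3,5,1,2,1,5,3,2,3,4,1])) (.word [1,0,5,1,0,1,3,2,3,2,1,0,1,5,0,1])) (.node (.word [5,4,3,1,0,1,2,1,4,3,2,3,1,0,1]) (.word [1,2,1,5,1,6,1,5,2,1])))) (.node (.node (.node (.word [0,1,0,4,3,2,1,5,3,2,3,2,1,6]) (.node (.word [2,3,2,5,1,2,3,4,2,3]) (.word [0,6,1,4,3,2,1,5,4,3,2,1,0,1,2]))) (.word [2,6,5,4,3,1,2,0,1,5,2,3,2,0])) (.node (.node (.word [2,3,6,1,2,0,1,5,2,3,2,3]) (.node (.word [1,2,3,2,1,0,6,1,0,1,6,3,2,1]) (.word [2,3,2,6,1,2,0,1,5,1,6,2,3,4,2]))) (.node (.node .none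 (.word [1,5,6,1,2,0,1,6,5,1,2,3])) .none))))))

/-- A subtree. -/
def sub118 : WTree :=
  (.node (.node (.node (.node (.node (.node (.node .none (.word [5,3,4,2,3,2,3,1,2,3,2])) (.node (.word [0,2,1,3,2,1,0,1,6,5,3,2]) (.word [1,2,1,0,5,1,4,3,2,1,5,3,0,1]))) (.node (.node (.word [0,2,4,3,2,1,5,1,2,3,4,2,0]) (.word [5,3,4,2,3,2,1,5,3,2,3,4,2,3])) (.word [0,1,0,1,5,0,1,6,3,4,3]))) (.node (.node (.word [1,0,2,1,3,4,2,3,2,3,1,2,0,1,5]) (.node (.word [6,1,2,5,4,3,0,1,2,1,0,1,5,0]) (.word [0,3,4,3,2,3,6,1,0,1,2,3,1,2,3]))) (.node (.word [5,3,4,2,6,1,0,2,3,2,1,6,5,2]) (.word [0,2,1,3,2,1,0,1,5,6,3,2,3])))) (.node (.node (.node (.node (.word [6,1,0,2,1,3,2,5,1,0,1,2,0,1,6]) (.word [2,6,1,0,1,2,1,5,3,1,2,3,0,1])) (.node (.word [0,2,3,6,1,2,5,1,6,5,3,4,2]) (.word [0,2,3,6,1,2,3,0,1,0,1,2,3]))) (.node (.node (.word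 [1,0,2,3,2,6,1,5,6,1,2,3,2,1,5,4,0]) (.word [3,4,1,2,6,1,0,1,6,3,0,1,2,3,2,1])) (.word [1,5,6,1,4,3,2,1,6,5,1,2]))) (.node (.node (.node (.word [0,2,3,5,1,0,1,2,0,1,6,3,4,2]) (.word [2,6,1,0,2,3,2,1,6,5,2])) (.node (.word [1,0,2,1,3,4,2,3,2,3,1,2,0,1]) (.word [4,3,1,2,1,0,3,5,1,2,3,2,1,5,1]))) (.node (.node .none (.word [2,6,1,2,5,3,2,1,0,1,5,2,3,4])) (.word [5,3,4,1,2,3,2,3,4,3,2,1,5,1,0,1,0]))))) (.node (.node (.node (.node (.node .none (.word [0,1,2,5,1,2,0,1,5,2,3,1])) (.node (.word [1,2,3,4,5,3,2,3,1,2,0,1,5,4,0,1]) (.word [2,1,5,6,1,2,3,2,1,6,5,1,2,3]))) (.node (.node .none (.word [1,2,1,3,5,1,2,3,2,1,5,4,2,3,1])) (.word [1,0,2,5,1,2,3,5,4,3,0,1,2,1]))) (.node (.node (.node (.word [0,1,2,3,2,1,4,3,6,0,1,2,3,2,1,0,1]) (.word [5,3,4,2,3,2,6,1,0,1,6,1,2,3,2])) (.node (.word [1,0,2,1,3,4,5,3,1,2,1,0,1,6,2,0])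 (.word [2,6,1,2,5,3,2,1,0,1,2]))) (.node (.node (.word [1,2,5,1,4,3,2,3,2,1,5,2,3,4,1,0]) (.word [1,2,1,3,4,3,2,1,0,1,2,3,2,1,0])) (.word [5,2,6,1,0,4,3,2,1,0,1,5,3,4,2])))) (.node (.node (.node .none (.node (.word [2,1,0,1,3,5,2,3,1,0,1,2,3,2]) (.word [5,4,3,2,3,6,1,0,1,2,3,1,2,3]))) (.node (.node .none (.word [1,5,3,2,3,1,2,0,1,5,3,4,2,1])) (.word [0,3,2,3,5,6,1,5,2,1,6,0,1,2,3,2]))) (.node (.node .none (.node (.word [1,0,1,5,0,1,6,2,3,2,1,5,2,3,4,2,0]) (.word [0,1,0,1,6,1,2,3,2,1,5,1,6,2,1,0]))) (.node (.node .none (.word [0,1,5,6,1,3,2,0,1,6,5,1,2,3])) .none))))) (.node (.node (.node (.node (.node (.node .none (.word [1,5,3,2,3,2,1,5,2,3,4,2,1])) (.node (.word [0,2,3,2,1,5,3,1,2,1,0,1,5,3,2]) (.word [1,2,3,2,1,5,3,1,0,1,2,3,4,1]))) (.node (.node (.word [0,1,2,3,2,5,1,0,1,5,0,1,2,3,4,1]) (.word [1,0,2,3,4,5,1,3,2,1,5,0,1,2,3]))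 (.word [2,3,6,1,2,0,1,0,1,5,2,3,2]))) (.node (.node (.node (.word [2,1,0,1,3,2,1,5,3,1,0,1,2,3,2]) (.word [0,3,2,1,5,6,1,2,0,1,6,5,3,1])) (.node (.word [2,3,2,6,1,2,5,0,1,6,2,3,2,3,4]) (.word [0,2,3,6,1,2,0,1,0,1,5,3,2,3]))) (.node (.node .none (.word [0,4])) (.word [0,3,2,3,6,5,1,2,0,1,0,1,5,3,2,3])))) (.node (.node (.node (.node (.word [6,1,0,1,2,1,5,4,3,1,2,0,1,5,4,2]) (.word [0,2,6,1,0,1,4,3,2,3,4,1,2,3,0])) (.word [1,0,1,2,6,1,2,5,4,3,2,1,6,4,2,1,0,1])) (.node (.node (.word [6,1,2,5,1,0,2,1,5,3,2,0,1,6,2]) (.word [3,4,2,3,1,2,3,1,2])) (.word [2,3,2,1,5,2,3,4,2,3]))) (.node (.node (.node (.word [2,1,0,1,3,2,1,5,1,0,1,2,3,4,2,3]) (.word [2,1,0,1,3,5,2,3,1,2,3,4,2])) (.node (.word [5,3,4,2,1,0,1,3,5,1,2,3,4,1,2]) (.word [6,1,0,2,1,5,4,3,1,2,0,1,5,6]))) (.node (.node (.word [1,2,3,5,1,6,2,1,5,3,4,2,1,0])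 (.word [1,5,6,1,2,1,6,5,1,2,3,0])) (.word [1,2,3,2,4,3,2,1,0,1,5,6,3]))))) (.node (.node (.node (.node (.node (.word [4,3,2,1,0,1,3,2,1,5,3,1,0,1,2,3,2]) (.word [2,3,2,6,1,3,2,0,1,0,1,5,2,3,4,2])) (.node (.word [1,5,6,1,4,3,2,1,6,1,5,1,2]) (.word [5,2,3,2,6,1,2,5,1,6,1,5,3,2,3,2]))) (.node (.node .none (.word [0,2,3,2,6,1,0,1,5,1,2,3,4,2])) .none)) (.node (.node (.node (.word [4,3,2,3,6,1,5,2,1,6,5,2,3,4,2]) (.word [1,2,5,1,4,3,2,1,5,3,4,2,3,1,0])) (.node (.word [2,1,3,2,3,1,2,1,0,1,5,0,1,6]) (.word [0,1,2,3,5,1,2,3,2,1,5,4,2,1]))) (.node (.node (.word [1,2,3,2,5,3,1,2,0,1,5,1,2]) (.word [3,4,2,3,2,1,5,2,3,2])) (.word [1,0,2,1,3,2,3,4,2,3,1,2,3,0,1,0])))) (.node (.node (.node (.node (.word [2,3,5,6,1,2,0,1,5,2,3,4,2]) (.word [2,3,2,6,1,5,1,0,1,2,3,2,3])) (.node (.word [1,0,2,1,0,1,6,0,1,2,3,4,2,3,1,0]) (.word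 [1,2,1,3,5,1,2,1,5,3,2,1]))) (.node (.node (.word [1,2,1,3,5,1,2,3,2,1,5,2,1]) (.word [0,6,1,2,3,2,1,6,1,0,1,6,2,1,0])) (.word [1,5,6,1,4,3,2,0,1,6,5,1,2,0]))) (.node (.node (.node (.word [5,0,1,2,3,2,1,6,2,1,0,1,2,0,1,5,3]) (.word [3,4,1,2,1,3,5,1,2,1,5,3,2,3,4,1])) (.word [0,2,3,2,1,3,2,0,1,6,3,4,2,3])) (.node .none (.word [2,3,6,1,5,0,1,2,0,1,5,3,4,2,3])))))))

/-- A subtree. -/
def sub119 : WTree :=
  (.node (.node sub115 sub116) (.node sub117 sub118))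

/-- A subtree. -/
def sub120 : WTree :=
  (.node (.node (.node (.node (.node (.node (.word [0,2,3,2,1,4,3,5,2,3,4,0,1,0,1,2,3,2]) (.node (.word [3,4,2,3,2,6,1,0,1,6,5,2,3,2]) (.word [2,1,6,5,1,2,6,5,3,2,1,6,0,1,5,2]))) (.node (.node (.word [1,2,1,0,3,4,2,3,2,1,5,0,1,2,3,2,3,1]) (.word [2,1,0,1,2,5,3,2,1,6,2,3,0])) (.word [0,3,4,3]))) (.node (.node (.node (.word [0,1,2,5,1,2,0,1,5,2,3,4,3,1]) (.word [6,1,4,3,2,1,5,3,2,1,0,1,2])) (.node (.word [2,6,1,5,1,2,3,4,2,3,2,1,6,2,3]) (.word [2,3,6,5,1,2,3,0,1,0,1,2,3,4,3]))) (.node (.word [1,0,1,2,1,4,3,2,3,1,0,1]) (.word [6,1,2,3,5,2,3,1,2,0,1,5,3,4,3])))) (.node (.node (.node (.word [1,2,1,6,4,3,2,1,6,3,2,3,2,1,0,1]) (.node .none (.word [2,5,6,1,2,3,2,0,1,5,6,4,2]))) .none) (.node (.node (.node (.word [2,3,6,1,2,0,1,5,2,3,4,2]) (.word [0,1,5,6,1,3,2,1,6,5,1,2,3,4]))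 (.node (.word [0,2,3,2,6,1,5,0,1,2,3,2,0]) (.word [6,1,5,1,2,3,0,1,2,3,4,3,1,0,1]))) (.node (.node (.word [5,1,0,2,1,5,4,3,2,3,2,1,6,5]) (.word [1,2,1,6,4,3,2,1,6,0,1,2,3,0,1])) (.word [2,1,0,3,4,2,3,1,2,3,4,1,2,3,1,2,3]))))) (.node (.node (.node (.node (.node (.word [6,1,0,2,1,3,2,0,1,5,3,4,3,2,3,1,0,1]) (.word [0,2,6,1,2,5,4,3,2,1,0,1,5,2,3,4])) (.node (.word [0,1,0,5,1,2,3,1,2,0,1,5,4,1,2]) (.word [6,1,2,3,5,1,6,2,0,1,0,1,6,2,1]))) (.node (.node .none (.word [2,1,0,1,5,0,1,6,2])) .none)) (.node (.node (.node (.word [0,6,1,2,3,2,1,0,1,2,3,4,3,2,0,1]) (.word [0,6,1,2,5,4,3,2,3,1,2,0,1,5,3])) (.node (.word [0,1,6,1,2,3,4,2,1,0,1,6,1,2,1]) (.word [0,1,0,1,2,1,3,2,0,1,5,1,6]))) (.word [5,2,1,0,1,4,3,2,0,1,6,3,4,2]))) (.node (.node (.node (.node .none (.word [3,4,2,3,2,1,5,1,2,3,2])) (.node (.word [1,0,5,1,2,3,6,1,2,1,0,1,6,5,4,3,2,3,1,0])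 (.word [2,3,4,6,3,2,3,1,2,3,4,1,2,3,2,3]))) (.node (.node (.word [0,2,3,2,1,5,0,1,6,2,3,2,0]) (.word [1,0,1,3,4,3,2,3,1,2,1,0,1,0])) .none)) (.node (.node (.node (.word [1,2,3,4,5,3,2,3,1,2,0,1,5,0,1,0]) (.word [6,5,3,1,2,3,1,2,0,1,6,2])) (.node (.word [0,2,6,1,0,2,3,4,3,2,1,6,2,3]) (.word [2,6,1,0,2,3,2,1,6,5,2,3,4]))) (.node (.node (.word [0,2,1,5,6,1,2,0,1,6,5,3,1,0]) (.word [2,6,4,3,2,3,1,2,3,0,1,0,1,2])) (.word [5,6,1,2,3,4,5,1,2,3,1,2,1,0,1,6,5,3])))))) (.node (.node (.node (.node (.node (.word [1,2,3,2,1,0,4,2,1,5,3,4,1,2,3,2,1,0,1]) (.word [0,2,6,4,3,2,1,0,1,6,5,2,3,2])) (.node (.node (.word [6,1,0,1,2,1,0,6,3,2,1,6,4,3,2,3,2,1,0]) (.word [0,2,3,6,1,2,0,1,0,1,5,3,4,2])) (.word [0,6,1,2,3,5,0,1,2,1,0,1,0]))) (.node (.node (.node (.word [1,2,3,2,1,6,5,1,6,3,2,3,4,2,1]) (.word [6,5,3,2,3,1,0,1,2,3,4,1,2]))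 (.node (.word [1,6,5,1,3,2,1,5,3,2,1,6,4,1,0,1]) (.word [0,1,2,3,2,1,0,1,2,3,4,3,1,2,1]))) (.node (.node (.word [0,2,1,4,3,2,1,5,3,4,2,0]) (.word [6,1,0,1,2,3,4,2,3,2,1])) (.word [0,1,2,3,2,5,0,1,5,0,1,2,1])))) (.node (.node (.node (.node .none (.word [1,2,1,0,1,5,3,1,2,3,2,1])) (.node (.word [1,2,1,3,4,5,3,2,1,0,1,5,2,0,1]) (.word [1,2,6,1,0,1,6,3,2,3,0,1,0,1,2,1]))) (.node (.node (.word [1,0,2,3,2,1,5,1,2,3,4,2,3,0,1]) (.word [0,5,3,6,1,0,1,2,3,4,2,3,2,1,5])) (.word [0,1,0,1,4,3,2,3,1,2,1,0,1,5,3]))) (.node (.node (.node .none (.word [6,1,0,1,2,1,5,4,3,1,0,1,2,1,0])) (.node .none (.word [2,1,0,1,2,5,3,2,1,6,5,4,2,3]))) (.node (.word [6,1,5,1,2,3,0,1,2,3,1,0,1]) (.word [0,1,2,1,0,1,5,4,1,2,3,2,0,1,0]))))) (.node (.node (.node (.node (.node .none (.word [2,3,6,1,5,2,1,6,3,2,3,4,2])) (.node (.word [6,1,2,5,4,3,0,1,2,3,4,1,0,1,0])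 (.word [2,3,5,1,0,1,5,2,3,1,2,3,4,2]))) (.node (.word [2,3,5,6,1,2,3,0,1,2,3,4,2]) (.word [6,1,5,4,1,2,3,2,3,1,2,0,1,0]))) (.node (.node (.node .none (.word [2,6,1,0,4,3,2,1,0,1,5,3,2,3])) .none) (.node (.word [5,1,0,1,3,2,3,1,2,3,1,0,1]) (.word [2,6,1,0,2,1,5,3,2,3,4,0,1,0,1])))) (.node (.node (.node (.word [2,3,2,1,6,2,3,2,1,5,0,1,0,1]) (.node (.word [0,1,2,1,5,1,4,3,2,1,5,3,2,3,4,1]) (.word [6,1,3,4,2,3,1,2,0,1,6,4,2,0]))) (.node (.word [5,1,0,2,1,0,1,5,6,1,2,3,2,1,5,0]) (.word [5,0,1,0,2,1,5,2,3,2,0,1,6,0]))) (.node (.node (.word [5,2,6,1,2,5,3,2,1,0,1,2,3,4]) (.word [2,3,2,5,1,2,3,2,3,4])) (.node (.node (.word [1,5,6,1,2,0,1,6,5,4,1,2,3,0]) (.word [1,0,2,1,5,1,4,2,3,0,1,2,3,4,1,0])) .none))))))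

/-- A subtree. -/
def sub121 : WTree :=
  (.node (.node (.node (.node (.node (.node (.node (.word [3,4,0,2,3,2,1,4,3,5,2,3,4,0,1,2,3,2,3]) (.word [0,2,3,2,1,5,2,3,1,0,1,2,3,4,3,0])) (.node (.word [1,0,2,1,0,1,5,6,1,2,3,2,1,5,0]) (.word [2,1,0,1,3,6,5,1,6,2,3,1,2,3,4]))) (.node (.word [0,3,4,3,2,3,6,1,2,3,0,1,2,3,4,2]) (.word [0,2,1,0,1,5,0,1,6,2,3]))) (.node (.node (.node (.word [1,0,5,1,2,3,4,2,3,2,1,5,3,1,0]) (.word [0,3,2,3,6,1,2,0,1,5,3,2,3,4,2])) (.node .none (.word [6,3,4,2,3,1,0,1,2,3,1,2,3]))) (.node (.node (.word [2,1,3,4,2,3,1,2,0,1,5,4,2,3,2]) (.word [2,6,1,2,5,3,4,2,1,0,1,2,3])) (.word [0,2,6,1,5,0,1,0,1,2,3,4,3])))) (.node (.node (.node (.node .none (.word [5,3,4])) (.node (.word [0,1,5,3,2,1,0,1,5,2,1]) (.word [2,3,2,6,1,5,3,2,1,6,1,5,3,2,3,2]))) (.node (.node (.word [6,1,5,3,4,2,3,2,3,1,2,0,1,0])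 (.word [1,0,1,2,3,2,1,5,6,3,4,1,2,3,2,1,5,0])) (.word [1,5,6,1,2,3,1,6,5,2,3,1,2,3,0]))) (.node (.node (.node (.word [6,1,0,2,1,3,2,5,3,0,1,2,0,1,6,3,0]) (.word [1,6,1,0,2,3,2,1,0,1,6,3,2,1,5,2,0])) (.node (.word [6,3,2,3,2,1,5,0,1,2,3,4,2]) (.word [1,5,6,1,4,3,2,0,1,6,5,1,2,3]))) (.node (.node (.word [0,2,1,0,1,3,5,2,3,4,1,0,1,2]) (.word [0,1,2,3,2,1,6,4,2,1,0,1,2,0,1])) .none)))) (.node (.node (.node (.node .none (.node (.word [2,1,3,4,5,1,0,1,5,2,3,4,2,3,1,2]) (.word [2,3,2,6,1,2,5,1,6,1,5,3,2,3,2]))) (.node (.node (.word [2,3,2,1,5,1,2,3,2,3,4]) (.word [1,2,6,5,1,2,3,4,3,2,1,5,6,3,1,0])) (.word [1,0,1,5,0,1,6,2,3,2,3,1,2,3,2]))) (.node (.node (.node .none (.word [1,5,6,1,2,0,1,6,5,1,2,3,4,3])) (.node .none (.word [1,0,2,1,3,2,3,4,2,3,1,2,0,1]))) (.node (.node (.word [0,2,1,4,3,2,1,5,3,2,3,4]) (.word [2,1,0,1,2,3,2,1,5,1,6,2,3]))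 .none))) (.node (.node (.node (.node .none (.word [0,2,1,5,6,1,2,0,1,6,5,1])) (.node (.word [0,2,3,2,5,1,2,0,1,5,6,3,2,3]) (.word [2,1,3,4,2,3,4,1,2,3,0,1,2,3,2]))) (.node (.node (.word [2,6,1,2,5,3,4,2,1,0,1,2,0]) (.word [1,2,1,0,1,2,3,4,2,3,2,1,0,1,2,3,4,1])) (.word [1,5,4,3,2,1,5,6,1,5,2,1]))) (.node (.node (.node .none (.word [5,2,1,0,1,2,5,3,2,1,6,4,2,0])) (.node (.word [5,4,3,2,3,2,6,1,0,1,6,5,2,3,2]) (.word [5,2,6,1,0,2,3,2,1,6,5,2,3,4]))) (.node (.node (.word [1,2,3,6,1,2,0,1,6,3,2,0,1]) (.word [2,3,6,1,5,0,1,2,3,0,1,2,3,0])) (.word [1,0,1,2,3,5,0,1,2,0,1,6,5,2])))))) (.node (.node (.node (.node (.node (.node .none (.word [4,3,2,3,6,1,2,0,1,0,1,5,2,3,2])) (.node (.word [6,1,2,3,5,2,3,1,2,0,1,0]) (.word [1,2,5,1,4,3,2,0,1,5,3,4,2,1]))) (.node (.word [3,4,1,2,3,2,5,1,0,1,6,1,5,3,2,1]) (.word [0,2,3,2,1,5,3,2,3,4,1,0,1,2,3])))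 (.node (.node (.node .none (.word [2,1,5,6,1,2,0,1,6,5,3,1])) (.word [1,2,1,3,6,5,2,1,6,5,3,2,3,4,1])) (.node (.node .none (.word [1,2,1,0,1,5,3,2,3,1,0,1,2,1])) (.word [2,1,3,2,3,4,1,2,3])))) (.node (.node (.node (.word [0,3,2,1,0,1,3,2,1,5,3,1,0,1,2,3,2]) (.node (.word [2,3,2,6,1,2,5,0,1,6,5,2,3,4,2,3]) (.word [0,2,3,2,5,1,2,0,1,6,5,3,4,2,3]))) (.node (.word [3,4,2,3,2,1,5,0,1,2,0,1,6,3,4,2,3]) (.word [5,4,3,2,6,1,0,4,3,2,1,0,1,5,3,4,2]))) (.node (.node (.node (.word [4,3,1,2,3,2,1,6,5,1,6,2,3,2,0,1]) (.word [1,2,1,5,1,0,1,5,2,3,2,3,1,2])) (.node (.word [1,0,2,5,1,0,1,5,2,3,4,3,1,2,1]) (.word [1,0,2,3,2,6,1,5,6,1,2,3,2,1]))) (.node .none (.word [0,2,6,1,0,2,4,3,2,1,6,2]))))) (.node (.node (.node (.node (.node (.word [0,1,0,2,1,3,4,2,3,4,0,1,2,3,1,0,1]) (.word [4,3,2,3,2,6,1,0,1,6,5,2,3,2])) (.node (.word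 [1,2,4,3,2,1,6,5,1,0,1,2,0,1]) (.word [3,4,2,1,0,1,2,5,3,2,1,6,5,2]))) (.word [5,3,4,6,1,2,3,5,2,3,1,2,3,0,1])) (.node (.node (.word [5,4,3,0,1,0,1,2,1,3,2,3,1,0,1]) (.node .none (.word [2,1,5,6,1,2,3,2,1,6,5,1,2,0]))) (.node (.node (.word [0,6,1,5,3,0,1,0,1]) (.word [0,1,0,1,2,1,3,2,3,4,3,1,0,1])) (.word [1,0,1,3,2,3,1,2,0,1,5,1,6,4,3])))) (.node (.node (.node (.node (.word [5,3,4,2,3,2,1,5,2,3,2,3,4]) (.word [6,1,2,3,5,2,3,1,2,3,4,0,1,0])) (.node .none (.word [0,6,1,2,3,5,4,0,1,2,1,0,1]))) (.node (.node (.word [6,1,0,2,3,2,1,3,0,1,2,3,4,3,2,0,1]) (.word [1,2,1,3,5,1,2,1,5,3,4,2,3,1])) (.word [2,1,6,1,0,1,6,2,3,2,1,5,2,1,6,1]))) (.node (.node (.node .none (.word [1,0,2,1,0,3,5,1,2,3,0,1,0,1,2,1])) (.word [6,1,2,3,4,1,2,3,2,3,1,0,1,2,3,4,3])) (.node (.word [2,1,0,1,5,4,3,2,3,1,0,1,2,3,4,3]) (.word [2,3,2,6,1,5,1,0,1,2,3,2,0])))))))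

/-- A subtree. -/
def sub122 : WTree :=
  (.node (.node (.node (.node (.node (.node (.node (.word [5,3,4,2,1,0,3,5,2,1,5,2,3,1,2,3]) (.word [2,3,2,4,3,2,5,1,0,1,2,3,4,3,2,3,2])) (.node (.word [5,1,2,3,2,1,0,6,1,0,1,6,3,2,1]) (.word [2,3,5,6,1,0,1,2,3,1,2,3]))) (.node (.node (.word [2,5,1,0,1,5,2,3,2,1,6,2]) (.word [6,3,2,1,5,0,1,0,1,2,0])) (.word [5,1,2,1,0,1,3,4,5,3,1,2,1,0,1,6]))) (.node (.node (.node .none (.word [1,2,1,6,1,0,4,1,2,3,2,1,6,1,0])) (.node (.word [6,1,2,3,5,2,3,1,2,0,1,5,4]) (.word [1,5,3,2,3,1,2,3,2,1,5,4,2,1]))) (.node (.word [3,4,2,3,2,1,5,2,3,4,2,0]) (.word [1,2,5,4,3,2,1,0,1,5,0,1,2,1])))) (.node (.node (.node (.node .none (.word [2,3,2,6,1,0,1,6,5,3,2,3,2])) (.word [2,3,2,1,5,1,2,3,4,2,3])) (.node (.node .none (.word [0,3,2,1,0,1,2,5,3,2,1,6,2,3,0])) .none)) (.node (.node (.node (.word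 [5,6,1,2,5,4,3,0,1,2,3,1,0,1]) (.word [5,4,3,2,3,6,1,0,1,2,3,4,1,2])) (.node (.word [6,1,5,0,1,0,1,2,3,1,2,3,1,2]) (.word [1,0,2,1,0,1,5,6,1,2,3,2,1,5,4]))) (.node (.word [0,1,3,2,3,4,2,3,2,1,0,1,6]) (.word [0,2,3,6,1,2,3,4,0,1,0,1,2]))))) (.node (.node (.node (.node (.node (.word [4,3,1,0,2,1,3,4,2,3,2,3,4,1,2,3,0,1]) (.word [0,1,2,1,0,1,5,1,2,3,4,3,2,0,1])) (.node (.word [6,3,2,3,1,2,3,4,0,1,0,1,2]) (.word [1,6,1,2,3,5,1,2,0,1,6,1,5,1,6,2]))) (.node (.node .none (.word [5,2,1,4,3,2,1,0,1,6,3,2,3,0])) (.word [2,6,1,0,4,3,2,3,1,0,1,2,3,4,3]))) (.node (.node .none (.node (.word [4,3,2,1,0,1,3,5,2,3,1,2,3,4,2]) (.word [2,3,6,1,5,0,1,2,3,0,1,2,3,4]))) (.node (.node .none (.word [1,0,5,1,3,2,1,5,3,0,1,2,1,0])) (.word [0,1,0,1,2,1,3,2,1,0,1,5,3])))) (.node (.node (.node (.node (.word [0,1,0,5,1,2,3,4,2,3,2,0,1,5,1,0])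 (.word [6,1,5,1,2,3,0,1,2,1,0,1,0])) (.word [3,4,2,3,2,6,1,0,1,6,5,2,3,4,2,3])) (.node (.node (.word [0,2,5,4,3,1,2,3,1,2,3,4]) (.word [0,2,3,2,4,3,2,1,5,6,2,3,4,1,2,3,2])) (.word [5,1,0,3,2,1,5,3,2,3,2,1,6,5]))) (.node (.node .none (.node (.word [0,6,1,2,3,2,1,4,0,1,2,3,2,0,1,5,0]) (.word [1,5,6,1,3,2,1,6,5,1,2,3]))) (.node (.node .none (.word [4,3,2,3,2,1,5,1,2,3,2])) .none))))) (.node (.node (.node (.node (.node (.node (.word [1,2,5,1,4,3,2,0,1,5,3,2,3,4,3,1]) (.word [6,1,2,3,5,2,3,4,1,2,3,0,1,0])) (.node (.word [0,6,1,5,3,4,3,0,1,0,1]) (.word [2,5,6,1,2,3,2,0,1,6,2]))) (.node (.node (.word [2,1,0,1,2,3,4,2,3,2,1,6,3,2,3]) (.word [2,1,4,3,2,1,0,1,6,3,4,2,3])) .none)) (.node (.node (.node (.word [1,0,1,2,3,0,1,5,2,1,0,1,2,3,1,0]) (.word [0,1,2,1,0,1,5,4,3,1,2,3,2,1,5])) (.node (.word [1,2,3,2,4,3,2,1,5,3,1,0,1,0])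 (.word [1,2,1,5,1,2,3,2,1,5,3,2,1]))) (.node (.word [5,1,0,1,2,1,5,4,3,2,0,1,6,5,4]) (.word [1,5,4,1,2,3,2,0,1,5,0,1,2,1])))) (.node (.node (.node (.node .none (.word [1,2,3,2,4,3,2,1,0,1,6,3,0])) (.word [0,2,3,2,1,5,2,3,4,1,0,1,2,0])) (.node (.node .none (.word [2,1,0,1,3,6,5,1,6,2,1,5,3,2])) (.word [0,2,3,2,1,5,3,2,3,1,0,1,2,3,4]))) (.node (.node (.node .none (.word [1,2,1,0,1,5,3,1,2,3,4,2,1,0])) (.node (.word [2,1,0,1,3,5,1,2,3,1,2,3]) (.word [2,6,1,0,2,3,2,1,6,2,3,0]))) (.node (.node (.word [6,1,5,3,4,2,3,2,3,1,2,3,0,1]) (.word [1,0,1,2,1,4,3,2,1,0,1,5,3])) .none)))) (.node (.node (.node (.node (.word [1,2,1,0,6,4,3,2,1,0,1,5,1,6,2,3,1]) (.node (.word [1,2,1,3,4,3,2,1,5,0,1,2,3,2,3,1]) (.word [0,6,1,3,2,3,1,2,0,1,6,2]))) (.node (.node .none (.word [5,4,3,2,6,1,0,2,3,2,1,6,2])) (.word [1,0,2,5,1,2,4,3,2,0,1,5,1,2,3])))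 (.node (.node (.node .none (.word [3,4,1,2,1,3,5,1,2,3,2,1,5,4,2,3,1])) (.node (.word [2,1,4,3,2,1,0,1,5,6,3,2,3]) (.word [1,5,6,1,3,2,0,1,6,5,4,1,2,3]))) (.node (.node (.word [5,2,6,1,2,5,3,4,3,2,3,2,1,6,2,3]) (.word [0,1,2,6,5,1,2,3,2,1,5,6,3,1])) (.word [2,3,2,3,1,2,3,4,2,3])))) (.node (.node (.node (.node .none (.word [0,1,2,3,2,4,5,3,1,2,0,1,5,4,0,1])) (.node (.word [0,2,3,2,1,5,3,2,3,4,1,0,1,2,0]) (.word [6,1,0,1,2,3,4,2,3,2,1,5,4,3]))) (.node (.node .none (.word [0,1,2,3,2,1,6,1,0,1,2,0,1,5,2])) (.word [0,1,2,6,5,1,2,3,2,1,5,6,3,4,3,1]))) (.node (.node (.node (.word [2,1,5,4,3,1,2,1,0,1,5,3,1,2]) (.word [1,2,1,5,1,6,1,5,4,2,1,0])) (.word [2,3,2,5,6,1,0,1,6,5,3,2,3,2])) (.node (.node (.word [1,0,5,1,2,3,5,2,3,4,3,2,1,0]) (.word [2,1,3,2,3,1,2])) (.word [5,3,4,2,3,2,3,1,2,3,4,2,3])))))))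

/-- A subtree. -/
def sub123 : WTree :=
  (.node (.node (.node (.node (.node (.node (.node (.word [0,2,1,0,5,1,4,3,2,1,5,3,1,2,3]) (.word [5,4,3,2,3,1,2,3,1,2])) (.node (.word [0,6,1,2,3,2,1,5,0,1,0,1,2,1,0]) (.word [2,1,3,5,2,3,2,1,6,0,1,5,2,1]))) (.node .none (.word [1,0,1,2,1,4,3,2,3,4,1,0,1,0]))) (.node (.node (.node (.word [3,4,2,3,6,1,5,2,1,6,2,3,2,3]) (.word [1,2,3,2,1,0,6,1,0,1,6,3,2,1,5])) (.word [5,4,3,2,3,1,2,3,4,1,2,3])) (.node (.node .none (.word [1,2,3,6,1,2,5,0,1,6,3,0,1,2,1])) (.word [1,2,1,5,1,6,2,1,5,2,1])))) (.node (.node (.node (.node (.word [0,1,0,2,1,5,3,2,3,2,1,6,4,0]) (.word [5,6,1,2,3,5,2,3,1,2,0,1,5,0])) (.word [0,1,2,3,2,4,3,2,0,1,5,1,0,1,0])) (.node (.node (.word [1,0,5,1,3,2,3,1,2,0,1,5,4,1,2]) (.word [1,5,6,1,2,1,6,1,5,4,1,2,3])) (.word [0,1,0,2,1,5,2,3,2,0,1,6,0]))) (.node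 (.node (.node (.word [2,6,1,5,4,1,2,3,2,1,0,1,2,3,4]) (.word [6,1,2,3,4,5,1,2,3,1,2,1,0,1,6,0])) (.word [1,0,1,3,2,3,1,2,1,0,1,0])) (.node (.word [4,3,2,1,0,1,2,5,3,2,1,6,5,2,3,4]) (.word [1,2,1,0,1,5,1,2,3,2,0,1,0]))))) (.node (.node (.node (.node (.node (.word [5,4,3,2,3,6,1,2,0,1,5,2,3,4,2]) (.word [3,4,2,3,1,2,3,4,1,2,3])) (.word [2,1,0,1,3,5,1,2,3,4,1,2])) (.node (.node .none (.word [3,4,2,1,0,3,2,1,5,0,1,6,3,2,3,4])) (.word [1,0,1,2,3,2,1,6,3,1,2,3,1,2,3,1]))) (.node (.node .none (.word [2,6,1,0,2,3,2,1,6,2,3,4,3,0])) (.node (.node (.word [2,3,2,6,1,2,5,1,6,2,3,4,2,3]) (.word [0,1,0,1,3,4,2,3,1,2,1,0,1,5,4])) (.word [0,2,3,2,6,1,3,2,0,1,0,1,5,3,2])))) (.node (.node (.node (.node (.word [1,0,1,2,5,4,3,1,2,3,4,1,0,1,2,1]) (.word [0,1,0,1,2,1,3,2,1,0,1,5,3,4,0])) (.node (.word [1,5,3,2,1,5,6,1,5,2,1,0])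 (.word [0,1,5,6,1,4,3,2,1,6,5,1,2,3]))) (.node (.node .none (.word [1,0,5,1,3,2,1,5,3,0,1,2,3,4,1,0])) (.word [2,3,2,6,1,0,1,6,5,2,3,2]))) (.node (.node .none (.node (.word [2,3,6,1,5,2,1,6,0,1,2,3,2]) (.word [0,2,6,1,2,3,5,4,2,3,2,1,6,4,2]))) (.node (.node (.word [1,0,5,1,2,3,5,4,2,3,2,1]) (.word [0,2,6,1,0,1,4,3,2,3,4,1,2])) (.word [6,1,2,3,4,3,2,1,0,1,2,3,2,0,1,5,0])))))) (.node (.node (.node (.node (.node (.node (.word [1,0,1,6,1,2,4,3,2,1,5,1,6,2,1,5,3]) (.word [2,3,2,4,3,2,1,0,1,2,3,4,3,2,3,2])) (.word [2,1,0,1,3,5,2,1,0,1,2,3,2])) (.node (.node .none (.word [2,5,6,1,5,2,3,2,1,0,1,5,2])) (.word [5,6,1,0,1,2,3,4,2,3,2,3,1,0]))) (.node (.node (.word [5,1,2,1,6,4,3,2,1,6,0,1,2,0,1,5,3]) (.node (.word [0,1,2,1,6,5,4,3,2,1,6,5,3,2,3,4,1]) (.word [2,5,6,1,2,3,2,0,1,6,2,3,0]))) (.node (.node .none (.word [2,3,4,6,1,0,1,2,3,4,2,3,1,2]))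 (.word [2,1,0,1,3,2,0,1,5,6,1,5,3,2,3,2])))) (.node (.node (.node (.node (.word [0,6,1,0,2,1,0,5,4,3,2,3,1,2,0,1,6]) (.word [2,3,2,6,1,5,1,0,1,2,3,4,2,3,0])) (.node (.word [0,1,6,1,2,3,4,2,1,0,1,6,2,1,5,2]) (.word [1,5,6,1,2,1,6,5,4,1,2,3]))) (.node (.node (.word [0,2,1,3,2,4,3,1,2,3,4,3,1,0,1,2]) (.word [2,1,0,1,3,2,0,1,6,0,1,5,3,2,3,2])) .none)) (.node (.node (.node .none (.word [2,1,0,3,2,1,5,0,1,6,3,2,3,4])) (.node (.word [1,0,2,3,6,1,2,0,1,6,3,4,2,3,1]) (.word [2,6,1,2,5,3,4,3,2,3,2,1,6,4,2]))) (.node (.node .none (.word [0,1,2,1,3,2,4,0,1,5,1,2,0,1])) (.word [2,1,0,1,4,3,2,0,1,5,6,3,4,2,3]))))) (.node (.node (.node (.node (.node (.word [0,5,4,1,0,5,1,2,3,4,2,3,2,1,5,4,1,0]) (.word [1,2,3,2,1,5,3,1,0,1,2,1])) (.word [2,1,5,4,3,2,1,5,3,4,0,1,2,0])) (.node (.node .none (.word [0,2,1,0,1,2,5,4,3,2,1,6,2,3,4]))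 (.word [2,1,5,6,1,2,0,1,6,5,3,4,3,1]))) (.node (.node (.node (.word [3,4,2,3,2,1,5,2,3,2,3,4]) (.word [4,3,2,1,0,1,2,5,3,2,1,6,2,3,0])) (.node (.word [2,1,0,1,5,0,1,6,2,3,4]) (.word [2,3,2,6,1,2,6,0,1,0,1,2,3,2,3]))) (.node (.node (.word [6,1,5,0,1,0,1]) (.word [6,1,5,1,2,3,0,1,2,3,4,1,0,1,0])) (.word [2,1,3,5,1,2,3,2,1,6,1,5,2,3,4,1])))) (.node (.node (.node (.node (.word [3,4,2,1,0,1,2,5,3,2,1,6,2]) (.word [4,3,2,3,2,6,1,0,1,6,1,2,3,2])) (.node (.word [0,1,2,1,0,1,5,3,1,2,1,0,1,6,3]) (.word [1,6,5,1,3,2,3,2,1,5,6,2,3,1]))) (.node (.node .none (.word [2,3,6,1,2,0,1,5,3,2,3,4,2])) (.word [1,0,1,2,3,5,0,1,2,0,1,6,4,2,3]))) (.node (.node (.word [4,3,2,1,0,5,1,2,3,1,2,0,1,5,4,1]) (.word [1,5,4,3,2,1,5,6,1,5,4,2,1,0])) (.node (.word [6,1,0,2,1,5,4,3,1,2,0,1,6,3]) (.word [6,1,2,3,5,2,3,4,1,2,0,1])))))))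

/-- A subtree. -/
def sub124 : WTree :=
  (.node (.node sub120 sub121) (.node sub122 sub123))

/-- Points. -/
def levY1pts0 : List ℕ := [2,3,4,5,6,7,8,9,10,11,12,14,15,17,18,19,20,21,22,23,24,25,26,28,30,31,32,33,34,35,36,37,38,39,40,41,46,47,49,50,52,53,54,55,56,58,59,60,61,62,63,65,66,67,69,70,72,73,74,76,77,79,80,81,82,85,86,89,90,91,92,93,94,95,96,97,98,100,101,102,103,104,105,106,108,111,112,114,115,116,117,120,121,123,124,125,126,127,128,129,130,131,133,134,136,138,139,140,141,143,144,145,146,147,148,149,150,151,152,153,154,157,158,159,161,163,164,165,166,169,170,172,173,174,176,177,178,180,181,182,184,185,186,187,189,190,191,192,193,194,195,197,199,200,202,203,204,205,206,207,209,210,212,213,214,217,219,221,222,224,225,227,228,229,230,232,234,236,238,240,241,242,243,244,245,246,247,250,252,253,254,255,256,257,258,259,260,261,262,263]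

/-- Points. -/
def levY1pts1 : List ℕ := [267,269,270,272,273,274,275,276,279,280,281,283,284,285,289,290,292,293,294,297,298,299,300,302,304,305,306,307,308,309,310,313,314,315,316,318,320,322,324,326,330,331,333,334,335,336,337,339,341,344,345,346,347,348,349,350,351,352,353,354,355,356,357,359,360,362,363,364,366,368,370,371,373,374,376,377,379,381,384,386,387,388,390,391,392,393,394,395,397,398,400,402,403,404,405,406,407,410,412,414,416,418,419,420,424,425,426,427,428,429,430,431,432,434,435,436,437,438,439,440,441,443,444,445,447,448,449,450,451,452,453,454,455,456,458,459,460,463,464,466,467,468,469,470,471,473,474,477,478,480,481,483,484,486,489,490,491,492,494,495,497,498,499,502,503,505,506,507,511,513,514,515,516,517,518,519,521,522,523,525,526,527,528,529,531,532,533,534,535,536,537,539,540,541,542,543,545,546,547,548]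

/-- Points. -/
def levY1pts2 : List ℕ := [549,550,551,552,553,555,557,558,559,560,561,562,563,565,566,567,568,569,570,571,573,574,575,580,581,583,585,586,587,589,590,591,592,593,594,595,596,598,599,601,603,604,605,606,607,608,609,611,612,613,615,616,617,618,619,620,621,623,624,625,627,628,629,630,631,636,637,639,641,642,643,644,645,646,647,648,649,650,652,653,654,655,656,657,658,659,660,661,662,663,664,665,666,667,669,670,671,672,673,674,675,676,677,678,679,680,681,682,684,685,686,687,688,689,690,692,693,695,696,698,700,701,702,703,704,705,707,708,709,710,711,713,714,715,717,718,719,720,721,722,724,725,726,727,728,729,730,731,733,735,736,737,739,741,742,743,744,745,746,747,749,750,751,752,753,754,755,756,757,758,759,761,762,763,764,765,766,767,768,769,770,771,772,774,775,776,777,778,779,781,782,783,784,785,786,787,788,789,790,792]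

/-- Points. -/
def levY1pts3 : List ℕ := [793,795,797,798,799,800,801,804,805,806,807,808,810,811,812,813,814,815,816,817,818,819,820,821,823,826,828,830,831,833,834,836,837,838,840,841,843,844,845,846,847,848,849,850,851,852,853,855,856,857,858,859,861,862,864,865,866,868,869,870,871,872,873,874,875,876,877,879,880,881,882,883,884,886,887,888,890,891,893,895,896,897,898,899,900,901,902,903,904,905,906,907,909,910,911,912,914,915,916,917,919,921,922,923,925,926,927,928,929,930,932,933,934,935,936,937,941,942,943,944,945,946,947,948,949,950,951,953,954,955,956,957,958,959,960,961,962,963,964,965,966,967,968,969,970,972,973,974,975,977,978,979,982,984,985,987,988,989,990,991,992,993,994,995,996,997,1000,1001,1002,1003,1004,1006,1007,1008,1014,1015,1016,1017,1018,1019,1020,1021,1022,1023,1025,1028,1030,1031,1032,1033,1035,1036,1037,1039,1040,1041,1042,1044,1045,1046]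

/-- Points. -/
def levY1pts4 : List ℕ := [1047,1048,1049,1051,1052,1053,1054,1055,1056,1057,1058,1059,1060,1061,1062,1063,1064,1065,1066,1068,1069,1071,1072,1073,1074,1075,1076,1077,1078,1080,1081,1082,1083,1084,1085,1086,1087,1088,1089,1090,1092,1093,1094,1095,1096,1097,1098,1099,1101,1103,1104,1106,1107,1108,1109,1110,1111,1112,1113,1114,1116,1117,1119,1120,1121,1123,1126,1127,1128,1129,1131,1132,1134,1135,1136,1137,1138,1140,1143,1145,1146,1147,1149,1150,1151,1152,1154,1155,1156,1157,1158,1159,1160,1163,1164,1166,1167,1169,1170,1171,1172,1173,1175,1176,1178,1179,1180,1181,1185,1186,1187,1188,1189,1190,1192,1193,1194,1195,1196,1197,1198,1200,1201,1203,1204,1205,1206,1207,1208,1209,1212,1213,1215,1216,1217,1218,1219,1221,1222,1223,1224,1225,1226,1227,1228,1229,1230,1231,1232,1233,1234,1235,1237,1238,1239,1240,1241,1242,1243,1244,1245,1246,1247,1248,1250,1251,1253,1254,1256,1257,1258,1259,1260,1265,1266,1268,1270,1271,1273,1274,1275,1276,1277,1278,1280,1281,1283,1284,1285,1286,1287,1292,1293,1294,1296,1297,1298,1299,1300,1301]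

/-- Points. -/
def levY1pts5 : List ℕ := [1302,1303,1308,1309,1310,1311,1312,1313,1315,1316,1317,1318,1319,1320,1322,1323,1324,1325,1326,1327,1330,1332,1335,1336,1337,1338,1340,1341,1342,1343,1346,1348,1351,1352,1353,1354,1355,1356,1357,1358,1359,1360,1362,1363,1364,1365,1366,1367,1368,1369,1370,1373,1374,1375,1376,1377,1378,1379,1380,1382,1383,1384,1385,1386,1387,1388,1389,1390,1391,1392,1393,1394,1398,1399,1400,1401,1402,1403,1404,1405,1407,1410,1412,1413,1416,1417,1418,1419,1420,1423,1424,1427,1428,1429,1430,1432,1433,1434,1435,1437,1438,1439,1440,1441,1442,1444,1446,1447,1448,1449,1450,1451,1453,1454,1455,1460,1462,1463,1464,1465,1466,1467,1468,1469,1470,1471,1472,1473,1475,1476,1477,1478,1480,1483,1485,1486,1489,1490,1493,1494,1495,1497,1498,1500,1501,1503,1504,1505,1506,1507,1508,1511,1514,1515,1516,1517,1519,1520,1521,1522,1523,1524,1525,1527,1528,1529,1530,1532,1536,1537,1538,1539,1540,1541,1542,1543,1544,1545,1547,1548,1549,1550,1551,1552,1553,1554,1556,1558,1559,1560,1561,1562,1563,1564,1565,1568,1569,1570,1571,1572]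

/-- Points. -/
def levY1pts6 : List ℕ := [1574,1575,1576,1578,1579,1580,1581,1584,1585,1586,1587,1588,1589,1590,1591,1593,1594,1595,1596,1597,1598,1601,1602,1603,1605,1606,1609,1610,1611,1612,1613,1614,1617,1618,1619,1621,1622,1624,1625,1626,1627,1628,1630,1631,1632,1633,1634,1635,1636,1637,1638,1640,1642,1643,1644,1645,1646,1647,1648,1649,1650,1651,1652,1653,1654,1655,1656,1657,1658,1659,1660,1661,1662,1663,1664,1665,1666,1667,1669,1670,1671,1672,1673,1674,1675,1676,1677,1680,1681,1682,1683,1684,1685,1686,1687,1689,1690,1692,1693,1694,1695,1697,1698,1699,1700,1701,1702,1703,1705,1707,1709,1710,1714,1716,1718,1719,1721,1723,1725,1727,1728,1729,1730,1731,1732,1733,1734,1735,1736,1737,1738,1739,1741,1742,1746,1747,1748,1750,1751,1752,1753,1755,1756,1757,1758,1759,1760,1761,1762,1763,1764,1765,1766,1767,1768,1769,1770,1771,1772,1773,1775,1777,1778,1780,1781]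

/-- A level. -/
def levY1 : Level :=
  ⟨1284, (.node (.node sub109 sub114) (.node sub119 sub124)), levY1pts0 ++ levY1pts1 ++ levY1pts2 ++ levY1pts3 ++ levY1pts4 ++ levY1pts5 ++ levY1pts6⟩

/-- A subtree. -/
def sub125 : WTree :=
  (.node (.node (.node (.node .none (.node (.node (.node .none (.word [0,1,5,1,2,3,2,1,3,5,2,3,1,0,1,6,0,1,2,3,2,1,5,0])) .none) .none)) (.node (.node .none (.word [3,2,3,6,1,0,2,3,4,1,0,3,2,3,1,2,6,1,5,3,4,2,3,2,3,1,2,3,0,1])) (.node (.node (.node .none (.word [2,3,2,1,5,1,2,3,4,1,5,6,2,1,6,2,3,2,1,0,1,5,2,1])) .none) .none))) (.node (.node .none (.node .none (.node .none (.word [3,2,3,6,1,0,2,3,4,1,0,1,3,2,4,3,2,6,5,4,3,1,2,3,4,0,1,2,3,2])))) (.node (.node .none (.node .none (.word [2,4,3,2,3,5,1,2,3,4,0,2,3,5,6,1,2,1,5,1,6,3,2,1,0,1,2,3]))) .none))) (.node (.node (.node (.node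 (.node .none (.word [4,3,5,1,2,1,0,3,4,6,2,3,2,1,6,0,1,2,3,0,1,0])) (.node (.node (.word [1,0,2,3,5,1,2,3,4,1,5,2,0,2,3,2,6,1,2,6,5,1,2,3,2,0,1,6,2,0]) (.word [5,6,1,0,1,2,3,4,2,3,2,1,2,3,2,1,5,3,0,1,2,0,1,6,3,2])) .none)) (.word [1,2,1,0,3,4,5,3,2,1,5,2,0,1,6,1,0,2,3,2,4,3,4,1,0,1,2,3,2,1])) (.node (.node (.node .none (.word [3,4,5,2,1,0,5,1,2,3,2,1,5,3,4,3,2,3,2,1])) (.node .none (.word [1,0,2,1,3,2,4,3,2,3,0,1,6,0,1,2,3,2,1,5,4]))) (.node (.node .none (.word [2,1,3,2,3,4,1,2,6,1,5,6,1,2,3,5,0,1,6,4,2,3,1,2,0,1,6,1])) .none))) (.node (.node (.node (.node .none (.node .none (.word [2,4,3,2,1,3,2,3,4,0,1,6,3,2,1,4,3,5,0,1,2,0,1,6,2,3,4,2,3,2]))) (.node .none (.word [3,2,1,3,2,1,0,1,5,6,3,2,1,2,3,4,5,2,3,1,2,0,1,5,3,0,1]))) (.node (.word [2,4,3,6,5,1,0,1,2,3,1,2,0,6,1,0,2,1,3,4,5,3,1,2,0,1,6,5]) (.word [1,0,2,3,2,6,1,5,6,1,2,3,1,0,1,2,6,4,3,2,1,0,1,6,4,2,1])))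 (.node (.node .none (.node (.node .none (.word [1,2,3,4,5,1,0,1,2,3,2,1,5,2,3,6,5,1,2,0,1,6,5,3,4,2,3,1])) (.word [1,0,1,2,4,3,1,2,1,2,3,4,6,1,2,3,0,1,2,0,1,0,1,6,1,0]))) .none))))

/-- A subtree. -/
def sub126 : WTree :=
  (.node (.node (.node .none (.node .none (.node (.word [3,4,5,2,3,2,4,3,2,1,6,1,5,2,3,4,3,2,3,2]) (.word [0,3,2,1,0,1,3,2,1,5,1,4,3,2,1,6,3,2,3,1,2,0,1,6,4,3,2])))) (.node (.node (.node (.node (.node .none (.word [3,2,4,3,2,5,6,1,0,5,2,1,6,3,1,2,3,4,3,2,1,5,0,1,6,2,3,2,0])) .none) (.node (.node .none (.word [3,4,1,2,3,4,6,5,1,0,1,2,3,2,1,0,1,5,6,3,4,2,3,1])) .none)) .none) (.node (.node (.node (.node .none (.word [4,3,2,1,5,6,1,2,3,4,2,3,2,3,1,2,3,2,1,6,1,5,1])) .none) .none) (.node (.node (.node .none (.word [1,2,1,0,3,5,1,2,3,4,5,3,2,6,1,2,6,1,5,3,2,1,6,0])) .none) .none)))) (.node (.node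 .none (.node (.node (.node (.node .none (.word [1,3,2,4,3,2,1,3,5,1,0,1,2,0,2,6,1,0,1,2,5,4,3,2,1,5,6,2,1,5,2,0])) .none) (.node (.node .none (.word [3,2,1,3,2,1,0,1,6,5,2,4,3,2,1,6,2,3,1,2,3,4,3,1,2,3,2])) .none)) (.node (.node .none (.word [5,2,3,4,6,1,2,3,2,1,0,1,6,3,4,2,3,2,3])) .none))) (.node (.node (.node .none (.node (.node .none (.word [1,2,5,1,2,6,1,2,0,1,5,3,2,3,1,2,0])) .none)) .none) .none)))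

/-- A subtree. -/
def sub127 : WTree :=
  (.node (.node (.node (.node (.node (.node (.word [2,5,1,0,1,2,3,5,1,2,3,4,1,6,2,6,1,5,3,2,1,6,0,1,2,3,2,3,4]) (.node .none (.word [2,3,2,3,5,1,2,3,4,3,2,4,3,2,1,6,2,0,1,5,3,4,2,3,2]))) .none) .none) (.node (.node (.node .none (.word [4,3,2,1,3,2,1,3,4,5,2,6,1,3,2,1,0,1,5,3,2,0,1,0,1])) (.node (.node .none (.word [2,4,3,5,6,1,5,2,1,6,2,1,4,3,5,1,2,0,1,5,3,4,2,3,2,0])) (.word [2,3,2,6,1,2,5,1,6,2,3,2]))) (.node (.node .none (.word [2,4,3,2,1,3,5,1,2,3,4,1,6,1,0,1,5,6,2,1,5,3,2,1,6,1,5])) (.word [3,4,3,0,1,0,1,2,3,2,6,1,5,6,1,5,3,4,2,3,0,1,0])))) (.node (.node (.node (.node .none (.word [2,3,2,1,4,3,2,1,0,1,5,6,1,5,1,2,3,4,3,0,1,2,3,2])) .none) (.node .none (.node (.node .none (.word [3,2,1,3,2,1,5,3,1,0,1,2,5,4,3,2,3,6,1,0,1,2,3,1,2,0])) .none))) (.node (.node (.node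 (.word [1,3,2,4,3,5,1,0,2,6,1,5,2,1,4,6,1,5,1,6,3,2,1,5,4,0,1,0]) (.word [3,2,1,0,1,0,3,2,1,6,3,1,0,6,1,0,2,1,5,4,2,3,2,1,6,2,3,1,0])) .none) (.node .none (.node .none (.word [2,1,3,2,1,3,4,5,2,0,6,1,0,1,2,1,5,3,4,1,2,3,2,1,5,2])))))) (.node (.node (.node (.node (.node (.word [4,3,2,3,6,1,2,5,1,6,2,3,1,0,1,6,1,0,2,4,3,2,1,5,1,6,1,2,3,0]) (.node .none (.word [3,2,4,3,2,1,3,5,2,3,2,1,0,6,1,2,3,2,4,1,5,6,2,1,5,3,2,0,1,6]))) (.node (.node .none (.word [2,3,2,1,6,5,1,0,5,1,2,4,6,1,2,3,0,1,2,3,4,3,0,1,2,0])) .none)) (.node .none (.node (.word [3,4,2,3,2,6,1,0,1,6,3,2,3,4,2,3]) (.word [4,3,5,6,1,0,2,1,3,2,5,3,0,1,2,0,1,6,4,0])))) .none) (.node (.node (.node .none (.word [2,3,2,1,5,1,2,3,4,3,2,1,0,1,2,0,1,6,3,1,2,3,2])) (.node (.node (.word [3,4,1,2,1,6,5,1,0,2,1,6,5,3,2,1,6,4,3,0,1,0]) (.word [4,6,5,1,2,3,2,3,4,5,6,1,0,2,3,2,1,6,5,1,6,4,2,1,0,1,2]))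 .none)) (.node .none (.node (.node (.node .none (.word [0,1,0,1,2,1,0,3,2,1,5,1,6,1,2,1,3,4,5,2,3,2,1,5,2,0,1])) .none) .none)))))

/-- A subtree. -/
def sub128 : WTree :=
  (.node (.node (.node (.node (.node .none (.node (.node .none (.word [3,4,5,0,1,2,3,4,6,1,2,3,1,6,1,5,1,2,0,1,6,5,2,3])) .none)) (.node (.node (.node .none (.word [0,2,3,6,1,2,3,4,5,1,6,2,0,1,5,3,1,2,1,0,1,5,2,1])) (.node .none (.word [6,1,2,3,2,3,4,5,1,2,0,1,0,2,3,6,1,0,1,5,2,0,1,0,1,5,3,4,1,2]))) .none)) (.node .none (.node (.node (.node .none (.word [2,3,2,1,5,2,3,1,0,1,6,1,0,2,3,2,1,5,6,1,5,6,2,3])) .none) (.word [0,2,3,2,6,1,0,1,5,2,0,1,6,5,3,2])))) (.node (.node .none (.node (.node (.node .none (.word [1,3,2,5,1,0,1,5,2,1,2,3,4,6,1,2,3,2,1,6,5,2,3,4,3,2])) .none) (.word [1,2,1,0,5,1,2,3,2,4,3,1,2,1,5,3,0,1,2,3,4,3,1]))) (.node (.node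 (.node (.node (.word [3,6,1,0,5,1,0,1,2,1,0,1,6,1,0,2,3,4,2,3,2,1,6,0,1,2,0]) (.word [0,1,0,1,2,3,4,1,2,1,2,5,1,2,3,2,1,6,0,1,5,4,3,2,3,4,1])) (.node .none (.word [2,4,3,2,6,5,1,0,1,6,2,4,6,1,5,3,2,1,6,5,4,3,2,3]))) (.node (.node .none (.word [2,1,3,2,1,3,2,3,4,1,0,2,3,6,1,2,0,1,6,3,2,1,5,3,4])) .none)) (.node .none (.node (.node .none (.word [4,0,1,0,2,6,1,0,2,1,5,3,2,1,6,4,3,1,2,3,1,2,1])) .none))))) (.node (.node (.node (.node (.node (.node .none (.word [0,2,1,5,6,1,2,3,2,5,4,3,1,2,0,1,5,6,3,1,2,3])) .none) .none) .none) (.node (.node (.node .none (.word [5,2,3,6,1,5,2,0,1,0,1,6,2,3,2,0])) .none) .none)) (.node (.node (.node .none (.node .none (.word [3,2,1,3,2,1,0,1,5,6,3,1,0,1,2,3,5,4,2,3,2,1,0,1,2,3]))) .none) (.node .none (.node (.node .none (.word [1,0,1,2,1,4,3,2,3,5,1,0,1,2,3,4,2,3,2,3,1])) (.node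 (.node .none (.word [1,5,6,1,0,2,1,6,5,1,2,1,2,3,2,1,4,3,6,1,2,0,1,5,3,4,2,1,0,1])) .none))))))

/-- A subtree. -/
def sub129 : WTree :=
  (.node (.node sub125 sub126) (.node sub127 sub128))

/-- A subtree. -/
def sub130 : WTree :=
  (.node (.node (.node (.node (.node (.node .none (.word [0,2,1,4,3,2,1,3,2,4,3,6,1,2,3,4,1,2,3,2,3,1,0,1,2,3])) .none) .none) (.node (.node (.node .none (.node .none (.word [0,1,0,3,2,1,3,2,4,3,2,3,1,2,0,1,5,2,6,1,0,2,4,3,2,1,0,1,5,3,2,1,6]))) .none) (.node (.node .none (.node .none (.word [4,3,1,2,6,5,1,2,3,2,1,6,5,1,6,2,0,1,5,3,4,0,1]))) .none))) (.node (.node (.node (.node .none (.word [0,6,1,2,3,5,1,6,2,1,6,2,4,5,3,2,1,5,4,3,0,1,2,1])) (.word [1,2,3,2,1,0,1,3,2,3,4,5,1,0,1,5,2,3,2,1,0,1,2,0])) (.node (.node .none (.word [1,2,5,1,0,1,2,3,4,5,1,2,3,2,5,6,1,5,2,0,1,6,2,3,2]))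 (.node .none (.word [3,2,4,3,2,1,3,2,3,4,5,1,5,6,2,1,6,3,2,0,1,5,0,1,2,1])))) (.node (.node .none (.node (.node .none (.word [2,1,3,2,1,3,2,4,3,5,2,6,1,0,1,2,0,1,5,3,1,2,3,4,1,2,1])) .none)) .none))) (.node (.node (.node (.node (.node .none (.node .none (.word [3,2,1,5,6,1,0,2,3,4,1,6,5,2,1,0,3,5,2,1,5,6,2,1,5,3,2,1]))) (.node .none (.word [0,2,1,4,3,2,3,1,2,1,5,6,1,2,1,6,5,4,3,2,1,0,1,6,3,2]))) .none) (.node (.node (.node (.node .none (.word [2,4,3,2,1,0,3,2,1,6,3,2,0,2,1,0,1,3,2,3,4,2,3,2,1,5,6,2,3])) .none) (.node (.node .none (.word [2,3,5,6,1,0,1,2,3,4,1,3,2,3,0,1,2,0,1,6,5,3,2,3,4])) .none)) (.node (.node (.node .none (.word [0,2,1,4,3,2,3,5,6,1,2,0,1,6,1,5,4,1])) (.word [2,3,2,6,1,0,1,6,2,3,2,1,5,4,3,1,2,1,0,1,5,2,1])) .none))) (.node (.node .none (.node (.node .none (.word [3,4,3,5,0,1,5,6,1,2,3,5,1,0,1,6,5,2,3,4,1,2]))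 (.node .none (.word [5,2,1,0,3,6,1,2,5,1,5,6,1,5,2,3,2,1,6,5,1])))) (.node (.node (.word [3,2,3,2,1,0,5,1,6,2,3,2,1,2,1,3,2,1,3,5,6,4,1,2,3,1,2,1,0,1]) (.node .none (.word [3,2,3,6,5,1,0,1,2,3,1,2,3,2,1,4,3,2,1,0,1,5,6,3,2,3]))) (.node (.node (.node .none (.word [0,2,5,1,2,3,2,1,0,4,1,2,3,1,0,5,4,1,0,1,2,3,2,1,5,4,1])) .none) (.node (.node .none (.word [2,1,3,2,1,3,2,4,3,6,1,0,1,2,1,3,4,2,3,1,2,0,1,5,4,2,0])) .none))))))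

/-- A subtree. -/
def sub131 : WTree :=
  (.node (.node (.node (.node (.node (.word [2,4,3,6,5,1,0,1,2,3,0,1,4,3,2,1,0,1,6,3,2,3,4,2]) (.node .none (.word [2,4,3,2,6,5,1,0,1,6,2,3,2,1,0,2,5,1,2,4,3,2,0,1,5,1,2,0]))) (.node (.word [1,0,4,5,1,0,2,1,3,5,4,2,6,1,0,1,6,1,5,2,3,2,1,0,1,5]) (.node (.node .none (.word [6,5,1,0,2,1,3,4,5,1,3,2,1,5,0,1,2,3,2,1,0,1,6,2])) .none))) (.node (.node (.node (.word [1,3,6,5,1,2,3,2,1,5,6,2,1,2,6,1,0,4,3,2,1,5,0,1,2,3,2]) (.word [2,3,2,1,5,1,2,3,4,3,2,1,0,1,5,2,3,2,1,6,1,2,3,2])) .none) .none)) (.node (.node (.node .none (.node (.node (.word [0,6,1,0,2,3,2,5,1,5,6,1,2,3,2,1,5,6,1,5,0]) (.word [3,5,2,1,6,1,0,2,1,0,3,4,3,1,2,3,2,1,6,4,2,1])) .none)) (.word [0,2,1,4,3,2,1,3,2,4,3,1,2,3,5,1,6,4,1,2,3,2,1,5,2,0,1])) (.node .none (.node .none (.node .none (.word [4,5,1,2,3,2,1,4,5,0,1,2,3,2,1,5,4,2]))))))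 (.node (.node (.node .none (.node (.node (.node .none (.word [4,3,6,1,0,1,2,3,4,1,0,3,2,1,5,3,2,1,6,2,3])) .none) (.node .none (.word [2,6,1,0,2,1,3,2,4,3,2,3,1,2,0,1,6,5,4,2,3])))) .none) (.node (.node .none (.node (.node .none (.word [2,1,0,5,1,6,3,2,3,1,2,0,1,6,1,5,1])) .none)) (.node .none (.node (.node (.node .none (.word [0,6,1,0,1,0,2,3,4,2,3,2,1,0,1,5,6,1,2,3,1,6,2,1,5,3,4,1,2,3])) (.word [0,1,0,2,1,5,1,0,2,3,1,2,1,2,6,1,5,4,3,2,1,6,5,2,3,4,2])) (.node (.node (.word [5,6,1,2,3,2,1,5,6,1,5,2,3,2,1,6,0,1]) (.word [2,1,0,1,0,3,2,1,5,6,4,1,2,3,0,1,2,3,4,3,1,2,0])) (.word [3,2,4,3,2,1,5,1,2,3,2,6,1,2,3,4,5,3,0,1,2,1,0,1,5])))))))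

/-- A subtree. -/
def sub132 : WTree :=
  (.node (.node (.node (.node (.node (.word [2,3,2,5,1,2,3,2,0,6,1,2,3,2,1,4,3,0,1,2,3,4,2,3,1]) (.node .none (.word [4,3,6,1,0,1,2,3,4,5,6,1,0,5,2,1,6,2,3,2,1]))) (.node (.node (.node .none (.word [2,1,0,6,1,2,3,4,2,0,1,6,0,1,3,2,1,5,3,2,1,0,1,5,3,4,2,3])) (.word [0,3,6,1,0,1,2,3,4,2,3,1,0,1,2,3,2,1,5,4,3,2,0,1,6,2])) .none)) (.node (.node .none (.node (.word [0,3,2,6,1,0,1,2,3,4,1,2,3,0,1,2,0,1,6,4,2,3,0]) (.word [2,6,1,0,2,1,3,2,3,4,1,6,2,3,2,6,1,2,6,1,0,1,2,3,4,2]))) (.node (.node (.node .none (.word [3,5,1,0,1,2,3,4,1,2,1,0,5,6,1,2,3,5,6,1,2,0,1,5,6,3,1,2,0])) .none) .none))) (.node (.node (.node (.node (.word [2,6,1,2,3,4,2,0,5,6,1,0,1,6,3,2,0,1,5,3,4,2]) (.node .none (.word [0,1,0,1,2,3,1,2,1,2,6,1,2,3,4,5,6,1,2,3,2,1,6,0,1,2,1,0]))) (.node (.node .none (.word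 [0,1,3,2,4,3,2,1,3,5,0,1,2,3,4,2,3,2,1,5,2,0])) .none)) (.node .none (.node (.node .none (.word [4,1,0,6,1,2,3,5,1,6,2,1,5,4,3,2,1,6,4,0,1])) .none))) (.word [3,4,5,0,2,1,3,6,5,1,2,5,0,1,6,3,0,1,2,3,4,0]))) (.node (.node (.node (.node (.node (.node .none (.word [0,2,3,2,5,1,0,2,1,3,4,5,6,2,1,5,6,1,2,3,1,6,5,2,3,1,2,3,4])) (.node .none (.word [1,0,2,1,0,3,5,1,0,1,4,6,1,5,2,1,6,3,4,2,3,2,1,5,6,1]))) (.node (.node .none (.word [2,1,3,2,1,3,2,1,0,1,0,5,2,3,5,1,5,6,4,3,2,1,0,1,6,2,3,1])) (.word [2,4,3,6,1,2,3,5,1,2,3,6,0,2,1,0,5,1,4,3,2,3,2,1,6,1,5,2,1,0]))) (.node (.node (.word [2,4,3,5,6,1,0,2,3,1,5,1,2,6,1,5,4,2,3,2,1,6,0,1]) (.word [2,1,0,1,3,2,1,3,5,1,2,3,1,0,5,1,5,4,3,2,3,1,2,3])) .none)) (.node (.node (.node (.node .none (.word [1,2,4,5,1,2,3,2,3,4,1,5,1,3,6,5,2,1,6,3,2,1,5,4,3,1])) (.node .none (.word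 [4,3,2,3,2,1,5,1,4,6,1,2,5,3,2,1,6,5,3,4,2,3,2]))) .none) (.node (.node .none (.node (.word [1,2,3,5,1,2,3,2,4,6,1,5,3,2,0,1,6,5,1,6,2,3,4,2,1]) (.word [3,4,3,5,0,2,1,0,1,6,1,0,1,2,3,4,2,3,1,0,1,2,0,1,6,1]))) (.node (.word [2,1,4,5,6,1,2,3,4,2,3,2,5,1,2,0,1,5,6,1,5,3,2]) (.word [4,6,1,0,5,1,0,1,2,3,2,1,5,0,1,5,6,2,3,4,2,3]))))) (.node (.node (.node (.node (.node .none (.word [1,2,3,2,1,3,5,1,0,1,2,1,2,3,2,4,3,2,1,6,0,1,5,2,3,4,1,2,3,2])) .none) .none) (.node (.word [1,0,2,3,2,6,1,5,6,1,2,3,2,1,2,6,1,5,4,3,2,1,5,6,3,4,2,3]) (.word [0,3,4,3,2,1,0,1,3,2,5,1,4,3,2,1,5,6,3,2,3,4,1,2,3,2]))) (.node (.node (.node .none (.word [1,2,5,1,0,1,2,3,4,6,1,2,3,1,6,2,1,5,2,3,1,2])) (.node (.word [1,2,5,1,2,3,2,6,1,5,3,2,0,1,6,1,2,3,4,3,2,1,5,1,6,2,1,5]) (.word [0,3,2,4,3,2,1,0,5,1,6,2,3,1,0,1,2,4,3,2,1,5,1,6,2,3]))) (.node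 (.node (.node (.word [5,6,1,0,1,2,3,4,2,3,2,1,3,2,3,1,2,1,0,1,6,5,3,2]) (.word [1,0,1,2,1,3,4,3,2,3,4,1,2,3,6,1,2,0,1,6,3,2,3,4,1])) .none) (.node (.word [6,1,0,5,1,0,2,3,2,1,6,5,1,6,2,3,2,1,5,0,1,6]) (.word [0,1,0,2,1,3,2,3,4,5,2,1,6,1,2,1,3,2,1,3,5,6,1,2,3,2,1,0,1])))))))

/-- A subtree. -/
def sub133 : WTree :=
  (.node (.node (.node (.node (.node .none (.node (.node .none (.word [0,5,1,0,2,3,2,4,3,2,1,0,1,6,1,2,3,2,1,0,5,1,2,3,4,3,1,2,1])) .none)) (.node (.node (.node .none (.word [1,2,5,1,0,2,1,5,2,0,1,2,1,3,2,1,6,4,3,1,2,3,1,2,3,1])) (.word [3,2,1,3,6,5,1,2,3,4,0,1,5,2,3,2,1,6,5,1,2,0])) .none)) (.node (.node (.node .none (.node .none (.word [0,1,2,4,3,2,1,6,5,1,6,2,3,5,1,2,6,0,1,6,5,4,3,2,3,4,1,0]))) .none) .none)) (.node (.node .none (.node (.node .none (.node .none (.word [5,6,1,0,1,2,3,4,6,5,1,0,3,2,1,6,3,2,0,1,5,0,1,0])))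 .none)) (.node (.node .none (.node (.node .none (.word [6,1,2,3,2,3,4,5,3,2,6,1,5,6,2,3,1,2,0,1,5,4,3])) .none)) .none))) (.node (.node (.node .none (.node (.word [2,5,6,1,0,2,1,3,2,3,4,1,6,1,2,3,2,6,1,2,0,1,6,3,2,1,5,3,2,1,6]) (.node (.node (.word [0,1,0,1,4,3,2,3,4,1,2,1,2,3,4,6,1,5,1,2,3,2,1,6,0,1,2,0,1]) (.word [3,2,3,6,5,1,0,1,2,3,1,2,0,6,1,2,5,6,1,0,1,4,3,2,3,1,2,0,1,6,1])) .none))) (.node .none (.node (.word [3,2,3,2,1,0,5,1,2,3,4,6,2,1,5,6,1,2,3,2,3,1,2,3,2,1,6,5,1]) (.word [2,1,0,1,3,4,5,1,2,3,2,3,4,3,1,2,0])))) (.node (.node (.node (.node (.word [2,3,2,1,0,1,2,3,4,5,1,0,1,2,6,1,0,1,3,2,1,5,3,4,3,1,0,1,2,1]) (.word [4,3,2,3,2,5,1,2,6,0,1,5,2,1,6,3,2,3,4,3])) (.node .none (.word [3,2,1,4,5,6,1,2,3,1,6,5,1,6,1,2,3,2,1,4,3,0,1,2,3,4,2,1,0]))) (.word [3,0,1,0,6,1,2,3,4,5,1,2,3,2,1,5,6,3,1,2,0])) (.node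 (.node (.node .none (.node .none (.word [1,2,1,3,2,1,0,1,6,1,5,1,2,3,0,1,2,0,1,5,2,1]))) .none) (.node .none (.node .none (.word [1,0,6,1,2,3,5,2,1,6,5,1,2,3,2,1,6,5])))))))

/-- A subtree. -/
def sub134 : WTree :=
  (.node (.node sub130 sub131) (.node sub132 sub133))

/-- A subtree. -/
def sub135 : WTree :=
  (.node (.node (.node (.node (.node .none (.word [5,6,1,2,3,2,3,5,1,2,3,0,1,5,4,3,1,0,2,1,0,1,5,6,1,2,3,2,1,0])) (.word [3,4,3,6,1,0,5,1,2,1,3,4,2,0,1,5,3,2,0,1,6,3,4])) (.node .none (.node .none (.word [1,2,3,2,4,3,2,5,1,0,1,5,0,6,1,2,5,1,0,1,5,3,2,1,6,4,3,0,1])))) (.node (.node (.node (.node (.word [1,2,3,5,1,2,1,5,3,1,2,1,0,6,1,0,1,2,4,3,2,3,4,3,2,3,1]) (.node (.word [1,2,5,1,6,5,1,2,3,4,5,1,2,1,0,1,2,5,3,2,1,6,5,3,1,2,3,1,2]) (.word [2,4,3,2,5,1,0,2,1,5,6,3,1,0,6,1,0,2,1,5,4,3,2,1,6,2,0,1,5]))) (.word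 [2,3,2,1,3,5,4,3,2,1,5,3,2,1,6,5,1,2,3,4,2,3,2])) (.node .none (.node (.node .none (.word [1,2,5,1,0,2,1,5,2,6,1,0,2,1,3,2,1,0,1,6,3,2,1,5,1,6])) (.word [0,1,6,5,1,2,3,2,1,5,1,0,1,6,1,2,3,2,1,5,6])))) (.node (.node (.node .none (.node .none (.word [4,3,2,1,3,2,3,4,1,2,1,2,1,3,2,1,5,6,1,2,3,2,0,1,0,1,0]))) .none) .none))) (.node (.node (.node (.node (.node (.word [3,2,4,3,2,3,5,1,2,3,4,2,0,1,5,6,1,2,3,2,6,1,2,0,1,6,1,5,3,4,1,2]) (.word [1,2,1,3,4,5,1,6,1,2,3,2,1,0,1,5,4,3,1])) .none) .none) (.node (.node (.node .none (.word [3,4,3,5,0,1,0,2,5,1,2,3,2,0,1,5,2,3,4,3,2,1,0])) (.node .none (.word [2,1,0,1,2,3,4,6,1,2,1,0,1,6,3,2,1,0,1]))) .none)) (.node (.node .none (.node .none (.node .none (.word [3,2,4,5,6,1,2,3,2,0,1,6,1,0,3,5,2,1,5,2,3,4,1,2,3,0])))) (.node (.node .none (.node (.node .none (.word [2,1,0,1,2,3,4,5,2,1,6,2,1,2,3,2,6,1,5,6,4,3,2,1,5,2,3,1,0,1]))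 .none)) .none))))

/-- A subtree. -/
def sub136 : WTree :=
  (.node (.node (.node (.node (.node (.node (.word [1,6,1,2,3,2,5,1,6,3,2,3,0,5,1,0,1,5,4,2,3,2,3,4,3,1]) (.word [3,4,3,2,1,5,6,1,2,3,4,2,3,0,1,6,2,0,1,5,2,3,1,2,0])) (.node .none (.word [2,1,0,1,0,4,5,1,6,2,6,1,2,3,2,1,4,3,2,1,6,5,1,2,3,2,0,1]))) (.node .none (.word [3,2,1,0,3,2,4,3,4,1,2,3,6,1,0,1,5,1,6,4,3,2,3,0,1,2,3]))) (.node .none (.node (.node .none (.word [0,6,1,0,1,0,2,3,4,2,3,1,0,1,5,0,1,2,3,2,1,5,6,3,4])) .none))) (.node (.node (.node .none (.word [1,2,3,2,1,6,5,1,6,2,3,1,0,6,1,6,4,0,1,2,3,2,0,1,5,6])) (.node .none (.node .none (.word [4,3,0,1,2,3,2,4,5,6,1,2,0,1,5,6,3,2,3,4,2,1,0])))) (.node (.node (.node (.node .none (.word [0,3,4,3,2,1,3,2,3,4,3,6,5,1,2,1,0,1,5,6,2,3,1,2,3])) .none) .none) (.node (.node (.node .none (.word [3,2,4,3,5,1,2,3,4,5,6,2,1,0,1,2,3,2,1,5,6,4,1]))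 (.node .none (.word [3,5,1,6,5,1,2,3,2,1,5,6,3,4,5,1,6,2,3,2,1,5,4,3,2,3,4,1]))) .none)))) (.node (.node (.node (.node (.node .none (.node .none (.word [4,2,1,0,3,6,1,0,1,2,3,4,1,2,3,2,1,6,1,5,2]))) .none) (.node .none (.node .none (.word [5,1,6,5,1,2,3,4,3,2,1,5,6,3,2,1,0,6,2,1,6,2,3,2,1,5,0,1,6])))) (.node (.node (.node (.word [0,2,1,3,6,5,1,2,3,4,2,1,5,3,2,1,6,3,0,1,0]) (.node .none (.word [1,0,1,2,4,3,1,2,1,5,1,2,3,4,0,1,2,3,2,1,5,1,0]))) (.word [5,1,2,3,2,1,3,4,5,1,0,3,6,1,2,1,6,5,4,3,1,2,0,1,6,4,2])) (.node (.node .none (.word [2,1,0,6,1,2,3,2,1,6,5,1,6,2,3,2,1,0,1,5,2])) .none))) (.node (.node .none (.node (.node .none (.node .none (.word [0,1,2,1,0,3,4,5,1,2,3,4,1,5,1,2,3,0,1,6,5,2,1,6,2,3,2,3,1]))) (.node (.node .none (.word [0,2,4,5,1,0,1,2,3,5,2,1,6,2,1,2,6,5,1,2,4,3,2,1,5,6,3,4,1,0])) .none)))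 (.node (.node (.node (.node .none (.word [1,2,5,1,0,1,2,3,4,5,1,2,3,2,5,6,1,0,1,6,2,3,2])) .none) (.word [4,3,2,1,5,6,1,2,3,4,1,6,5,2,1,0,3,6,1,5,2,0,1,6,3,2,3,1,0])) .none))))

/-- A subtree. -/
def sub137 : WTree :=
  (.node (.node (.node (.node (.node (.node .none (.node .none (.word [1,3,2,1,6,1,0,1,2,3,4,2,1,6,2,3,5,1,6,2,1,5,1,2,3,0,1,2,1]))) (.word [3,5,1,0,1,2,3,4,1,2,1,2,3,2,6,1,5,2,0,1,6,2,3,2,0,1])) (.node (.node .none (.node (.word [2,1,3,2,3,4,1,2,1,0,6,1,2,3,2,1,5,0,1,6,2,3,4,0,1,0]) (.word [2,3,2,1,6,5,1,0,5,1,2,3,2,1,0,1,3,4,2,3,1,2,1,0,1,0]))) (.node .none (.word [2,1,3,2,3,1,2,0,1,2,3,2,4,5,6,1,2,0,1,5,6,3,2,3,4,2,3,1])))) (.node (.node (.node (.node .none (.word [4,3,2,1,3,2,3,4,1,3,2,1,5,6,1,2,5,3,2,1,6,5,1,2,3,2,3])) .none) (.node .none (.word [2,1,0,1,2,3,5,1,2,3,1,6,2,1,0,3,4,5,1,5,3,2,3,4,2,3,1,2,3,0])))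 (.node (.node .none (.node .none (.word [0,1,0,1,2,1,3,2,3,4,6,1,0,5,1,2,3,2,1,5,6,3,2,3,1]))) .none))) (.node (.node (.word [0,6,1,0,2,3,4,5,1,2,1,2,1,0,1,3,2,1,6,5,1,2,3,0,1,2,3,4,0,1]) (.node (.node (.node .none (.word [0,4,3,2,3,6,1,5,2,1,6,2,1,5,3,2,1,0,1,5,3,2,3,4,3,0])) .none) .none)) (.node .none (.node (.node .none (.word [2,1,6,5,1,2,3,2,0,1,5,6,1,2,1,0,2,1,3,4,2,3,2,3,1,2,3,0,1,0])) (.node .none (.word [1,0,2,1,4,3,2,3,2,1,5,1,6,1,2,3,2,4,3,1,2,3,4,1,2,3,2,0,1])))))) (.node (.node (.node (.word [2,1,0,1,2,3,4,5,2,1,6,1,0,3,6,1,5,2,3,1,2,3,2,1,5,6,1,2]) (.node .none (.node (.node (.word [3,2,1,3,2,1,0,1,6,5,3,1,0,3,4,3,2,3,4,1,2,3,0,1,2,3]) (.word [2,3,2,1,3,5,1,2,3,2,1,2,3,4,5,1,6,0,1,2,3,2,1,5,2,0,1])) (.word [2,5,6,1,0,1,2,3,4,1,5,1,3,5,1,2,3,2,1,5,2,1,0,1,6,4,0])))) (.node .none (.node (.node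 (.node (.word [1,4,3,2,3,6,1,0,2,1,6,2,4,5,3,1,2,0,1,5,3,0,1,0]) (.word [])) .none) .none))) (.node (.node .none (.node (.node .none (.word [3,2,3,6,5,1,0,1,2,3,4,3,6,1,2,1,5,6,3,2,3,1,0,1,2,3,0])) (.node (.word [0,1,2,1,6,1,0,1,2,3,2,3,1,6,0,1,2,6,5,4,3,2,1,0,1,6,1,2,3,1]) (.word [1,0,1,0,3,4,6,1,2,3,2,1,5,6,4,3,1,2,0,1,6,1,0])))) (.node (.node (.node .none (.node .none (.word [4,5,2,3,2,1,4,3,2,6,5,1,6,2,3,4,1,2,3,2,0]))) .none) .none))))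

/-- A subtree. -/
def sub138 : WTree :=
  (.node (.node (.node (.node (.node (.node .none (.word [4,5,1,2,3,2,1,6,0,1,2,3,2,3,4,3,1,2,0,1])) .none) .none) (.node (.node .none (.word [1,2,4,3,2,5,1,2,3,2,3,5,0,1,2,1,3,2,1,6,4,1,0,1,2,3,2,1,6,5])) (.node (.node .none (.word [0,5,1,0,1,2,3,1,2,1,0,1,2,6,1,2,3,5,4,2,3,2,1,5,6,2])) (.node .none (.word [0,3,2,1,0,1,3,2,1,5,4,3,2,6,1,0,1,6,3,0,1,2,3,4,3,2]))))) (.node (.node (.node (.node .none (.node .none (.word [0,1,3,2,5,1,6,1,5,1,2,0,2,5,1,2,3,4,2,3,2,1,5,1,2,3,4]))) (.node (.node .none (.word [4,3,0,2,1,0,3,6,1,2,0,1,5,6,1,5,6,3,4,2,3])) .none)) (.node (.node .none (.node .none (.word [0,2,1,3,5,1,2,3,4,1,5,0,1,6,1,0,2,3,1,5,4,0,1,2,1,0,1,0]))) (.node (.node .none (.word [4,0,1,5,6,1,2,3,2,3,1,2,3,2,1,6,5,4,1,0])) (.word [3,4,3,2,1,3,2,1,5,3,1,6,1,0,2,3,2,1,6,0,1,5,2,3,4,3,0]))))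 (.node (.node (.node .none (.word [2,1,4,5,6,1,2,3,2,1,6,5,6,1,0,1,5,4,3,2,0,1,6,5,1,6,3,2])) .none) .none))) (.node (.node (.node (.node (.node .none (.node .none (.word [5,1,0,2,1,3,6,1,5,2,1,6,5,2,1,6,3,2,1]))) .none) (.node (.node (.node .none (.word [2,1,0,1,0,5,1,6,2,0,2,1,3,2,4,3,6,1,2,5,0,1,6,2,3,4,3,0,1,2])) .none) .none)) (.node (.node (.node (.node .none (.word [2,6,1,0,2,1,3,2,4,3,1,6,2,1,0,3,2,1,5,1,2,3,4,1,2,3,0])) .none) (.node (.node .none (.word [0,1,2,3,2,1,6,5,1,0,1,6,1,2,3,4,2,1,5,6,3,1,2,3,1,0,1,0])) .none)) (.node (.node .none (.node (.word [1,2,1,0,1,0,6,1,2,3,4,1,2,3,1,2,0,1,0,1,6,3,4,1,2,1]) (.word [1,2,3,2,3,5,1,0,2,1,5,1,3,4,6,1,2,3,2,1,0,1,5,6,3,4,2,3,2]))) (.word [0,2,1,4,3,2,1,3,2,4,3,5,1,2,3,2,1,6,5,1,6,3,2,3,2,1,5,0])))) (.node (.node .none (.node .none (.word [2,1,3,2,1,3,2,3,4,1,0,2,1,0,3,2,1,3,6,4,0,1,2,3,0,1,2,0,1])))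 (.node (.node (.node .none (.word [3,4,3,6,1,0,5,1,0,1,2,1,0,3,6,1,2,0,1,5,1,6,3,4,1,2])) (.node (.node (.word [6,1,0,5,2,1,3,2,4,3,2,0,1,5,2,0,1,6,4]) (.word [0,2,1,0,1,3,2,3,4,5,6,1,2,5,3,2,1,0,1,5,6,4,1,2])) .none)) .none))))

/-- A subtree. -/
def sub139 : WTree :=
  (.node (.node sub135 sub136) (.node sub137 sub138))

/-- A subtree. -/
def sub140 : WTree :=
  (.node (.node (.node (.node .none (.node (.node (.node .none (.word [2,4,3,6,5,1,0,2,1,5,4,6,1,0,1,2,3,2,0,1,5,6,4,3,2])) (.word [4,3,0,2,1,3,2,4,3,6,1,2,6,5,1,6,3,4,2,3,0,1,2,3])) .none)) (.node (.word [1,0,3,5,1,2,3,2,1,5,6,1,4,2,3,2,1,6,3,1,0,1,0]) (.node .none (.node (.node (.word [0,2,1,4,3,2,4,5,3,2,1,5,4,3,0,1,2]) (.word [2,6,1,0,2,1,0,5,3,2,1,0,1,2,1,6,1,0,1,2,3,2,1,6,3,4,3,2,1,0,1])) .none)))) (.node (.node .none (.node (.node .none (.word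 [5,1,6,1,0,2,1,3,4,6,2,3,1,2,1,0,1,6,3,4,0,1])) (.word [1,4,3,2,3,2,4,3,2,1,0,1,6,0,1,5,3,2,3,2,1,5,2,3,1,2,1]))) (.node (.node (.node .none (.node .none (.word [0,3,2,4,3,6,1,5,2,1,6,3,1,0,5,1,2,3,4,2,3,1,2,0,1,5,1]))) .none) (.node (.node (.node .none (.word [4,3,5,0,1,2,1,6,5,1,2,6,3,1,2,0,1,5,6,2,3,4,1])) (.node .none (.word [3,4,3,5,1,2,1,6,5,1,2,3,2,0,1,5,6,2,3,4,3,2,1]))) .none)))) (.node (.node (.node (.node (.node .none (.word [2,1,3,2,1,3,2,4,3,0,1,5,6,1,2,3,1,0,1,6,2,1,5,6,3,4,1,2])) (.word [2,4,3,5,1,0,1,0,2,1,6,2,4,3,2,1,5,1,6,2,3,4,1,2,3,2,3,4])) (.node (.node .none (.node (.word [2,1,0,1,0,5,1,2,3,6,2,1,0,1,3,2,3,4,2,3,2,1,6,2,3,0]) (.word [0,1,2,3,4,6,5,1,2,3,2,0,1,5,6,4,2,1,0]))) (.node (.word [1,4,6,1,2,3,2,1,0,2,3,4,3,1,2,0,1,6,1,5,2,3]) (.word [1,3,2,1,3,2,4,6,1,6,0,3,2,6,1,5,6,2,3,1,2,0,1,5,3,4]))))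 (.node (.node (.node (.node .none (.word [1,0,1,3,2,1,3,2,3,1,0,1,2,3,2,4,3,6,1,5,2,3,2,1,6,4,2,3,2])) .none) (.node (.node .none (.word [0,2,1,3,2,5,3,1,2,0,1,6,2,1,5,2,1])) (.word [0,5,1,0,1,2,3,1,2,1,0,1,2,6,1,0,2,3,4,3,2,1,5,6,2]))) (.node (.node (.node .none (.word [0,2,1,3,2,1,0,1,6,4,3,0,1,2,3,4,3,1,2,0])) .none) .none))) (.node (.node (.node (.node (.node .none (.word [1,2,3,2,4,3,2,1,0,1,5,6,0,2,1,3,5,2,3,2,1,6,2,1,5,4,2,1,0])) .none) .none) (.node (.node (.node .none (.word [0,1,2,3,5,1,2,3,2,4,1,5,3,6,1,2,5,1,6,1,5,1,6,3,4,2,3,1])) .none) (.node .none (.word [3,4,3,0,1,2,3,2,4,6,5,1,3,2,1,6,5,3,4,2,3,2,1,0])))) (.node (.node .none (.word [0,6,1,0,1,2,1,3,4,5,1,0,1,2,6,1,0,1,2,3,5,1,2,3,2,1,6,4,3,2,1])) (.word [2,3,2,3,5,1,2,3,6,1,0,2,1,5,4,3,0,1,2,1,0,1])))))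

/-- A subtree. -/
def sub141 : WTree :=
  (.node (.node (.node (.node (.node (.node .none (.word [0,2,4,3,2,1,5,2,3,2,1,6,1,2,3,4,5,3,1,2,3,2,1,0,1,6,1,2])) .none) (.node (.word [0,2,1,3,2,1,0,1,6,3,2,0,1,0,2,1,3,4,2,3,0,1,2,3,4,1,0,1]) (.word [1,3,2,1,0,5,1,0,1,5,4,2,3,2,0,5,1,0,6,1,5,6,2,3,4,2,3,2,1]))) (.node (.node (.node (.node .none (.word [1,2,3,2,4,3,2,1,0,1,6,0,1,0,5,1,0,2,1,5,3,4,2,3,2,3,1])) .none) (.word [0,2,3,2,6,1,0,5,1,2,3,4,3,2,6,1,2,3,2,1,6,5,1,2,3,4,2,0])) .none)) (.node (.node (.node (.node .none (.node (.word [4,1,2,3,2,4,5,6,1,2,0,1,6,1,5,2,3,4,2,1]) (.word [1,0,1,2,3,4,6,1,2,0,1,6,2,3,2,1,0,1,2]))) (.node .none (.word [3,2,4,3,2,5,6,1,2,3,5,2,6,1,0,1,5,0,1,2,3,2,3,4]))) (.node (.node .none (.node .none (.word [3,2,1,0,1,0,4,3,2,3,1,6,4,5,1,2,3,4,2,3,1,0,1,2,0]))) .none)) (.node (.node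 (.node (.node .none (.word [0,1,6,5,1,2,3,2,1,5,4,3,2,0,1,5,6,1,2,3,2,1])) (.node .none (.word [1,5,6,1,0,2,1,6,3,2,1,5,2,3,0,1,2]))) .none) .none))) (.node (.node (.node (.node .none (.node (.word [2,1,3,5,1,0,1,2,3,4,5,1,2,0,1,0,2,5,1,6,5,1,6,3,2,3,2,1,0,1,5]) (.word [4,2,1,0,3,6,1,2,0,1,5,1,6,1,5,3,4,2]))) (.node .none (.node .none (.word [4,3,5,1,6,1,0,1,2,1,3,5,4,2,3,1,2,0,1,6,0,1])))) (.node (.node (.node .none (.node .none (.word [5,1,0,1,0,2,3,5,1,2,1,3,4,2,3,2,1,5,4,3,2,3,0]))) .none) .none)) (.node (.node (.node .none (.word [3,2,1,0,4,3,2,1,0,5,1,6,3,2,1,0,2,1,5,4,3,2,3,2,1,6,4,3])) (.node (.node (.word [4,3,2,1,3,2,1,3,2,4,3,2,1,3,4,6,2,1,6,5,3,2,1,6,4,3,2,0]) (.node .none (.word [2,3,5,1,0,1,2,3,5,1,2,3,2,6,1,2,5,4,3,2,3,4,1,2,3,0,1,0]))) (.node .none (.word [1,2,4,5,1,0,1,2,3,1,2,1,0,1,5,4,2,3,1]))))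 (.node (.node (.node .none (.node .none (.word [0,1,3,2,1,3,2,4,5,3,2,1,5,1,0,3,2,1,3,6,4,1,2,3,0,1,2,3,0,1,0]))) (.node .none (.word [4,3,2,3,6,1,0,2,3,1,2,3,6,1,0,2,3,4,3,2,1,5,6,2,3,4]))) .none))))

/-- A subtree. -/
def sub142 : WTree :=
  (.node (.node (.node (.node (.node .none (.word [5,0,1,2,3,2,1,4,3,5,2,3,1,2,3,4,3,2,3,0,1])) (.node (.node (.node .none (.word [1,3,4,3,2,5,1,2,3,2,1,6,4,0,1,2,3,2,0,1,5,6,2,1])) .none) .none)) (.node (.node .none (.node (.node .none (.word [1,2,3,2,1,3,5,1,0,1,2,1,0,2,3,2,4,3,2,1,6,2,3,4,3,0,1,2,3,2])) .none)) .none)) (.node (.node (.node (.node (.node .none (.word [1,4,3,2,3,5,6,1,2,5,6,3,1,2,0,2,1,0,3,4,2,3,2,1,5,6,1,2,3,2,0,1])) .none) .none) (.node (.node .none (.word [1,4,3,2,5,1,0,1,5,1,3,6,1,2,0,1,6,2,3,4,2,3,1,2,0,1])) .none)) (.node (.node (.word [1,0,2,1,3,2,4,3,2,3,0,1,2,6,5,4,1,2,3,2,1,5,4])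 (.node (.node .none (.word [1,5,6,1,0,2,1,6,1,5,4,3,2,3,4,1,2,0])) .none)) (.node (.node .none (.node (.word [0,1,2,5,1,6,5,1,2,3,5,6,1,0,2,4,3,2,1,5,6,1,5,6,2,1,0]) (.word [0,2,6,1,2,3,4,3,2,0,1,5,1,2,3,2,0,1,6,4,2,0]))) .none)))) (.node (.node (.node (.node .none (.node (.node (.word [1,0,3,2,4,3,2,1,5,1,2,3,1,0,1,2,6,5,1,2,3,4,3,2,1]) (.word [1,2,4,5,1,6,5,1,2,3,5,1,0,2,6,1,5,4,3,0,1,2,3,0,1,2])) .none)) (.node (.node (.node .none (.word [2,4,3,2,6,1,2,3,4,5,0,2,3,1,0,1,5,1,2,0,1,6,3,4])) (.node (.word [1,2,3,6,1,0,2,1,6,3,1,0,5,1,2,1,5,3,2,1,6,2,3]) (.word [4,5,2,1,3,6,5,1,2,5,0,1,6,3,4,0,1,2]))) .none)) .none) (.node (.node (.node .none (.node (.node .none (.word [2,5,1,0,2,1,3,2,3,4,5,2,6,1,5,3,2,1,5,3,2,0,1,6,2,1])) .none)) (.node (.node (.node .none (.word [1,0,1,2,3,4,3,1,2,6,1,0,2,1,5,3,2,1,6,1,5,3,2,1,6]))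 .none) (.word [1,2,1,3,4,3,2,1,3,0,1,2,4,5,1,3,2,1,0,1,5,1,2,3,4,3]))) (.node (.node (.node .none (.node .none (.word [3,2,4,3,5,6,1,0,1,2,3,0,6,1,0,2,3,4,3,2,1,6,0,1,5,2,3]))) (.node (.node .none (.word [4,0,1,2,6,5,1,2,3,2,0,1,5,6,4,3,2,1,0])) .none)) .none))))

/-- A subtree. -/
def sub143 : WTree :=
  (.node (.node (.node (.node (.node (.node (.node .none (.word [2,1,5,1,6,1,2,3,2,1,4,6,5,3,2,3,5,6,4,1,2,3,2,1,6,1,5,1,2])) .none) .none) (.node (.node (.node .none (.word [0,3,2,1,5,6,1,0,2,1,6,5,2,3,2,1,6,5,4,1,2,3,2,1,5,1,6])) .none) (.node (.node .none (.word [6,1,2,3,2,3,4,5,1,2,0,1,0,2,3,2,1,5,0,1,6,2,3,4,2])) .none))) (.node (.node (.node (.node .none (.word [3,2,3,2,4,3,6,1,0,1,2,3,2,1,6,5,4,3,2])) .none) .none) (.node (.node (.node .none (.word [2,4,3,2,1,5,1,0,1,6,1,4,3,2,1,0,1,5,3,2,1,6,4,2,3,2]))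 .none) (.node .none (.word [6,1,5,1,2,3,4,0,1,2,3,2,3,1,2,0,1,5,1,6]))))) (.node (.node (.node .none (.node .none (.word [4,5,2,6,1,2,3,5,4,2,3,2,1,6,5,4,2]))) (.node .none (.word [2,1,4,5,6,1,2,3,4,2,3,5,6,1,0,1,6,2,1,5,3,1,2,0]))) (.node (.node (.node .none (.node .none (.word [2,1,0,6,1,2,3,2,0,1,6,0,1,6,1,5,1,2,3,4,2,3,2,1,5,6,2]))) .none) (.node (.node .none (.node .none (.word [0,2,1,4,5,6,1,2,1,6,5,2,3,4,6,5,1,2,3,2,1,5,6,3,2,1,5,3,4]))) (.node .none (.word [2,1,3,2,1,3,2,4,3,2,3,2,4,3,6,1,6,5,2,3,4,1,0,1,2,3,2,0])))))) (.node (.node (.node (.node .none (.node (.node .none (.word [0,1,0,1,2,3,4,1,2,1,0,1,2,3,2,6,1,6,5,1,0,1,2,3,2,3])) (.word [3,6,1,0,1,2,1,3,4,5,0,3,2,3,4,1,2,3,2,1,5,6,4,3]))) .none) (.word [3,2,4,3,2,1,3,2,3,2,0,6,1,2,3,5,1,0,1,2,0,1,5,1,6,4,2])) (.node (.node (.node (.node (.node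 .none (.word [2,6,1,0,2,3,2,1,4,5,3,2,1,0,1,5,6,2,3,4,2])) .none) (.node .none (.word [1,5,6,1,2,3,2,5,1,6,1,5,2,1,6,2,0,1,5,3,2]))) (.node (.node (.node .none (.word [4,6,1,0,5,1,2,1,3,4,2,0,1,5,3,2,0,1,6])) (.node .none (.word [0,1,2,3,2,4,3,5,1,2,3,4,0,1,5,2,1,0,1,5,6,3,2,3,4,1,2,3,2,0,1]))) (.word [0,2,1,4,3,2,3,1,6,4,3,0,1,0,1,2,3,1,2,0]))) (.node (.node .none (.node .none (.word [3,4,5,1,0,5,1,0,1,2,3,2,1,0,1,5,4,0,1]))) (.node .none (.word [2,1,0,1,3,4,3,2,1,6,1,2,5,1,6,3,2,1,5,6,4,2,3,2]))))))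

/-- A subtree. -/
def sub144 : WTree :=
  (.node (.node sub140 sub141) (.node sub142 sub143))

/-- Points. -/
def levY2pts0 : List ℕ := [4,6,9,10,17,20,21,33,37,38,62,67,74,89,95,100,102,103,108,114,129,138,139,144,150,158,170,176,180,182,187,190,200,213,222,243,246,257,261,263,272,275,279,283,289,290,297,298,308,315,320,326,331,333,345,371,374,377,381,393,395,403,404,405,414,419,428,431,432,437,438,439,445,447,449,451,452,456,460,470,477,478,502,506,511,514,521,523,525,528,529,531,545,546,548,555,574,580,586,592,593,604,612,621,630,637,643,645,646,654,659,662,663,674,675,679,690,692,693,698,708,713,717,720,722,726,728,729,733,741,743,762,764,774,777,778,786,790,795,799,811,815,816,828,830,831,836,837,838,848,849,851,864,880,882,886,891,895,901,915,916,917,921,922,923,928,929,930,937,941,945,946,947,949,955,973,975,982,996,997,1002,1007,1014,1018,1022,1039,1046,1052,1063,1064,1075,1078,1087,1093,1099,1103,1106,1107,1110,1112]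

/-- Points. -/
def levY2pts1 : List ℕ := [1117,1128,1129,1131,1132,1145,1152,1155,1158,1159,1164,1166,1167,1175,1178,1181,1189,1196,1203,1207,1215,1216,1222,1228,1231,1234,1235,1237,1251,1256,1257,1266,1268,1270,1274,1292,1294,1296,1300,1302,1303,1311,1318,1320,1322,1325,1335,1336,1348,1351,1362,1363,1368,1373,1378,1383,1388,1390,1392,1393,1399,1405,1418,1423,1429,1438,1441,1444,1446,1453,1465,1475,1516,1522,1530,1532,1540,1541,1554,1556,1558,1561,1565,1569,1574,1579,1581,1584,1602,1614,1622,1625,1627,1633,1635,1643,1644,1647,1653,1655,1659,1662,1669,1676,1683,1687,1707,1709,1710,1721,1723,1727,1730,1733,1750,1757,1763,1767,1769,1775]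

/-- A level. -/
def levY2 : Level :=
  ⟨1237, (.node (.node sub129 sub134) (.node sub139 sub144)), levY2pts0 ++ levY2pts1⟩

/-- A subtree. -/
def sub145 : WTree :=
  (.node (.node (.node (.node (.node (.node .none (.word [3,2,3,5,1,0,1,2,3,4,5,1,0,1,2,0,6,1,2,5,3,2,1,6,0,1,2,3,4,3,2,1])) .none) .none) .none) .none) .none)

/-- A subtree. -/
def sub146 : WTree :=
  (.node (.node (.node (.node (.node (.node .none (.word [0,1,2,3,4,6,5,1,0,2,3,2,1,5,6,2,1,0,4,1,2,4,3,5,1,2,3,4,6,1,5,2,3,2,3,4,1,2,3])) .none) .none) .none) .none) (.node (.node .none (.node .none (.node .none (.node (.node .none (.word [])) .none)))) (.node .none (.node .none (.node .none (.word [3,4,3,2,3,2,1,0,5,1,6,1,4,3,5,1,2,3,0,1,2,3,4,3,2,0,2,3,2,1,5,0,1,6,5,3,2,3,4,2]))))))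

/-- A subtree. -/
def sub147 : WTree :=
  (.node (.node (.node .none (.node .none (.word [2,4,3,2,3,5,1,0,2,1,6,3,2,3,4,5,1,0,5,1,2,3,2,3,1,2,0,1,5,4,3,2,1,0]))) (.node .none (.node (.node (.node (.node .none (.word [0,2,3,6,1,0,2,3,4,1,0,1,3,2,3,1,0,1,2,0,1,6,3,2])) .none) .none) .none))) (.node (.node .none (.node .none (.node (.node (.node .none (.word [3,2,4,3,2,3,6,1,0,1,6,2,3,2,4,3,0,2,3,2,1,4,3,2,6,1,5,6,2,1,5,3,2,3,4,3,2])) .none) .none))) (.node .none (.node (.node .none (.word [3,4,5,0,1,2,3,2,1,4,0,1,2,3,2,1,5,2,3])) .none))))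

/-- A subtree. -/
def sub148 : WTree :=
  (.node (.node .none (.node (.node (.word [1,3,2,4,5,1,0,1,2,1,3,2,1,0,1,5,4,2,1,3,4,3,2,3,6,1,2,5,1,6,2,0,1,5,2,3,2,3,4]) (.node .none (.node .none (.word [0,2,4,3,2,6,1,0,1,6,5,2,3,2,1,2,1,0,4,3,1,2,3,1,2,0,1,6,4])))) .none)) .none)

/-- A subtree. -/
def sub149 : WTree :=
  (.node (.node sub145 sub146) (.node sub147 sub148))

/-- A subtree. -/
def sub150 : WTree :=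
  (.node (.node .none (.node (.node (.node .none (.node (.node .none (.word [4,3,2,3,6,1,0,5,1,2,3,0,1,2,6,1,2,3,4,5,1,2,3,2,1,5,2,3,4,3,1,0,1])) .none)) .none) (.node .none (.node (.node .none (.word [2,6,1,2,3,2,0,1,6,3,2,4,6,0,1,2,3,2,1,6,4,3,2,0])) .none)))) (.node (.node (.node (.node (.node .none (.word [3,2,1,4,3,2,3,1,2,0,1,0,6,1,0,1,2,3,4,2,3,2,1,6,5,1,6])) .none) .none) .none) (.node (.node .none (.node .none (.node (.node .none (.word [0,2,1,4,3,2,3,4,5,1,6,1,2,0,1,6,5,1,0,2,3,6,1,2,3,2,1,0,1,5,3,4,1,5,3,2,3,2,1,6,4,2,3,0])) .none))) .none)))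

/-- A subtree. -/
def sub151 : WTree :=
  (.node (.node sub150 .none) .none)

/-- A subtree. -/
def sub152 : WTree :=
  (.node .none (.node .none (.node (.node (.node .none (.node (.node .none (.word [1,3,2,1,0,1,3,5,1,2,3,1,0,5,4,1,2,3,2,3,1,2,0,1,5,0])) .none)) (.node (.node .none (.node .none (.word [1,2,5,1,2,6,1,0,2,1,3,5,2,3,1,2,0,1,0,1,2,1,3,4,3,2,3,4,1,2,3,5,4,2,3,1,2,0,1,5,3,0,1,0]))) (.node (.node .none (.word [5,1,2,3,6,1,0,2,1,6,2,1,4,6,5,3,1,2,3,4,1,2,1,0,1,0])) .none))) .none)))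

/-- A subtree. -/
def sub153 : WTree :=
  (.node (.node (.node .none (.node (.node .none (.word [3,4,3,2,3,2,1,0,1,5,1,6,2,3,1,0,1,4,3,2,0,1,6,3,2,3,4,0])) (.node .none (.node (.node .none (.word [3,5,1,2,3,2,1,4,0,1,2,3,2,1,5,4,2,3,0])) .none)))) .none) .none)

/-- A subtree. -/
def sub154 : WTree :=
  (.node (.node (.node (.node .none (.node .none (.node (.node .none (.word [4,3,2,3,6,1,0,2,1,3,5,2,4,6,3,2,1,0,1,6,2,3,4,3,2,0])) .none))) .none) .none) .none)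

/-- A subtree. -/
def sub155 : WTree :=
  (.node (.node sub152 sub153) (.node .none sub154))

/-- A subtree. -/
def sub156 : WTree :=
  (.node .none (.node .none (.node .none (.node (.node .none (.node (.node .none (.word [3,4,3,2,1,3,2,3,4,5,1,5,0,1,3,2,1,4,3,5,2,3,4,0,1,0,1,2,3,2,3,4])) .none)) (.node (.node (.node .none (.word [4,5,1,2,3,2,1,0,6,1,0,3,2,3,4,2,3,1,2,0,2,4,3,2,1,0,6,1,0,5,1,2,3,2,3,4,3,1,2,3,1])) .none) .none)))))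

/-- A subtree. -/
def sub157 : WTree :=
  (.node .none (.node .none (.node (.node (.node .none (.node (.node .none (.word [1,2,3,2,3,4,3,5,1,2,3,2,1,5,0,1,2,5,4,3,2,6,1,2,3,4,2,1,6,5,1,2,3,2,1,6,5,3,4,2,1])) .none)) .none) .none)))

/-- A subtree. -/
def sub158 : WTree :=
  (.node .none (.node (.node (.node (.node .none (.node .none (.word [0,5,1,0,1,2,1,0,5,3,2,1,6,0,1,2,3,2,4,6,1,5,2,0,1,6,3,2,1,0,1,5,1]))) .none) .none) .none))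

/-- A subtree. -/
def sub159 : WTree :=
  (.node (.node sub156 sub157) (.node sub158 .none))

/-- Points. -/
def levY3pts0 : List ℕ := [44,196,329,372,504,512,520,530,738,791,940,1124,1236,1267,1314,1329,1339,1395,1421,1457,1458,1481,1496,1713]

/-- A level. -/
def levY3 : Level :=
  ⟨1496, (.node (.node sub149 sub151) (.node sub155 sub159)), levY3pts0⟩

/-- A subtree. -/
def sub160 : WTree :=
  (.node .none (.node .none (.node (.node .none (.node .none (.node (.node .none (.word [0,1,2,3,2,1,0,5,1,2,3,4,3,1,2,1,0,2,1,0,5,1,2,3,2,3,1,2,3,2,1,5,4,0,1])) .none))) .none)))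

/-- A subtree. -/
def sub161 : WTree :=
  (.node (.node sub160 .none) .none)

/-- A subtree. -/
def sub162 : WTree :=
  (.node (.node (.node (.node (.node (.node (.node .none (.word [1,3,2,4,5,1,0,1,2,1,3,2,1,0,1,5,3,2,1,0,1,2,3,4,3,1,2,0,1,3,2,3,1,2,1,0,1,5,3,4,3])) .none) .none) .none) (.node (.node (.node .none (.word [2,3,2,3,5,6,1,5,6,2,1,6,2,3,2,1,0,1,2,3,6,5,4,3,2,1,0,1,6,1,2,1])) .none) .none)) .none) .none)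

/-- A subtree. -/
def sub163 : WTree :=
  (.node (.node sub162 .none) .none)

/-- A subtree. -/
def sub164 : WTree :=
  (.node .none (.node .none (.node (.node .none (.node (.node .none (.word [6,5,1,2,3,2,1,6,1,0,1,5,1,2,3,2,1,5,6,1,2,1,0,5,1,2,3,1,5,4,3,6,1,0,2,3,2,1,5,2,0,1,6,2,1,0])) .none)) .none)))

/-- A subtree. -/
def sub165 : WTree :=
  (.node (.node .none (.node (.node .none (.node .none (.word [1,5,6,1,2,3,2,5,1,6,5,1,5,2,1,6,3,0,1,2,6,1,0,1,2,3,4,2,3,2,1,2,3,6,2,1,0,1,6,5,3,1,2,3,2]))) .none)) .none)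

/-- A subtree. -/
def sub166 : WTree :=
  (.node (.node .none sub164) (.node sub165 .none))

/-- A subtree. -/
def sub167 : WTree :=
  (.node (.node (.node (.node .none (.node .none (.node (.node .none (.word [])) .none))) .none) (.node (.node .none (.node .none (.node .none (.word [1,5,1,6,1,0,2,1,3,2,3,6,1,5,0,1,2,0,3,2,1,4,3,2,3,4,1,0,1,6,3,2,1,5,3,2,1,0,1,5,3,2,3,0])))) .none)) .none)

/-- A subtree. -/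
def sub168 : WTree :=
  (.node (.node (.node .none (.node (.node (.node .none (.node .none (.word [1,5,1,2,3,2,4,3,2,1,5,0,1,0,1,2,3,6,1,0,2,1,5,4,3,2,1,6,5,1,6,5,4,3]))) .none) .none)) .none) .none)

/-- A subtree. -/
def sub169 : WTree :=
  (.node (.node sub167 .none) (.node sub168 .none))

/-- Points. -/
def levY4pts0 : List ℕ := [421,578,697,931,1026,1411,1456,1607]

/-- A level. -/
def levY4 : Level :=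
  ⟨1411, (.node (.node sub161 sub163) (.node sub166 sub169)), levY4pts0⟩

/-- A subtree. -/
def sub170 : WTree :=
  (.node .none (.node .none (.node (.node .none (.node (.node .none (.node .none (.word []))) .none)) .none)))

/-- A subtree. -/
def sub171 : WTree :=
  (.node (.node (.node (.node (.node .none (.node (.node .none (.word [5,1,0,1,2,1,0,3,5,4,3,2,1,6,2,3,2,1,5,1,2,3,4,3,2,1,0,1,0,6,2,1,6,2,3,2,0,6,1,5,3,4,2,3,0,1,2,1,0,1,5,3])) .none)) .none) .none) .none) .none)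

/-- A subtree. -/
def sub172 : WTree :=
  (.node (.node sub170 sub171) .none)

/-- A subtree. -/
def sub173 : WTree :=
  (.node (.node (.node (.node (.node .none (.node .none (.word [1,2,3,5,6,1,2,3,4,5,6,1,2,5,3,2,1,0,1,5,1,0,1,2,5,1,0,3,2,1,0,2,1,3,4,6,2,3,2,1,0,1,5,1,6,2,1]))) .none) .none) .none) .none)

/-- A subtree. -/
def sub174 : WTree :=
  (.node .none (.node sub173 .none))

/-- Points. -/
def levY5pts0 : List ℕ := [773,1288,1712]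

/-- A level. -/
def levY5 : Level :=
  ⟨1712, (.node (.node sub172 .none) (.node sub174 .none)), levY5pts0⟩

/-- The levels. -/
def levY : List Level := [levY0,levY1,levY2,levY3,levY4,levY5]

/-- The certificate. -/
def cert : AutCert.Cert where
  levX := levX
  levY := levY
  xWord := [5,6,1,5,3,5,1,2,1,5,3,4,2,0]
  hWord := [3,2,3,4,5,2,1,0,1,5,3,4,5,1,2,6,1,0,1,5,2,3,4,2,3,5,2,3,1,2,0,1,5,3,2,3,4,0,3,4,5,6,1,0,1,2,3,2,1,0,1,6,5,3]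
  sWord := [0,1,0,1,5,2,1,6,1,3,2,5,1,2,3,0,1,2,0,2,6,1,2,3,2,0,1,6,2,1,4,5,1,6,1,2,3,2,1,6,5,3,2,1,3,2,4,1,0,1,2,3,2,3,4,3,1,0]
  xPow := [[],
  [5,6,1,5,3,5,1,2,1,5,3,4,2,0],
  [2,0,1,0,1,6,5,3,1,0,4,5,1,0,1,2,3,4,5,6,1,2,3,4,2,3,2,1,6,5,1,3,2,4,3,6,1,2,3,4,3,2,3,2,1,6,4,2,3,1,4,3,2,3,4,5,6,1,2,5,3,2,1,0,1,5,1,6,5,4,3,2,1,6,1,0,1,2,3,4,3,5,1,2,0,1,5,2,3,1,2,3,4,3,2],
  [2,0,1,5,3,4,1,0,3,5,1,6,2,0,1,5,3,0,3,2,5,1,0,2,1,5,3,1,0,2,1,4,3,2,5,3,0,1,0,1,2,5,1,2,6,5,1,2,3,2,1,5,2,6,1,5,6,1,2,3,2,1,6,4,3,2,1,0,6,1,0,1,6,4,2,3,5,2,1,5,3,2,0,3,4,3,2,1,5,1,0,5,1,6,0,1,2,3,2,1,5,3,2,0],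
  [6,3,4,5,1,2,1,6,0,1,5,3,0,3,2,5,1,0,2,1,5,3,1,0,2,1,4,3,2,5,3,0,1,0,1,2,5,1,2,6,5,1,2,3,2,1,5,2,6,1,5,6,1,2,3,2,1,6,4,3,2,1,0,6,1,0,1,6,4,2,3,5,2,1,5,3,2,0,3,4,3,2,1,5,1,0,5,1,6,0,1,2,3,2,1,5,3,2,0],
  [6,0,1,5,2,1,6,2,1,0,1,5,4,2,3,1,2,3,1,2,3,4,0,1,0,2,1,5,1,2,3,4,2,3,1,0,1,0,2,1,3,2,0,1,6,3,2,1,5,0,2,3,2,1,5,6,1,2,3,2,1,6,4,3,2,3,0,2,1,5,6,1,2,3,2,4,3,2,3,4,1,2,4,5,1,6,1,5,2,3,2,1,6,4,3,2,3,1,0,6,5,1,0,2,3,4,6,1,2,5,3,4,2,3,0,1,5,1,2,5,1,2,3,4,1,5,2,5,1,0,2,1,6,2,3,2,0,1,5,4,3,0],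
  [3,0,1,0,2,4,3,2,6,1,5,1,0,1,6,3,2,1,2,3,4,2,3,2,1,2,4,5,1,0,2,3,2,1,5,1,6,3,2,3,2,1,0,2,6,1,2,5,1,0,1,2,3,2,1,6,3,4,1,2,1,3,2,5,3,5,1,0,2,3,4,1,0,3,5,1,6,2,1,6,5,3,1,2,3,4,2,1,0,6,5,1,0,2,3,4,6,1,2,5,3,4,2,3,0,1,5,1,2,5,1,2,3,4,1,5,2,5,1,0,2,1,6,2,3,2,0,1,5,4,3,0],
  [6,3,2,3,4,3,0,2,3,6,5,2,1,0,1,5,6,3,4,3,2,1,4,3,5,2,3,4,2,0,1,6,0,1,5,3,2,3,1,2,4,5,1,6,5,1,2,3,2,1,5,3,2,3,2,3,2,1,5,4,3,2,6,1,2,3,0,1,4,6,1,2,3,4,1,2,3,2,1,6,4,2,1],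
  [2,1,0,1,6,5,0,1,2,3,5,1,6,2,1,5,6,4,0,3,5,1,0,6,1,2,1,5,3,0,1,2,3,6,4,3,2,3,2,1,6,0,1,3,4,5,1,2,3,2,1,0,1,5,4,0,1,2,3,4,2,3,1,2,3,0,1,5,1,2,6,1,5,0,1,0,2,1,3,2,4,3,1,0,1,2,3,0,1,2,3,6,5,1,0,2,3,4,6,1,2,5,3,4,2,3,0,1,5,1,2,5,1,2,3,4,1,5,2,5,1,0,2,1,6,2,3,2,0,1,5,4,3,0],
  [2,3,4,2,5,1,0,1,2,0,1,5,3,2,3,4,2,3,2,1,6,5,1,6,3,2,4,3,2,1,3,2,5,6,4,1,0,1,2,3,1,2,3,0,3,2,3,6,1,2,5,1,0,4,3,2,1,6,5,6,1,5,6,5,1,0,1,2,1,3,2,6,1,5,4,3,2,3,0,4,5,1,6,2,3,1,2,1,0,1,5,6,5,1,0,2,3,4,6,1,2,5,3,4,2,3,0,1,5,1,2,5,1,2,3,4,1,5,2,5,1,0,2,1,6,2,3,2,0,1,5,4,3,0],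
  [6,3,4,3,2,4,3,2,5,1,0,1,6,2,1,5,4,0,3,6,5,1,2,6,1,5,4,3,5,6,1,0,2,3,4,1,2,3,2,0,1,5,6,4,2,3,4,3,2,3,4,5,6,1,2,5,3,2,1,0,1,5,1,6,5,4,3,2,1,6,1,0,1,2,3,4,3,5,1,2,0,1,5,2,3,1,2,3,4,3,2,4,3,2,1,0,6,1,0,1,6,4,2,3,5,2,1,5,3,2,0,3,4,3,2,1,5,1,0,5,1,6,0,1,2,3,2,1,5,3,2,0],
  [4,3,2,3,4,5,1,6,2,0,1,5,2,3,0,4,3,5,1,0,2,1,5,3,4,2,3,5,6,1,0,1,6,2,1,5,3,2,4,3,2,3,4,5,6,1,2,5,3,2,1,0,1,5,1,6,5,4,3,2,1,6,1,0,1,2,3,4,3,5,1,2,0,1,5,2,3,1,2,3,4,3,2,4,3,2,1,0,6,1,0,1,6,4,2,3,5,2,1,5,3,2,0,3,4,3,2,1,5,1,0,5,1,6,0,1,2,3,2,1,5,3,2,0],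
  [6,5,2,1,6,1,5,4,3,2,3]]
  yPow := [[],
  [3,2,3,4,5,2,1,0,1,5,3,4,5,1,2,6,1,0,1,5,2,3,4,2,3,5,2,3,1,2,0,1,5,3,2,3,4,0,3,4,5,6,1,0,1,2,3,2,1,0,1,6,5,3],
  [1,5,4,2,3,2,1,0,1,3,2,4,3,2,1,0,1,5,0,1,2,6,1,2,3,4,5,2,0,1,6,2,3,2,3,4,1,2,5,1,2,3,2,1,0,5,1,2,3,4,2,3,2,1,3,6,5,1,2,3,2,1,6,4,3,2,5,1,3,2,3,4,3,2,1,3,2,6,1,5,3,2,1,0,1,6,3,4,2,0,1,4,3,2,1,0,6,1,0,1,6,4,2,3,5,2,1,5,3,2,0,3,4,3,2,1,5,1,0,5,1,6,0,1,2,3,2,1,5,3,2,0],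
  [2,5,1,0,2,1,5,3,2,3,4,0,4,5,1,0,6,1,2,0,1,6,0,1,5,4,3,2,6,5,1,2,3,4,2,3,2,1,6,0,1,5,3,1,0,1,5,6,1,2,3,2,4,3,2,3,5,1,6,1,2,3,1,2,0,1,5,6,2,3,2,4,3,2,1,0,6,1,0,1,6,4,2,3,5,2,1,5,3,2,0,3,4,3,2,1,5,1,0,5,1,6,0,1,2,3,2,1,5,3,2,0],
  [3,2,3,4,5,1,2,1,6,0,1,5,3,0,1,0,1,0,4,6,1,2,3,4,0,2,3,5,1,0,6,1,6,2,3,0,1,2,1,0,1,5,4,2,3,5,6,1,0,1,2,3,2,1,0,1,6,5,4,3,4,3,2,1,0,6,1,0,1,6,4,2,3,5,2,1,5,3,2,0,3,4,3,2,1,5,1,0,5,1,6,0,1,2,3,2,1,5,3,2,0],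
  [1,5,1,0,5,1,2,6,0,1,5,6,3,6,5,1,2,6,1,5,3,2,4,5,1,0,1,2,3,2,1,6,0,1,5,0,3,2,3,2,1,0,1,2,4,3,2,3,1,2,3,5,1,4,2,3,1,0,1,2,3,2,1,5,1,6,5,1,0,2,3,4,6,1,2,5,3,4,2,3,0,1,5,1,2,5,1,2,3,4,1,5,2,5,1,0,2,1,6,2,3,2,0,1,5,4,3,0]]
  ksX := [0,5,11,4,3]
  ksY := [0,1,5,3,4,2]
  xb := 303
  yb := 465
  genWords := [[1,1,0,0,2,0,2,0,2,0,2,0,1,1,1,1,2,0,2,0,2,0,2,1,0,0,1,0,2,0,2,0,0,0,0,0,2,0,0],
  [0,2,0,2,0,1,1,2,0,2,0,0,2,0,0,1,2,0,1,0,2,0,0,2,0,2,0,2,0,2,1,0,0,0,1],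
  [0,0,0,0,0,0,0,2,0,2,0,0,2,0,2,0,0,2,0,0,2,0,2,0,2,0,0,2,0,2,1,0,2,0,2,1,1,0],
  [1,0,1,0,0,2,0,0,1,0,2,0,0,2,0,0,2,0,2,0,1,0,2,1,0,2,1,1,1,0,2,0,0,2,0,0,0],
  [1,0,0,2,0,1,0,2,0,0,2,0,0,2,0,2,1,1,0,2,1,0,2,1,0,1,0,2,0,0,0,1,0],
  [1,1,0,1,2,0,1,2,0,1,2,0,0,1,1,2,0,2,0,0,2,1,0,2,0,2,1,0,0,0,2,0,0,0,1,0,0],
  [2,0,1,0,2,0,1,0,0,2,0,1,2,0,1,2,0,1,0,0,2,0,0,0,0,2,0,2,0,2,0,2,1,0,2,0,0,0]]
  tauWords := [[3,2,3,4,2,3,4,3,6,5,2,3,2,1,6,5,2,3,4,3,2],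
  [2,0,1,6,5,2,1,3,6,1,0,2,1,5,2,0,1,6,3,0,3,2,3,2,1,5,3,2,4,6,1,2,3,0,1,2,3,4,3,2,3,1,2,1,0,1,2,1,3,4,3,2,1,5,6,3,1,2,3,0,1,0,1,3,2,1,3,2,4,3,2,1,4,3,5,1,6,1,2,1,0,1,5,3,2,3,0],
  [2,1,6,4,2,0,3,2,3,1,2,3,4,2,3,1,0,4,3,2,1,5,0,1,2,3,4,1,2,0,2,1,3,0,1,2,1,4,5,1,2,3,1,2,0,1,5,4,0,1,0],
  [0,1,5,1,2,0,1,0,4,6,1,0,1,2,5,6,1,2,0,1,6,5,3,5,1,0,1,2,5,3,0,1,6,1,2,3,5,1,2,5,4,3,2,1,0,1,6,3,4,1,0,6,1,2,3,5,1,2,3,4,0,1,6,3,2,0,1,0,5,1,2,3,6,1,2,5,3,1,0,2,1,4,6,2,3,0,1,2,0,1,6,2,3,4,3,2,1,0,6,1,0,1,6,4,2,3,5,2,1,5,3,2,0,3,4,3,2,1,5,1,0,5,1,6,0,1,2,3,2,1,5,3,2,0],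
  [5,6,1,2,3,2,1,6,5,0,1,2,4,3,2,3,4,6,5,1,2,3,2,1,5,6,3,2,3,4,2,1,0,1,4,3,2,1,3,2,4,1,0,1,2,3,2,3,4,3,1,0],
  [0,1,5,1,6,3,2,0,1,2,3,5,1,6,2,1,5,6,4,1,0,1,2,1,3,4,2,3,2,1,2,1,5,1,0,3,4,3,2,3,1,0,1,2,3,4,0,4,3,2,5,1,0,2,3,6,2,1,5,6,2,3,5,1,2,1,5,3,4,2,1,0,5,1,2,3,2,5,4,3,0,4,3,2,3,6,1,2,3,2,1,5,1,6,2,1,0],
  [2,1,5,1,4,3,5,1,2,1,6,0,1,5,2,3,4,2]]
  killers := [(3,[0,2,1,1,2,0]),(9,[2,0]),(13,[2,0,1]),(13,[2,1,0,0,1])]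
  p := 13
  e := 4
  f := 2
  c := 10
  k := 1

end Cfsg.Agent.Lib.SporOutSuz
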