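import Cfsg.Agent.Lib.SporOutSuz.Data
import Cfsg.Agent.Lib.SporPres.Suz.Order

/-! The group with its table. -/

set_option autoImplicit false
set_option maxRecDepth 100000

namespace Cfsg.Agent.Lib.SporOutSuz

open Cfsg.Agent.Lib.SporPres.Suz

/-- The group with its representation. -/
@[reducible] noncomputable def model : AutCert.Model Cfsg.Spor.Suz where
  tab := tab
  good := SporPres.Suz.good
  φ := φ
  act := act
  act_φ := act_φ
  inj := card_and_inj.2
  gen := SporPres.Suz.gen

end Cfsg.Agent.Lib.SporOutSuz
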