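import Cfsg.Agent.Lib.SporOutSuz.Group
import Cfsg.Agent.Lib.AutCert.Main

/-! A search. -/

set_option autoImplicit false
set_option maxRecDepth 100000

namespace Cfsg.Agent.Lib.SporOutSuz

open Cfsg.Agent.Lib.Coset Cfsg.Agent.Lib.SporPres.Suz
open Cfsg.Agent.Lib.AutCert (searchOK)

theorem searchX0 : searchOK tab cert.bases cert.levX cert.xPow cert.ksX cert.xWord cert.xWord (cert.goodX tab) 0 119 = true := by decide +kernel

theorem searchX1 : searchOK tab cert.bases cert.levX cert.xPow cert.ksX cert.xWord cert.xWord (cert.goodX tab) 119 119 = true := by decide +kernel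

theorem searchX2 : searchOK tab cert.bases cert.levX cert.xPow cert.ksX cert.xWord cert.xWord (cert.goodX tab) 238 119 = true := by decide +kernel

theorem searchX3 : searchOK tab cert.bases cert.levX cert.xPow cert.ksX cert.xWord cert.xWord (cert.goodX tab) 357 119 = true := by decide +kernel

theorem searchX4 : searchOK tab cert.bases cert.levX cert.xPow cert.ksX cert.xWord cert.xWord (cert.goodX tab) 476 119 = true := by decide +kernel

theorem searchX5 : searchOK tab cert.bases cert.levX cert.xPow cert.ksX cert.xWord cert.xWord (cert.goodX tab) 595 119 = true := by decide +kernel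

theorem searchX6 : searchOK tab cert.bases cert.levX cert.xPow cert.ksX cert.xWord cert.xWord (cert.goodX tab) 714 119 = true := by decide +kernel

theorem searchX7 : searchOK tab cert.bases cert.levX cert.xPow cert.ksX cert.xWord cert.xWord (cert.goodX tab) 833 119 = true := by decide +kernel

theorem searchX8 : searchOK tab cert.bases cert.levX cert.xPow cert.ksX cert.xWord cert.xWord (cert.goodX tab) 952 119 = true := by decide +kernel

theorem searchX9 : searchOK tab cert.bases cert.levX cert.xPow cert.ksX cert.xWord cert.xWord (cert.goodX tab) 1071 119 = true := by decide +kernel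

theorem searchX10 : searchOK tab cert.bases cert.levX cert.xPow cert.ksX cert.xWord cert.xWord (cert.goodX tab) 1190 119 = true := by decide +kernel

theorem searchX11 : searchOK tab cert.bases cert.levX cert.xPow cert.ksX cert.xWord cert.xWord (cert.goodX tab) 1309 119 = true := by decide +kernel

theorem searchX12 : searchOK tab cert.bases cert.levX cert.xPow cert.ksX cert.xWord cert.xWord (cert.goodX tab) 1428 119 = true := by decide +kernel

theorem searchX13 : searchOK tab cert.bases cert.levX cert.xPow cert.ksX cert.xWord cert.xWord (cert.goodX tab) 1547 119 = true := by decide +kernel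

theorem searchX14 : searchOK tab cert.bases cert.levX cert.xPow cert.ksX cert.xWord cert.xWord (cert.goodX tab) 1666 116 = true := by decide +kernel

/-- The ranges of the search. -/
def partsX : List (ℕ × ℕ) := [((0, 119) : ℕ × ℕ), ((119, 119) : ℕ × ℕ), ((238, 119) : ℕ × ℕ), ((357, 119) : ℕ × ℕ), ((476, 119) : ℕ × ℕ), ((595, 119) : ℕ × ℕ), ((714, 119) : ℕ × ℕ), ((833, 119) : ℕ × ℕ), ((952, 119) : ℕ × ℕ), ((1071, 119) : ℕ × ℕ), ((1190, 119) : ℕ × ℕ), ((1309, 119) : ℕ × ℕ), ((1428, 119) : ℕ × ℕ), ((1547, 119) : ℕ × ℕ), ((1666, 116) : ℕ × ℕ)]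

theorem searchX : ∀ q ∈ partsX, searchOK tab cert.bases cert.levX cert.xPow cert.ksX cert.xWord cert.xWord (cert.goodX tab) q.1 q.2 = true := by
  simp only [partsX, List.forall_mem_cons, List.not_mem_nil, IsEmpty.forall_iff, implies_true, and_true]
  exact ⟨searchX0, searchX1, searchX2, searchX3, searchX4, searchX5, searchX6, searchX7, searchX8, searchX9, searchX10, searchX11, searchX12, searchX13, searchX14⟩

theorem coverX : ∀ k < tab.size, ∃ q ∈ partsX, q.1 ≤ k ∧ k < q.1 + q.2 := by
  intro k hk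
  have hk : k < 1782 := lt_of_lt_of_eq hk (by decide +kernel)
  simp only [partsX]
  rcases (show (0 ≤ k ∧ k < 119) ∨ (119 ≤ k ∧ k < 238) ∨ (238 ≤ k ∧ k < 357) ∨ (357 ≤ k ∧ k < 476) ∨ (476 ≤ k ∧ k < 595) ∨ (595 ≤ k ∧ k < 714) ∨ (714 ≤ k ∧ k < 833) ∨ (833 ≤ k ∧ k < 952) ∨ (952 ≤ k ∧ k < 1071) ∨ (1071 ≤ k ∧ k < 1190) ∨ (1190 ≤ k ∧ k < 1309) ∨ (1309 ≤ k ∧ k < 1428) ∨ (1428 ≤ k ∧ k < 1547) ∨ (1547 ≤ k ∧ k < 1666) ∨ (1666 ≤ k ∧ k < 1782) by omega) with h | h | h | h | h | h | h | h | h | h | h | h | h | h | h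
  · exact ⟨(0, 119), by simp, h⟩
  · exact ⟨(119, 119), by simp, h⟩
  · exact ⟨(238, 119), by simp, h⟩
  · exact ⟨(357, 119), by simp, h⟩
  · exact ⟨(476, 119), by simp, h⟩
  · exact ⟨(595, 119), by simp, h⟩
  · exact ⟨(714, 119), by simp, h⟩
  · exact ⟨(833, 119), by simp, h⟩
  · exact ⟨(952, 119), by simp, h⟩
  · exact ⟨(1071, 119), by simp, h⟩
  · exact ⟨(1190, 119), by simp, h⟩
  · exact ⟨(1309, 119), by simp, h⟩
  · exact ⟨(1428, 119), by simp, h⟩
  · exact ⟨(1547, 119), by simp, h⟩
  · exact ⟨(1666, 116), by simp, h⟩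

end Cfsg.Agent.Lib.SporOutSuz
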