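import Cfsg.Agent.Lib.SporOutSuz.Levels
import Cfsg.Agent.Lib.SporOutSuz.SearchX
import Cfsg.Agent.Lib.SporOutSuz.SearchT
import Cfsg.Agent.Lib.SporOutSuz.SearchY

/-! The outer automorphism group of the Suzuki sporadic group has order two. -/

set_option autoImplicit false
set_option maxRecDepth 100000

namespace Cfsg.Agent.Lib.SporOutSuz

open Cfsg Cfsg.Agent.Lib.Coset Cfsg.Agent.Lib.SporPres.Suz
open Cfsg.Agent.Lib.AutCert

theorem words_ok : cert.wordsOK tab = true := by decide +kernel

theorem eqs_ok : cert.eqsOK tab = true := by decide +kernel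

theorem residues_ok : cert.residuesOK = true := by decide +kernel

theorem baseX : baseOK tab cert.levX cert.xPow cert.xb cert.ksX = true := by decide +kernel

theorem baseY : baseOK tab cert.levY cert.yPow cert.yb cert.ksY = true := by decide +kernel

theorem powsX : powsOK tab cert.bases cert.xPow cert.ksX cert.ksX cert.xWord = true := by decide +kernel

theorem powsT : powsOK tab cert.bases cert.xPow cert.esT cert.ksX (cert.xPow.getD cert.f []) = true := by
  decide +kernel

theorem powsAll : powsOK tab cert.bases cert.xPow (List.range cert.p) (List.range cert.p) cert.xWord = true := by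
  decide +kernel

theorem powsY : powsOK tab cert.bases cert.yPow cert.ksY cert.ksY cert.yWord = true := by decide +kernel

theorem tau_gens : cert.tauOK tab ((List.range tab.gens).map fun k => [k, k]) = true := by decide +kernel

theorem tau_rels : cert.tauOK tab pres.base = true := by decide +kernel

theorem tau_length : cert.tauWords.length ≤ tab.gens := by decide +kernel

theorem checks : Checks model cert :=
  ⟨levXfilled, levYfilled, words_ok, eqs_ok, residues_ok, baseX, baseY, powsX, powsT, powsAll, powsY,
    ⟨_, coverX, searchX⟩, ⟨_, coverT, searchT⟩, ⟨_, coverY, searchY⟩⟩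

/-- The images of the generators under the outer automorphism. -/
noncomputable def sig (k : ℕ) : Cfsg.Spor.Suz := model.elt (cert.tauWords.getD k [])

theorem sig_inv (k : ℕ) : sig k * sig k = 1 :=
  checks.sig_inv tau_gens k ((lt_or_ge k tab.gens).imp id tau_length.trans)

/-- The outer automorphism as a homomorphism. -/
noncomputable def tauHom : Cfsg.Spor.Suz →* Cfsg.Spor.Suz :=
  PresentedGroup.toGroup (pres.lift_rels sig sig_inv (checks.sig_rel tau_rels) idx idx_lt gl_idx idx_gl words_lt)

theorem tauHom_φ : ∀ k < tab.gens, tauHom (φ k) = sig k := fun k hk => by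
  show tauHom (PresentedGroup.of _) = _
  rw [tauHom, PresentedGroup.toGroup.of, idx_gl k hk]

theorem out_two : Nat.card (Cfsg.Out Cfsg.Spor.Suz) = 2 := by
  have : Fact (Nat.Prime cert.p) := ⟨by show Nat.Prime 13; norm_num⟩
  have : Finite Cfsg.Spor.Suz := Nat.finite_of_card_ne_zero (by rw [card_and_inj.1]; norm_num)
  have := isSuz.1
  refine checks.out_two tauHom_φ ?_
  show (Nat.card Cfsg.Spor.Suz).factorization 13 = 1
  exact SchurMult.Mathieu.factorization_of (r := 34488115200) (by norm_num)
    (by rw [card_and_inj.1]; norm_num) (by decide)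

end Cfsg.Agent.Lib.SporOutSuz
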